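import Cfsg.Agent.Lib.SectRank.AltFiveCount
import Cfsg.Agent.Lib.Minimal.ExtraspecialTwo
import Cfsg.Agent.Lib.Involutions.Basic
import Cfsg.Prelude.Def_TwoFusion
import Mathlib.GroupTheory.PGroup
import Mathlib.GroupTheory.SpecificGroups.Alternating.Simple
import Mathlib.Data.Fintype.Card

/-!
# Counting pairs of involutions for the Hall–Janko involution pattern
-/

set_option autoImplicit false
set_option linter.unusedSectionVars false
set_option linter.style.haveILetI false
set_option maxRecDepth 4000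

open Cfsg CfsgLib.Involutions

namespace CfsgLib.SectRank.Janko

/-- In an extraspecial group of order 32 with exactly 12 square roots of 1, commuting non-central
involutions are congruent modulo the centre. -/
theorem mul_mem_center_of_commute {P : Type*} [Group P] [Finite P] (hE : IsExtraspecial 2 P)
    (h32 : Nat.card P = 32) (h12 : Nat.card {x : P // x * x = 1} = 12) {a b : P} (ha : a * a = 1)
    (hb : b * b = 1) (ha' : a ∉ Subgroup.center P) (hb' : b ∉ Subgroup.center P)
    (hab : a * b = b * a) : a * b ∈ Subgroup.center P := by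
  classical
  haveI := Fact.mk Nat.prime_two
  by_contra hnc
  set Z := Minimal.ExtraspecialTwo.zE hE with hZdef
  have hswap : ∀ {u v : P}, u * v ≠ v * u → v * u = Z * (u * v) := fun h =>
    Minimal.ExtraspecialTwo.swap_eq hE h
  set Ca := Subgroup.centralizer ({a} : Set P) with hCa
  set Cb := Subgroup.centralizer ({b} : Set P) with hCb
  set E := Ca ⊓ Cb with hEdef
  have hia : Ca.index = 2 := PGroups.IsExtraspecial.index_centralizer hE ha'
  have hib : Cb.index = 2 := PGroups.IsExtraspecial.index_centralizer hE hb'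
  have hmemE : ∀ {y : P}, y ∈ E ↔ y * a = a * y ∧ y * b = b * y := fun {y} => by
    rw [hEdef, Subgroup.mem_inf, hCa, hCb, mem_centralizer_singleton, mem_centralizer_singleton]
  have hne : Ca ≠ Cb := by
    intro e
    refine hnc (Subgroup.mem_center_iff.2 fun y => ?_)
    by_cases hy : y * a = a * y
    · have hy' : y ∈ Cb := e ▸ mem_centralizer_singleton.2 hy
      rw [← mul_assoc, hy, mul_assoc, mem_centralizer_singleton.1 hy', ← mul_assoc]
    · have hy' : ¬ y * b = b * y := fun h => hy (mem_centralizer_singleton.1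
        (e.symm ▸ mem_centralizer_singleton.2 h : y ∈ Ca))
      have h1 := hswap hy
      have h2 := hswap hy'
      have hZc : ∀ u, Z * u = u * Z := Minimal.ExtraspecialTwo.zE_comm hE
      symm
      calc a * b * y = a * (b * y) := mul_assoc _ _ _
        _ = a * (Z * (y * b)) := by rw [h2]
        _ = Z * (a * y) * b := by rw [← mul_assoc a Z, ← hZc a]; group
        _ = Z * (Z * (y * a)) * b := by rw [h1]
        _ = y * (a * b) := by rw [← mul_assoc Z Z, Minimal.ExtraspecialTwo.zE_sq hE]; group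
  have hE8 : Nat.card E = 8 := by
    have hd := Subgroup.card_subgroup_dvd_card E
    rw [h32] at hd
    have hmul := E.card_mul_index
    rw [h32] at hmul
    have hle : E.index ≤ 4 := by
      have := Subgroup.index_inf_le (H := Ca) (K := Cb)
      rw [hia, hib] at this
      exact this
    have hgt : 2 < E.index := by
      have h1 : Ca.index ∣ E.index := Subgroup.index_dvd_of_le inf_le_left
      rw [hia] at h1
      have h0 : E.index ≠ 0 := Subgroup.index_ne_zero_of_finite
      rcases Nat.lt_or_ge 2 E.index with h | h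
      · exact h
      · exfalso
        have e2 : E.index = 2 := by
          have := Nat.le_of_dvd (Nat.pos_of_ne_zero h0) h1
          omega
        have hA : E = Ca := Subgroup.eq_of_le_of_card_ge inf_le_left (by
          have := Ca.card_mul_index
          rw [h32, hia] at this
          rw [e2] at hmul
          omega)
        have hB : E = Cb := Subgroup.eq_of_le_of_card_ge inf_le_right (by
          have := Cb.card_mul_index
          rw [h32, hib] at this
          rw [e2] at hmul
          omega)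
        exact hne (hA.symm.trans hB)
    have h34 : E.index = 3 ∨ E.index = 4 := by omega
    rcases h34 with e | e <;> rw [e] at hmul <;> omega
  -- `E` is elementary abelian
  set K1 := Subgroup.center P ⊔ Subgroup.zpowers a with hK1
  set K2 := K1 ⊔ Subgroup.zpowers b with hK2
  have hK2E : K2 ≤ E := by
    rw [hK2, hK1]
    refine sup_le (sup_le (fun y hy => ?_) ?_) ?_
    · exact hmemE.2 ⟨(Subgroup.mem_center_iff.1 hy a).symm, (Subgroup.mem_center_iff.1 hy b).symm⟩
    · rw [Subgroup.zpowers_le]; exact hmemE.2 ⟨rfl, hab⟩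
    · rw [Subgroup.zpowers_le]; exact hmemE.2 ⟨hab.symm, rfl⟩
  have hbK1 : b ∉ K1 := by
    intro h
    obtain ⟨w, hw, u, hu, e⟩ := Subgroup.mem_sup_of_normal_left.1 h
    obtain ⟨i, rfl⟩ := Subgroup.mem_zpowers_iff.1 hu
    have ha2 : orderOf a = 2 := orderOf_eq_prime (by rw [pow_two]; exact ha) fun e => ha' (e ▸ one_mem _)
    rw [← zpow_mod_orderOf, ha2] at e
    rcases Int.emod_two_eq_zero_or_one i with ei | ei
    · rw [show i % ((2 : ℕ) : ℤ) = 0 from ei, zpow_zero, mul_one] at e
      exact hb' (e ▸ hw)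
    · rw [show i % ((2 : ℕ) : ℤ) = 1 from ei, zpow_one] at e
      refine hnc ?_
      rw [hab, ← e, mul_assoc, ha, mul_one]
      exact hw
  have hK1card : 4 ≤ Nat.card K1 := by
    have hlt : Subgroup.center P < K1 := lt_of_le_of_ne le_sup_left fun e =>
      ha' (e ▸ Subgroup.mem_sup_right (Subgroup.mem_zpowers a))
    obtain ⟨j, hj⟩ := Subgroup.card_dvd_of_le hlt.le
    have h1 : Nat.card (Subgroup.center P) < Nat.card K1 :=
      lt_of_le_of_ne (Subgroup.card_le_of_le hlt.le) fun e =>
        hlt.ne (Subgroup.eq_of_le_of_card_ge hlt.le e.ge)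
    rw [hE.2] at hj h1
    omega
  have hK2card : 8 ≤ Nat.card K2 := by
    have hlt : K1 < K2 := lt_of_le_of_ne le_sup_left fun e =>
      hbK1 (e ▸ Subgroup.mem_sup_right (Subgroup.mem_zpowers b))
    obtain ⟨j, hj⟩ := Subgroup.card_dvd_of_le hlt.le
    have h1 : Nat.card K1 < Nat.card K2 :=
      lt_of_le_of_ne (Subgroup.card_le_of_le hlt.le) fun e =>
        hlt.ne (Subgroup.eq_of_le_of_card_ge hlt.le e.ge)
    have hj2 : 2 ≤ j := by
      rcases j with _ | _ | j <;> omega
    rw [hj]
    calc 8 = 4 * 2 := rfl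
      _ ≤ _ := Nat.mul_le_mul hK1card hj2
  have hEK : K2 = E := Subgroup.eq_of_le_of_card_ge hK2E (by omega)
  have hcomm : ∀ y ∈ E, ∀ y' ∈ E, y * y' = y' * y := by
    have h : K2 ≤ Subgroup.centralizer (E : Set P) := by
      rw [hK2, hK1]
      refine sup_le (sup_le (fun w hw => ?_) ?_) ?_
      · exact Subgroup.mem_centralizer_iff.2 fun y _ => Subgroup.mem_center_iff.1 hw y
      · rw [Subgroup.zpowers_le]
        exact Subgroup.mem_centralizer_iff.2 fun y hy => (hmemE.1 hy).1
      · rw [Subgroup.zpowers_le]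
        exact Subgroup.mem_centralizer_iff.2 fun y hy => (hmemE.1 hy).2
    intro y hy y' hy'
    exact Subgroup.mem_centralizer_iff.1 (h (hEK.symm ▸ hy')) y hy
  have hexp : ∀ y ∈ E, y * y = 1 := by
    let T : Subgroup P :=
      { carrier := {y | y ∈ E ∧ y * y = 1}
        one_mem' := ⟨E.one_mem, mul_one 1⟩
        mul_mem' := fun {u v} hu hv => ⟨E.mul_mem hu.1 hv.1, by
          rw [mul_assoc, ← mul_assoc v, hcomm v hv.1 u hu.1, mul_assoc, hv.2, mul_one, hu.2]⟩
        inv_mem' := fun {u} hu => ⟨E.inv_mem hu.1, by rw [← mul_inv_rev, hu.2, inv_one]⟩ }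
    have h : K2 ≤ T := by
      rw [hK2, hK1]
      refine sup_le (sup_le (fun w hw => ?_) ?_) ?_
      · refine ⟨hK2E (Subgroup.mem_sup_left (Subgroup.mem_sup_left hw)), ?_⟩
        rcases Minimal.ExtraspecialTwo.zE_cases hE hw with e | e <;> rw [e]
        · exact mul_one 1
        · exact Minimal.ExtraspecialTwo.zE_sq hE
      · rw [Subgroup.zpowers_le]; exact ⟨hmemE.2 ⟨rfl, hab⟩, ha⟩
      · rw [Subgroup.zpowers_le]; exact ⟨hmemE.2 ⟨hab.symm, rfl⟩, hb⟩
    intro y hy
    exact (h (hEK.symm ▸ hy)).2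
  haveI := Fintype.ofFinite P
  set Es := Finset.univ.filter fun y : P => y ∈ E with hEs
  have hEscard : Es.card = 8 := by rw [← hE8, Nat.card_eq_fintype_card, Fintype.card_subtype]
  have hrow : ∀ x : P, (Es.filter fun y => x * y * (x * y) = 1).card = if x ∈ E then 8 else 4 := by
    intro x
    split_ifs with hx
    · rw [Finset.filter_true_of_mem, hEscard]
      exact fun y hy => hexp _ (E.mul_mem hx (Finset.mem_filter.1 hy).2)
    · obtain ⟨y₀, hy₀, hne0⟩ : ∃ y₀ ∈ E, x * y₀ ≠ y₀ * x := by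
        by_contra h
        push Not at h
        exact hx (hmemE.2 ⟨h a (hmemE.2 ⟨rfl, hab⟩), h b (hmemE.2 ⟨hab.symm, rfl⟩)⟩)
      have hflip : ∀ y ∈ E, (x * (y * y₀) * (x * (y * y₀)) = 1 ↔ ¬ x * y * (x * y) = 1) := by
        intro y hy
        have hcy : y₀ * (x * y) = Z * (x * y * y₀) := by
          calc y₀ * (x * y) = y₀ * x * y := (mul_assoc _ _ _).symm
            _ = Z * (x * y₀) * y := by rw [hswap hne0]
            _ = Z * (x * (y₀ * y)) := by group
            _ = Z * (x * y * y₀) := by rw [hcomm y₀ hy₀ y hy, ← mul_assoc x y y₀]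
        have hZc := Minimal.ExtraspecialTwo.zE_comm hE
        have e : x * (y * y₀) * (x * (y * y₀)) = Z * (x * y * (x * y)) := by
          calc x * (y * y₀) * (x * (y * y₀)) = x * y * (y₀ * (x * y)) * y₀ := by group
            _ = x * y * (Z * (x * y * y₀)) * y₀ := by rw [hcy]
            _ = Z * (x * y * (x * y) * (y₀ * y₀)) := by rw [← mul_assoc (x * y), ← hZc]; group; rfl
            _ = _ := by rw [hexp y₀ hy₀, mul_one]
        rw [e]
        rcases Minimal.ExtraspecialTwo.sq_cases hE (x * y) with h | h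
        · exact iff_of_false (by rw [h, mul_one]; exact Minimal.ExtraspecialTwo.zE_ne hE) (not_not_intro h)
        · exact iff_of_true (by rw [h]; exact Minimal.ExtraspecialTwo.zE_sq hE)
            (by rw [h]; exact Minimal.ExtraspecialTwo.zE_ne hE)
      have hbij : (Es.filter fun y => x * y * (x * y) = 1).card =
          (Es.filter fun y => ¬ x * y * (x * y) = 1).card := by
        refine Finset.card_bij' (fun y _ => y * y₀) (fun y _ => y * y₀) ?_ ?_ ?_ ?_
        · intro y hy
          obtain ⟨h1, h2⟩ := Finset.mem_filter.1 hy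
          have hy' := (Finset.mem_filter.1 h1).2
          exact Finset.mem_filter.2 ⟨Finset.mem_filter.2 ⟨Finset.mem_univ _, E.mul_mem hy' hy₀⟩,
            fun h => (hflip y hy').1 h h2⟩
        · intro y hy
          obtain ⟨h1, h2⟩ := Finset.mem_filter.1 hy
          have hy' := (Finset.mem_filter.1 h1).2
          exact Finset.mem_filter.2 ⟨Finset.mem_filter.2 ⟨Finset.mem_univ _, E.mul_mem hy' hy₀⟩,
            (hflip y hy').2 h2⟩
        · intro y _; rw [mul_assoc, hexp y₀ hy₀, mul_one]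
        · intro y _; rw [mul_assoc, hexp y₀ hy₀, mul_one]
      have := Finset.card_filter_add_card_filter_not (s := Es) (fun y => x * y * (x * y) = 1)
      omega
  have hcol : ∀ y : P, (Finset.univ.filter fun x : P => x * y * (x * y) = 1).card = 12 := by
    intro y
    rw [← h12, Nat.card_eq_fintype_card, Fintype.card_subtype]
    exact Finset.card_equiv (Equiv.mulRight y) (fun x => by simp)
  have hdouble : ∑ x : P, (Es.filter fun y => x * y * (x * y) = 1).card =
      ∑ y ∈ Es, (Finset.univ.filter fun x : P => x * y * (x * y) = 1).card := by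
    simp only [Finset.card_filter]
    exact Finset.sum_comm
  have hcompl : (Finset.univ.filter fun x : P => ¬ x ∈ E).card = 24 := by
    have h1 := Finset.card_filter_add_card_filter_not (s := (Finset.univ : Finset P)) (fun x => x ∈ E)
    rw [Finset.card_univ, Fintype.card_eq_nat_card, h32] at h1
    rw [hEs] at hEscard
    omega
  rw [Finset.sum_congr rfl fun x _ => hrow x, Finset.sum_congr rfl fun y _ => hcol y,
    Finset.sum_ite, Finset.sum_const, Finset.sum_const, Finset.sum_const, hcompl, hEscard] at hdouble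
  norm_num at hdouble

variable {G : Type*} [Group G] [Finite G] {z t : G}

/-- The pairs counted at `t`. -/
theorem card_pairs_at_t {V B : Subgroup G}
    (hVB : IsInternalDirectProduct V B (Subgroup.centralizer ({t} : Set G)))
    (hV2 : ∀ v ∈ V, v ^ 2 = 1) (htV : t ∈ V) (eB : B ≃* alternatingGroup (Fin 5))
    (ht : orderOf t = 2) (hz : orderOf z = 2) (hzt : ¬ IsConj z t)
    (hBz : ∀ x ∈ B, orderOf x = 2 → IsConj x z)
    (hCt : ∀ x ∈ Subgroup.centralizer ({t} : Set G), orderOf x = 2 → x ∉ B → IsConj x t) :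
    Nat.card {q : G × G // IsConj z q.1 ∧ IsConj t q.2 ∧ t ∈ Subgroup.zpowers (q.1 * q.2)} = 195 := by
  classical
  obtain ⟨hVC, hBC, hcomm, hVBb, hsup⟩ := hVB
  have htt := mul_self_eq_one ht
  have hdec : ∀ c ∈ Subgroup.centralizer ({t} : Set G), ∃ v ∈ V, ∃ β ∈ B, c = v * β := by
    intro c hc
    rw [← hsup] at hc
    let T : Subgroup G :=
      { carrier := {c | ∃ v ∈ V, ∃ β ∈ B, c = v * β}
        one_mem' := ⟨1, V.one_mem, 1, B.one_mem, (one_mul 1).symm⟩
        mul_mem' := by
          rintro _ _ ⟨v, hv, β, hβ, rfl⟩ ⟨v', hv', β', hβ', rfl⟩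
          refine ⟨v * v', V.mul_mem hv hv', β * β', B.mul_mem hβ hβ', ?_⟩
          rw [mul_assoc, ← mul_assoc β, ← hcomm v' hv' β hβ, mul_assoc, mul_assoc]
        inv_mem' := by
          rintro _ ⟨v, hv, β, hβ, rfl⟩
          exact ⟨v⁻¹, V.inv_mem hv, β⁻¹, B.inv_mem hβ, by
            rw [mul_inv_rev, hcomm _ (V.inv_mem hv) _ (B.inv_mem hβ)]⟩ }
    exact (sup_le (fun v hv => ⟨v, hv, 1, B.one_mem, (mul_one v).symm⟩)
      (fun β hβ => ⟨1, V.one_mem, β, hβ, (one_mul β).symm⟩) : V ⊔ B ≤ T) hc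
  have huni : ∀ v ∈ V, ∀ β ∈ B, v * β ∈ B → v = 1 := by
    intro v hv β hβ h
    have h1 : v ∈ B := by simpa using B.mul_mem h (B.inv_mem hβ)
    have h2 : v ∈ V ⊓ B := ⟨hv, h1⟩
    rwa [hVBb, Subgroup.mem_bot] at h2
  have ht1 : t ≠ 1 := ne_one ht
  set S := Finset.univ.filter fun p : alternatingGroup (Fin 5) × alternatingGroup (Fin 5) =>
    (p.1 * p.1 = 1 ∧ p.1 ≠ 1) ∧ p.2 * p.2 = 1 ∧ (p.2 * p.1 ≠ p.1 * p.2 ∨ p.2 = p.1) with hS
  have hScard : S.card = 195 := by
    have e := Finset.card_eq_sum_card_fiberwise (s := S) (f := Prod.fst)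
      (t := Finset.univ.filter fun a : alternatingGroup (Fin 5) => a * a = 1 ∧ a ≠ 1) fun p hp => by
        rw [Finset.mem_coe, hS, Finset.mem_filter] at hp
        exact Finset.mem_coe.2 (Finset.mem_filter.2 ⟨Finset.mem_univ _, hp.2.1⟩)
    rw [e, Finset.sum_congr rfl (g := fun _ => 13) fun a ha => ?_, Finset.sum_const,
      AltFive.card_involutions, smul_eq_mul]
    rw [← AltFive.card_odd_product a ha]
    have ha' := (Finset.mem_filter.1 ha).2
    refine Finset.card_bij' (fun p _ => p.2) (fun b _ => (a, b)) ?_ ?_ ?_ ?_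
    · intro p hp
      obtain ⟨h1, rfl⟩ := Finset.mem_filter.1 hp
      rw [hS, Finset.mem_filter] at h1
      exact Finset.mem_filter.2 ⟨Finset.mem_univ _, h1.2.2⟩
    · intro b hb
      rw [Finset.mem_filter, hS, Finset.mem_filter]
      exact ⟨⟨Finset.mem_univ _, ha', (Finset.mem_filter.1 hb).2⟩, rfl⟩
    · intro p hp
      obtain ⟨-, rfl⟩ := Finset.mem_filter.1 hp
      rfl
    · intro b _; rfl
  rw [← hScard, ← Nat.card_eq_finsetCard]
  have hfwd : ∀ p : S, IsConj z ((eB.symm p.1.1 : B) : G) ∧ IsConj t (t * (eB.symm p.1.2 : B)) ∧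
      t ∈ Subgroup.zpowers (((eB.symm p.1.1 : B) : G) * (t * (eB.symm p.1.2 : B))) := by
    rintro ⟨⟨a, b⟩, hp⟩
    simp only [hS, Finset.mem_filter, Finset.mem_univ, true_and] at hp
    obtain ⟨⟨ha, ha1⟩, hb, hodd⟩ := hp
    set α : G := ((eB.symm a : B) : G) with hα
    set β : G := ((eB.symm b : B) : G) with hβ
    have hαB : α ∈ B := (eB.symm a).2
    have hβB : β ∈ B := (eB.symm b).2
    have hαo : orderOf α = 2 := by
      rw [hα, Subgroup.orderOf_coe, MulEquiv.orderOf_eq]
      exact orderOf_eq_prime (by rw [pow_two, ha]) ha1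
    have htβ : t * β = β * t := hcomm t htV β hβB
    have hbo : orderOf (t * β) = 2 := by
      refine orderOf_eq_prime ?_ fun e => ht1 (huni t htV β hβB (e ▸ B.one_mem))
      have hββ : β * β = 1 := by
        rw [hβ, ← Subgroup.coe_mul, ← map_mul, hb, map_one, Subgroup.coe_one]
      rw [pow_two, mul_assoc, ← mul_assoc β, ← htβ, mul_assoc, hββ, mul_one, htt]
    refine ⟨(hBz α hαB hαo).symm,
      (hCt _ (Subgroup.mul_mem _ (hVC htV) (hBC hβB)) hbo fun h => ht1 (huni t htV β hβB h)).symm, ?_⟩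
    have h15 : (a * b) ^ 15 = 1 := by
      rcases hodd with h | h
      · refine (AltFive.sq_or_pow_fifteen (a * b)).resolve_left fun e => h ?_
        have h1 : a * b = (a * b)⁻¹ := (inv_eq_of_mul_eq_one_right e).symm
        rw [mul_inv_rev, inv_eq_of_mul_eq_one_right ha, inv_eq_of_mul_eq_one_right hb] at h1
        exact h1.symm
      · rw [h, ha, one_pow]
    refine Subgroup.mem_zpowers_iff.2 ⟨((15 : ℕ) : ℤ), ?_⟩
    rw [zpow_natCast, show α * (t * β) = t * (α * β) by rw [← mul_assoc, ← hcomm t htV α hαB, mul_assoc],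
      (show Commute t (α * β) from hcomm t htV _ (B.mul_mem hαB hβB)).mul_pow]
    have : (α * β) ^ 15 = 1 := by
      rw [hα, hβ, ← Subgroup.coe_mul, ← map_mul, ← Subgroup.coe_pow, ← map_pow, h15, map_one,
        Subgroup.coe_one]
    rw [this, mul_one, show (15 : ℕ) = 2 * 7 + 1 from rfl, pow_succ, pow_mul, pow_two, htt, one_pow,
      one_mul]
  refine (Nat.card_eq_of_bijective (fun p : S =>
    (⟨(((eB.symm p.1.1 : B) : G), t * (eB.symm p.1.2 : B)), hfwd p⟩ :
      {q : G × G // IsConj z q.1 ∧ IsConj t q.2 ∧ t ∈ Subgroup.zpowers (q.1 * q.2)}))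
    ⟨fun p q h => ?_, ?_⟩).symm
  · have h' := congrArg Subtype.val h
    simp only [Prod.mk.injEq, mul_right_inj] at h'
    exact Subtype.ext (Prod.ext (eB.symm.injective (Subtype.ext h'.1)) (eB.symm.injective (Subtype.ext h'.2)))
  · rintro ⟨⟨u, w⟩, hu, hw, hz'⟩
    have huo : orderOf u = 2 := (orderOf_eq_of_isConj hu).symm.trans hz
    have hwo : orderOf w = 2 := (orderOf_eq_of_isConj hw).symm.trans ht
    have huu := mul_self_eq_one huo
    have hww := mul_self_eq_one hwo
    obtain ⟨i, hi⟩ := Subgroup.mem_zpowers_iff.1 hz'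
    simp only at hi
    have hinv : ∀ s : G, s * (u * w) * s⁻¹ = (u * w)⁻¹ → t * s = s * t := by
      intro s hs
      have h1 : s * t * s⁻¹ = t := by
        rw [← hi, ← conj_zpow, hs, inv_zpow, hi, inv_eq_self ht]
      exact (mul_inv_eq_iff_eq_mul.1 h1).symm
    have huC : u ∈ Subgroup.centralizer ({t} : Set G) := mem_centralizer_singleton.2 (hinv u (by
      rw [mul_inv_rev, inv_eq_self huo, inv_eq_self hwo, ← mul_assoc, huu, one_mul])).symm
    have hwC : w ∈ Subgroup.centralizer ({t} : Set G) := mem_centralizer_singleton.2 (hinv w (by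
      rw [mul_inv_rev, inv_eq_self huo, inv_eq_self hwo]
      rw [mul_assoc, mul_assoc, hww, mul_one])).symm
    have huB : u ∈ B := by
      by_contra h
      exact hzt (hu.trans (hCt u huC huo h))
    obtain ⟨v, hv, β, hβ, rfl⟩ := hdec w hwC
    have hvv : v * v = 1 := by rw [← pow_two]; exact hV2 v hv
    have hcv : Commute v (u * β) := hcomm v hv _ (B.mul_mem huB hβ)
    rw [show u * (v * β) = v * (u * β) by rw [← mul_assoc, ← hcomm v hv u huB, mul_assoc],
      hcv.mul_zpow] at hi
    have hvi : v ^ i ∈ V := zpow_mem hv i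
    have hbi : (u * β) ^ i ∈ B := zpow_mem (B.mul_mem huB hβ) i
    have h1 : (u * β) ^ i = 1 := by
      have h2 : (u * β) ^ i ∈ V ⊓ B := ⟨by
        have e : (u * β) ^ i = (v ^ i)⁻¹ * t := by rw [← hi]; group
        rw [e]
        exact V.mul_mem (V.inv_mem hvi) htV, hbi⟩
      rwa [hVBb, Subgroup.mem_bot] at h2
    rw [h1, mul_one] at hi
    have hvo : orderOf v ∣ 2 := orderOf_dvd_of_pow_eq_one (hV2 v hv)
    rw [← zpow_mod_orderOf] at hi
    have hiodd : i % 2 = 1 ∧ v = t := by
      rcases (Nat.dvd_prime Nat.prime_two).1 hvo with e | e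
      · rw [orderOf_eq_one_iff] at e
        rw [e, one_zpow] at hi
        exact absurd hi.symm ht1
      · rw [e] at hi
        rcases Int.emod_two_eq_zero_or_one i with ei | ei
        · rw [show i % ((2 : ℕ) : ℤ) = 0 from ei, zpow_zero] at hi
          exact absurd hi.symm ht1
        · rw [show i % ((2 : ℕ) : ℤ) = 1 from ei, zpow_one] at hi
          exact ⟨ei, hi⟩
    obtain ⟨hi2, hvt⟩ := hiodd
    subst hvt
    have hββ : β * β = 1 := by
      rw [show β * β = v * β * (v * β) by
        rw [mul_assoc, ← mul_assoc β, ← hcomm v htV β hβ, mul_assoc, ← mul_assoc v, htt, one_mul], hww]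
    refine ⟨⟨(eB ⟨u, huB⟩, eB ⟨β, hβ⟩), ?_⟩, Subtype.ext (by simp)⟩
    simp only [hS, Finset.mem_filter, Finset.mem_univ, true_and]
    refine ⟨⟨?_, ?_⟩, ?_, ?_⟩
    · rw [← map_mul, show (⟨u, huB⟩ : B) * ⟨u, huB⟩ = 1 from Subtype.ext huu, map_one]
    · rw [ne_eq, MulEquiv.map_eq_one_iff]
      exact fun h => ne_one huo (congrArg Subtype.val h)
    · rw [← map_mul, show (⟨β, hβ⟩ : B) * ⟨β, hβ⟩ = 1 from Subtype.ext hββ, map_one]
    · rw [or_iff_not_imp_left, not_not]
      intro hc
      have hc' : β * u = u * β := by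
        have := eB.injective (by rwa [← map_mul, ← map_mul] at hc :
          eB (⟨β, hβ⟩ * ⟨u, huB⟩) = eB (⟨u, huB⟩ * ⟨β, hβ⟩))
        exact congrArg Subtype.val this
      have h2 : (u * β) ^ (2 : ℕ) = 1 := by
        rw [pow_two, mul_assoc, ← mul_assoc β, hc', mul_assoc, hββ, mul_one, huu]
      have h3 : u * β = 1 := by
        rw [← h1]
        conv_rhs => rw [← Int.emod_add_mul_ediv i 2, hi2, zpow_add, zpow_one, zpow_mul]
        rw [show ((u * β) ^ (2 : ℤ)) = 1 by rw [show (2 : ℤ) = ((2 : ℕ) : ℤ) from rfl, zpow_natCast, h2],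
          one_zpow, mul_one]
      exact congrArg eB (Subtype.ext ((eq_inv_of_mul_eq_one_right h3).trans (inv_eq_self huo)))

/-- The pairs counted at `z`. -/
theorem card_pairs_at_z (Q K V B : Subgroup G) (hQH : Q ≤ Subgroup.centralizer ({z} : Set G))
    (hQn : ∀ h ∈ Subgroup.centralizer ({z} : Set G), ∀ q ∈ Q, h * q * h⁻¹ ∈ Q)
    (hQe : IsExtraspecial 2 Q) (hQ : Nat.card Q = 32) (hzQ : z ∈ Q)
    (eK : K ≃* alternatingGroup (Fin 5)) (hKC : K ⊔ Q = Subgroup.centralizer ({z} : Set G))
    (hKQ : K ⊓ Q = ⊥) (hz : orderOf z = 2) (ht : orderOf t = 2) (hzt : ¬ IsConj z t)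
    (hQz : ∀ x ∈ Q, orderOf x = 2 → IsConj x z)
    (hCz : ∀ x ∈ Subgroup.centralizer ({z} : Set G), orderOf x = 2 → x ∉ Q → IsConj x t)
    (hVB : IsInternalDirectProduct V B (Subgroup.centralizer ({t} : Set G)))
    (hV : Nat.card V = 4) (hV2 : ∀ v ∈ V, v ^ 2 = 1) (eB : B ≃* alternatingGroup (Fin 5))
    (hCt : ∀ x ∈ Subgroup.centralizer ({t} : Set G), orderOf x = 2 → x ∉ B → IsConj x t) :
    Nat.card (Subgroup.centralizer ({t} : Set G)) = 240 ∧
    Nat.card (Subgroup.centralizer ({z} : Set G)) = 1920 ∧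
    Nat.card {q : G × G // IsConj z q.1 ∧ IsConj t q.2 ∧ z ∈ Subgroup.zpowers (q.1 * q.2)} = 960 := by
  classical
  haveI := Fact.mk Nat.prime_two
  haveI := Fintype.ofFinite G
  obtain ⟨hVC, hBC, hcomm, hVBb, hsup⟩ := hVB
  set H := Subgroup.centralizer ({z} : Set G) with hH
  set Ct := Subgroup.centralizer ({t} : Set G) with hCtdef
  have hzz := mul_self_eq_one hz
  have hA60 : Nat.card (alternatingGroup (Fin 5)) = 60 := by
    rw [nat_card_alternatingGroup, Nat.card_fin]; rfl
  have hKH : K ≤ H := hKC ▸ le_sup_left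
  have hzc : ∀ q ∈ Q, q * z = z * q := fun q hq => mem_centralizer_singleton.1 (hQH hq)
  have hQnH : (Q.subgroupOf H).Normal := ⟨fun q hq h => hQn h h.2 q hq⟩
  -- the quotient of `H` by `Q`
  let ι : K →* H ⧸ Q.subgroupOf H := (QuotientGroup.mk' _).comp (Subgroup.inclusion hKH)
  have hιinj : Function.Injective ι := by
    rw [← MonoidHom.ker_eq_bot_iff, eq_bot_iff]
    intro k hk
    rw [MonoidHom.mem_ker] at hk
    have h1 : (k : G) ∈ Q :=
      (QuotientGroup.eq_one_iff (N := Q.subgroupOf H) (Subgroup.inclusion hKH k)).1 hk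
    have h2 : (k : G) ∈ K ⊓ Q := ⟨k.2, h1⟩
    rw [hKQ, Subgroup.mem_bot] at h2
    exact Subgroup.mem_bot.2 (Subtype.ext h2)
  have hιsurj : Function.Surjective ι := by
    intro y
    obtain ⟨h, rfl⟩ := QuotientGroup.mk'_surjective _ y
    have hh : (⟨h, h.2⟩ : H) ∈ K.subgroupOf H ⊔ Q.subgroupOf H := by
      rw [← Subgroup.subgroupOf_sup hKH hQH, hKC, Subgroup.subgroupOf_self]
      trivial
    obtain ⟨k, hk, q, hq, e⟩ := Subgroup.mem_sup_of_normal_right.1 hh
    refine ⟨⟨(k : G), hk⟩, ?_⟩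
    show QuotientGroup.mk' (Q.subgroupOf H) k = _
    rw [QuotientGroup.mk'_apply, QuotientGroup.mk'_apply, QuotientGroup.eq,
      show k⁻¹ * h = q by rw [inv_mul_eq_iff_eq_mul]; exact e.symm]
    exact hq
  let π : H ⧸ Q.subgroupOf H ≃* alternatingGroup (Fin 5) :=
    (MulEquiv.ofBijective ι ⟨hιinj, hιsurj⟩).symm.trans eK
  let φ : H →* alternatingGroup (Fin 5) := π.toMonoidHom.comp (QuotientGroup.mk' _)
  have hφker : ∀ h : H, φ h = 1 ↔ (h : G) ∈ Q := by
    intro h
    show π (QuotientGroup.mk' _ h) = 1 ↔ _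
    rw [MulEquiv.map_eq_one_iff, QuotientGroup.mk'_apply, QuotientGroup.eq_one_iff]
    rfl
  have hφK : ∀ k : K, φ ⟨k, hKH k.2⟩ = eK k := by
    intro k
    show eK ((MulEquiv.ofBijective ι ⟨hιinj, hιsurj⟩).symm (ι k)) = eK k
    congr 1
    exact (MulEquiv.ofBijective ι ⟨hιinj, hιsurj⟩).symm_apply_apply k
  have hH1920 : Nat.card H = 1920 := by
    rw [← (Q.subgroupOf H).card_mul_index, Nat.card_congr (Subgroup.subgroupOfEquivOfLe hQH).toEquiv,
      hQ, Subgroup.index_eq_card, Nat.card_congr π.toEquiv, hA60]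
  -- the centralizer of `t`
  let μ : V × B → Ct := fun p => ⟨(p.1 : G) * p.2, Ct.mul_mem (hVC p.1.2) (hBC p.2.2)⟩
  have hμinj : Function.Injective μ := by
    rintro ⟨v, β⟩ ⟨v', β'⟩ h
    have e : (v : G) * β = v' * β' := congrArg Subtype.val h
    have h1 : (v' : G)⁻¹ * v ∈ V ⊓ B := ⟨V.mul_mem (V.inv_mem v'.2) v.2, by
      have : (v' : G)⁻¹ * v = β' * (β : G)⁻¹ := by
        rw [inv_mul_eq_iff_eq_mul, ← mul_assoc, eq_mul_inv_iff_mul_eq]; exact e
      rw [this]
      exact B.mul_mem β'.2 (B.inv_mem β.2)⟩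
    rw [hVBb, Subgroup.mem_bot, inv_mul_eq_one] at h1
    have h2 : v = v' := Subtype.ext h1.symm
    subst h2
    rw [Subtype.ext (mul_left_cancel e) (a1 := β) (a2 := β')]
  have hμsurj : Function.Surjective μ := by
    rintro ⟨c, hc⟩
    rw [← hsup] at hc
    have hc' : c ∈ V ⊔ B := hc
    let T : Subgroup G :=
      { carrier := {c | ∃ v ∈ V, ∃ β ∈ B, c = v * β}
        one_mem' := ⟨1, V.one_mem, 1, B.one_mem, (one_mul 1).symm⟩
        mul_mem' := by
          rintro _ _ ⟨v, hv, β, hβ, rfl⟩ ⟨v', hv', β', hβ', rfl⟩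
          refine ⟨v * v', V.mul_mem hv hv', β * β', B.mul_mem hβ hβ', ?_⟩
          rw [mul_assoc, ← mul_assoc β, ← hcomm v' hv' β hβ, mul_assoc, mul_assoc]
        inv_mem' := by
          rintro _ ⟨v, hv, β, hβ, rfl⟩
          exact ⟨v⁻¹, V.inv_mem hv, β⁻¹, B.inv_mem hβ, by
            rw [mul_inv_rev, hcomm _ (V.inv_mem hv) _ (B.inv_mem hβ)]⟩ }
    obtain ⟨v, hv, β, hβ, e⟩ := (sup_le (fun v hv => ⟨v, hv, 1, B.one_mem, (mul_one v).symm⟩)
      (fun β hβ => ⟨1, V.one_mem, β, hβ, (one_mul β).symm⟩) : V ⊔ B ≤ T) hc'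
    exact ⟨(⟨v, hv⟩, ⟨β, hβ⟩), Subtype.ext e.symm⟩
  have hCt240 : Nat.card Ct = 240 := by
    rw [← Nat.card_eq_of_bijective μ ⟨hμinj, hμsurj⟩, Nat.card_prod, hV, Nat.card_congr eB.toEquiv, hA60]
  have hinvA : ∀ {a : alternatingGroup (Fin 5)}, a * a = 1 → a ≠ 1 →
      a ∈ Finset.univ.filter fun a : alternatingGroup (Fin 5) => a * a = 1 ∧ a ≠ 1 :=
    fun h1 h2 => Finset.mem_filter.2 ⟨Finset.mem_univ _, h1, h2⟩
  have hcentA : ∀ {a : alternatingGroup (Fin 5)}, a * a = 1 → a ≠ 1 →
      Nat.card (Subgroup.centralizer ({a} : Set (alternatingGroup (Fin 5)))) = 4 ∧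
      ∀ b, b * a = a * b → b * b = 1 := by
    intro a h1 h2
    refine ⟨?_, fun b hb => AltFive.sq_of_commute a (hinvA h1 h2) b
      (Finset.mem_filter.2 ⟨Finset.mem_univ _, hb⟩)⟩
    rw [← AltFive.card_commute a (hinvA h1 h2), ← Nat.card_eq_finsetCard]
    exact Nat.card_congr (Equiv.subtypeEquivRight fun b => by simp [Subgroup.mem_centralizer_singleton_iff])
  -- involutions of `H` outside `Q`
  have hCQ : ∀ b ∈ H, orderOf b = 2 → b ∉ Q →
      Nat.card ↥(Q ⊓ Subgroup.centralizer ({b} : Set G)) = 4 ∧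
      ∀ q ∈ Q, q * b = b * q → q * q = 1 := by
    intro b hbH hbo hbQ
    obtain ⟨g, hg⟩ := isConj_iff.1 (hCz b hbH hbo hbQ)
    set z' := g * z * g⁻¹ with hz'
    have hz'o : orderOf z' = 2 := (orderOf_conj g z).trans hz
    have hbz : b * z = z * b := mem_centralizer_singleton.1 hbH
    have hz'C : z' ∈ Ct := mem_centralizer_singleton.2 (by
      rw [hz', ← hg, show g * z * g⁻¹ * (g * b * g⁻¹) = g * (z * b) * g⁻¹ by group, ← hbz]
      group)
    have hz'B : z' ∈ B := by
      by_contra h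
      exact hzt ((isConj_iff.2 ⟨g, rfl⟩ : IsConj z z').trans (hCt z' hz'C hz'o h))
    set a := eB ⟨z', hz'B⟩ with ha
    have ha1 : a * a = 1 := by
      rw [ha, ← map_mul, show (⟨z', hz'B⟩ : B) * ⟨z', hz'B⟩ = 1 from Subtype.ext (mul_self_eq_one hz'o),
        map_one]
    have ha2 : a ≠ 1 := by
      rw [ha, ne_eq, MulEquiv.map_eq_one_iff]
      exact fun h => ne_one hz'o (congrArg Subtype.val h)
    obtain ⟨hcard4, hsq4⟩ := hcentA ha1 ha2
    have hmemC : ∀ c ∈ Subgroup.centralizer ({b} : Set G) ⊓ H,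
        g * c * g⁻¹ ∈ Ct ∧ g * c * g⁻¹ * z' = z' * (g * c * g⁻¹) := by
      rintro c ⟨hcb, hcH⟩
      constructor
      · rw [hCtdef, mem_centralizer_singleton, ← hg,
          show g * c * g⁻¹ * (g * b * g⁻¹) = g * (c * b) * g⁻¹ by group, mem_centralizer_singleton.1 hcb]
        group
      · rw [hz', show g * c * g⁻¹ * (g * z * g⁻¹) = g * (c * z) * g⁻¹ by group,
          mem_centralizer_singleton.1 hcH]
        group
    have hdecz : ∀ v : V, ∀ β : B, ((v : G) * β) * z' = z' * ((v : G) * β) → eB β * a = a * eB β := by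
      intro v β h
      rw [ha, ← map_mul, ← map_mul]
      congr 1
      refine Subtype.ext ?_
      show (β : G) * z' = z' * β
      rw [mul_assoc, ← mul_assoc z', ← hcomm v v.2 z' hz'B, mul_assoc] at h
      exact mul_left_cancel h
    have hsqC : ∀ c ∈ Subgroup.centralizer ({b} : Set G) ⊓ H, c * c = 1 := by
      intro c hc
      obtain ⟨h1, h2⟩ := hmemC c hc
      obtain ⟨⟨v, β⟩, e⟩ := hμsurj ⟨_, h1⟩
      have e' : (v : G) * β = g * c * g⁻¹ := congrArg Subtype.val e
      have hβ : eB β * eB β = 1 := hsq4 _ (hdecz v β (e' ▸ h2))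
      have hβ' : (β : G) * β = 1 := by
        rw [← map_mul, MulEquiv.map_eq_one_iff] at hβ
        exact congrArg Subtype.val hβ
      have : g * c * g⁻¹ * (g * c * g⁻¹) = 1 := by
        rw [← e', mul_assoc, ← mul_assoc (β : G), ← hcomm v v.2 β β.2, mul_assoc, hβ', mul_one,
          ← pow_two]
        exact hV2 v v.2
      rw [show g * c * g⁻¹ * (g * c * g⁻¹) = g * (c * c) * g⁻¹ by group, conj_eq_one_iff] at this
      exact this
    have hsqQ : ∀ q ∈ Q, q * b = b * q → q * q = 1 := fun q hq hqb =>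
      hsqC q ⟨mem_centralizer_singleton.2 hqb, hQH hq⟩
    refine ⟨le_antisymm ?_ ?_, hsqQ⟩
    · -- at most four
      have hBimg : ∀ q ∈ Q ⊓ Subgroup.centralizer ({b} : Set G),
          ∃ h : g * q * g⁻¹ ∈ B, eB ⟨_, h⟩ * a = a * eB ⟨_, h⟩ := by
        rintro q ⟨hqQ, hqb⟩
        obtain ⟨h1, h2⟩ := hmemC q ⟨hqb, hQH hqQ⟩
        have hB : g * q * g⁻¹ ∈ B := by
          by_cases hq1 : q = 1
          · rw [hq1, mul_one, mul_inv_cancel]; exact B.one_mem
          · by_contra h
            have hqo : orderOf q = 2 := orderOf_eq_prime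
              (by rw [pow_two]; exact hsqQ q hqQ (mem_centralizer_singleton.1 hqb)) hq1
            exact hzt ((hQz q hqQ hqo).symm.trans ((isConj_iff.2 ⟨g, rfl⟩ : IsConj q _).trans
              (hCt _ h1 ((orderOf_conj g q).trans hqo) h)))
        refine ⟨hB, hdecz 1 ⟨_, hB⟩ ?_⟩
        rw [OneMemClass.coe_one, one_mul]
        exact h2
      rw [← hcard4]
      refine Nat.card_le_card_of_injective (fun q => (⟨eB ⟨_, (hBimg q q.2).1⟩,
        Subgroup.mem_centralizer_singleton_iff.2 (hBimg q q.2).2⟩ :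
          Subgroup.centralizer ({a} : Set (alternatingGroup (Fin 5))))) ?_
      intro q q' h
      have h1 := congrArg Subtype.val (eB.injective (congrArg Subtype.val h))
      exact Subtype.ext (mul_left_cancel (mul_right_cancel h1))
    · -- at least four
      set bH : H := ⟨b, hbH⟩
      set a' := φ bH with ha'
      have h1' : a' * a' = 1 := by
        rw [ha', ← map_mul, show bH * bH = 1 from Subtype.ext (mul_self_eq_one hbo), map_one]
      have h2' : a' ≠ 1 := fun h => hbQ ((hφker bH).1 h)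
      let D := Subgroup.centralizer ({bH} : Set H)
      let ψ := φ.comp D.subtype
      have hr : Nat.card ψ.range ≤ 4 := by
        rw [← (hcentA h1' h2').1]
        refine Subgroup.card_le_of_le ?_
        rintro _ ⟨c, rfl⟩
        rw [Subgroup.mem_centralizer_singleton_iff]
        show φ c * φ bH = φ bH * φ c
        rw [← map_mul, ← map_mul, mem_centralizer_singleton.1 c.2]
      have hk : Nat.card ψ.ker ≤ Nat.card ↥(Q ⊓ Subgroup.centralizer ({b} : Set G)) := by
        refine Nat.card_le_card_of_injective (fun c => (⟨((c : D) : H), (hφker _).1 c.2,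
          mem_centralizer_singleton.2 (congrArg Subtype.val (mem_centralizer_singleton.1 (c : D).2))⟩ :
            ↥(Q ⊓ Subgroup.centralizer ({b} : Set G)))) fun c c' h => ?_
        have h1 := congrArg (fun w : ↥(Q ⊓ Subgroup.centralizer ({b} : Set G)) => (w : G)) h
        exact Subtype.ext (Subtype.ext (Subtype.ext h1))
      have hD : 16 ≤ Nat.card D := by
        have e : Nat.card D = Nat.card ↥(Subgroup.centralizer ({b} : Set G) ⊓ H) := by
          refine Nat.card_congr ⟨fun c => ⟨((c : H) : G),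
            mem_centralizer_singleton.2 (congrArg Subtype.val (mem_centralizer_singleton.1 c.2)),
            (c : H).2⟩,
            fun c => ⟨⟨c, c.2.2⟩, mem_centralizer_singleton.2 (Subtype.ext
              (mem_centralizer_singleton.1 c.2.1))⟩, fun c => rfl, fun c => rfl⟩
        rw [e]
        have h16 : Nat.card (V × Subgroup.centralizer ({a} : Set (alternatingGroup (Fin 5)))) = 16 := by
          rw [Nat.card_prod, hV, hcard4]
        rw [← h16]
        have hpre : ∀ p : V × Subgroup.centralizer ({a} : Set (alternatingGroup (Fin 5))),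
            g⁻¹ * ((p.1 : G) * (eB.symm p.2.1 : B)) * g ∈ Subgroup.centralizer ({b} : Set G) ⊓ H := by
          intro p
          set c := (p.1 : G) * (eB.symm p.2.1 : B) with hc
          have hcCt : c * t = t * c := mem_centralizer_singleton.1
            (Ct.mul_mem (hVC p.1.2) (hBC (eB.symm p.2.1).2))
          have hcz' : c * z' = z' * c := by
            have h := Subgroup.mem_centralizer_singleton_iff.1 p.2.2
            have h' : (eB.symm p.2.1) * ⟨z', hz'B⟩ = ⟨z', hz'B⟩ * (eB.symm p.2.1) := eB.injective (by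
              rw [map_mul, map_mul, MulEquiv.apply_symm_apply]; exact h)
            have h'' : ((eB.symm p.2.1 : B) : G) * z' = z' * (eB.symm p.2.1 : B) := congrArg Subtype.val h'
            rw [hc, mul_assoc, h'', ← mul_assoc, hcomm _ p.1.2 z' hz'B, mul_assoc]
          constructor
          · refine mem_centralizer_singleton.2 ?_
            calc g⁻¹ * c * g * b = g⁻¹ * (c * (g * b * g⁻¹)) * g := by group
              _ = g⁻¹ * (g * b * g⁻¹ * c) * g := by rw [hg, hcCt]
              _ = b * (g⁻¹ * c * g) := by group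
          · refine mem_centralizer_singleton.2 ?_
            calc g⁻¹ * c * g * z = g⁻¹ * (c * z') * g := by rw [hz']; group
              _ = g⁻¹ * (z' * c) * g := by rw [hcz']
              _ = z * (g⁻¹ * c * g) := by rw [hz']; group
        refine Nat.card_le_card_of_injective (fun p => (⟨_, hpre p⟩ :
          ↥(Subgroup.centralizer ({b} : Set G) ⊓ H))) ?_
        intro p p' h
        have h1 : μ (p.1, eB.symm p.2.1) = μ (p'.1, eB.symm p'.2.1) :=
          Subtype.ext (mul_left_cancel (mul_right_cancel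
            (congrArg (fun w : ↥(Subgroup.centralizer ({b} : Set G) ⊓ H) => (w : G)) h)))
        obtain ⟨e1, e2⟩ := Prod.ext_iff.1 (hμinj h1)
        exact Prod.ext e1 (Subtype.ext (eB.symm.injective e2))
      have hmul := ψ.ker.card_mul_index
      rw [Subgroup.index_ker] at hmul
      nlinarith
  -- `Q` has twelve square roots of one
  set Sq := Finset.univ.filter fun x : G => x ∈ Q ∧ x * x = 1 with hSq
  obtain ⟨k0, hk0⟩ : ∃ k : K, eK k * eK k = 1 ∧ eK k ≠ 1 := by
    have hne : (Finset.univ.filter fun a : alternatingGroup (Fin 5) => a * a = 1 ∧ a ≠ 1).Nonempty :=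
      Finset.card_pos.1 (by rw [AltFive.card_involutions]; norm_num)
    obtain ⟨a, ha⟩ := hne
    exact ⟨eK.symm a, by rw [MulEquiv.apply_symm_apply]; exact (Finset.mem_filter.1 ha).2⟩
  have hKinv : ∀ k : K, eK k * eK k = 1 → eK k ≠ 1 → orderOf (k : G) = 2 ∧ (k : G) ∉ Q := by
    intro k h1 h2
    refine ⟨?_, fun h => h2 ?_⟩
    · rw [Subgroup.orderOf_coe, ← MulEquiv.orderOf_eq eK]
      exact orderOf_eq_prime (by rw [pow_two, h1]) h2
    · have h3 : (k : G) ∈ K ⊓ Q := ⟨k.2, h⟩
      rw [hKQ, Subgroup.mem_bot] at h3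
      rw [MulEquiv.map_eq_one_iff]
      exact Subtype.ext h3
  have hcentQ : ∀ w ∈ Q, (∀ q ∈ Q, q * w = w * q) → w = 1 ∨ w = z := by
    have hzmem : (⟨z, hzQ⟩ : Q) ∈ Subgroup.center Q :=
      Subgroup.mem_center_iff.2 fun q => Subtype.ext (hzc q q.2)
    intro w hw hwc
    have hwm : (⟨w, hw⟩ : Q) ∈ Subgroup.center Q :=
      Subgroup.mem_center_iff.2 fun q => Subtype.ext (hwc q q.2)
    obtain ⟨c, hc1, huniq⟩ := (Nat.card_eq_two_iff' (1 : Subgroup.center Q)).1 hQe.2
    by_cases h : w = 1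
    · exact Or.inl h
    refine Or.inr ?_
    have e1 := huniq ⟨_, hwm⟩ (fun e => h (congrArg (fun u : Subgroup.center Q => ((u : Q) : G)) e))
    have e2 := huniq ⟨_, hzmem⟩ (fun e => ne_one hz (congrArg (fun u : Subgroup.center Q => ((u : Q) : G)) e))
    exact congrArg (fun u : Subgroup.center Q => ((u : Q) : G)) (e1.trans e2.symm)
  obtain ⟨f, hf5, hfix⟩ : ∃ f : K, orderOf (f : G) = 5 ∧
      ∀ q ∈ Q, (f : G) * q = q * f → q = 1 ∨ q = z := by
    obtain ⟨a, ha5, ha1⟩ := AltFive.exists_orderOf_five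
    haveI := Fact.mk Nat.prime_five
    refine ⟨eK.symm a, ?_, ?_⟩
    · rw [Subgroup.orderOf_coe, MulEquiv.orderOf_eq]
      exact orderOf_eq_prime ha5 ha1
    set f := eK.symm a
    have hfo : orderOf (f : G) = 5 := by
      rw [Subgroup.orderOf_coe, MulEquiv.orderOf_eq]
      exact orderOf_eq_prime ha5 ha1
    set A := Subgroup.zpowers (f : G) with hA
    have hAH : A ≤ H := by rw [hA, Subgroup.zpowers_le]; exact hKH f.2
    letI act : MulAction A Q :=
      { smul := fun c q => ⟨(c : G) * q * (c : G)⁻¹, hQn c (hAH c.2) q q.2⟩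
        one_smul := fun q => Subtype.ext (show (1 : G) * q * 1⁻¹ = q by group)
        mul_smul := fun c d q => Subtype.ext (show ((c : G) * d) * q * ((c : G) * d)⁻¹ =
          c * ((d : G) * q * (d : G)⁻¹) * (c : G)⁻¹ by group) }
    have hAp : IsPGroup 5 A := IsPGroup.of_card (n := 1) (by rw [hA, Nat.card_zpowers, hfo, pow_one])
    have hmod := hAp.card_modEq_card_fixedPoints Q
    have hfixeq : Nat.card (MulAction.fixedPoints A Q) =
        Nat.card ↥(Q ⊓ Subgroup.centralizer ({(f : G)} : Set G)) := by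
      refine Nat.card_congr ⟨fun q => ⟨(q.1 : G), q.1.2, mem_centralizer_singleton.2 ?_⟩,
        fun q => ⟨⟨q, q.2.1⟩, ?_⟩, fun q => rfl, fun q => rfl⟩
      · have h := congrArg Subtype.val (q.2 ⟨(f : G), Subgroup.mem_zpowers _⟩)
        exact (mul_inv_eq_iff_eq_mul.1 (h : (f : G) * (q.1 : G) * (f : G)⁻¹ = q.1)).symm
      · intro c
        refine Subtype.ext ?_
        obtain ⟨j, hj⟩ := Subgroup.mem_zpowers_iff.1 c.2
        show (c : G) * q * (c : G)⁻¹ = q
        rw [← hj, mul_inv_eq_iff_eq_mul]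
        exact ((show Commute (q : G) f from mem_centralizer_singleton.1 q.2.2).zpow_right j).symm.eq
    rw [hfixeq, hQ] at hmod
    set D := Q ⊓ Subgroup.centralizer ({(f : G)} : Set G) with hD
    have hDdvd := Subgroup.card_dvd_of_le (inf_le_left : D ≤ Q)
    rw [hQ] at hDdvd
    have h232 : Nat.card D = 2 ∨ Nat.card D = 32 := by
      have hle := Nat.le_of_dvd (by norm_num) hDdvd
      unfold Nat.ModEq at hmod
      interval_cases h : Nat.card D <;> omega
    intro q hq hqf
    have hqD : q ∈ D := ⟨hq, mem_centralizer_singleton.2 hqf.symm⟩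
    rcases h232 with h | h
    · have hzD : z ∈ D := ⟨hzQ, mem_centralizer_singleton.2
        ((mem_centralizer_singleton.1 (hKH f.2)).symm)⟩
      obtain ⟨c, hc1, huniq⟩ := (Nat.card_eq_two_iff' (1 : D)).1 h
      by_cases h1 : q = 1
      · exact Or.inl h1
      refine Or.inr ?_
      exact congrArg Subtype.val ((huniq ⟨q, hqD⟩ fun e => h1 (congrArg Subtype.val e)).trans
        (huniq ⟨z, hzD⟩ fun e => ne_one hz (congrArg Subtype.val e)).symm)
    · -- `f` centralizes `Q`, hence all of `K` does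
      exfalso
      have hDQ : D = Q := Subgroup.eq_of_le_of_card_ge inf_le_left (by rw [h, hQ])
      haveI : IsSimpleGroup (alternatingGroup (Fin 5)) := alternatingGroup.isSimpleGroup_five
      let L : Subgroup (alternatingGroup (Fin 5)) :=
        ((Subgroup.centralizer (Q : Set G)).subgroupOf K).map eK.toMonoidHom
      have hLn : L.Normal := by
        refine Subgroup.Normal.map ⟨fun c hc k => ?_⟩ _ eK.surjective
        rw [Subgroup.mem_subgroupOf, Subgroup.mem_centralizer_iff] at hc ⊢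
        intro w hw
        have hw' : (k : G)⁻¹ * w * k ∈ Q := by
          have := hQn _ (H.inv_mem (hKH k.2)) w hw
          rwa [inv_inv] at this
        calc w * ((k * c * k⁻¹ : K) : G) = k * ((k : G)⁻¹ * w * k * c) * (k : G)⁻¹ := by
              push_cast; group
          _ = k * (c * ((k : G)⁻¹ * w * k)) * (k : G)⁻¹ := by rw [hc _ hw']
          _ = ((k * c * k⁻¹ : K) : G) * w := by push_cast; group
      rcases hLn.eq_bot_or_eq_top with e | e
      · have : a ∈ L := ⟨f, by
          rw [SetLike.mem_coe, Subgroup.mem_subgroupOf, Subgroup.mem_centralizer_iff]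
          intro w hw
          exact mem_centralizer_singleton.1 ((hDQ.symm ▸ hw : w ∈ D)).2, eK.apply_symm_apply a⟩
        rw [e, Subgroup.mem_bot] at this
        exact ha1 this
      · obtain ⟨h1, h2⟩ := hk0
        obtain ⟨k, hk, hke⟩ := (e ▸ Subgroup.mem_top (eK k0) : eK k0 ∈ L)
        have hk' : k = k0 := eK.injective hke
        subst hk'
        obtain ⟨ho, hnQ⟩ := hKinv k h1 h2
        have h4 := (hCQ k (hKH k.2) ho hnQ).1
        rw [show Q ⊓ Subgroup.centralizer ({(k : G)} : Set G) = Q from inf_eq_left.2 fun w hw =>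
          mem_centralizer_singleton.2 (Subgroup.mem_centralizer_iff.1 hk w hw), hQ] at h4
        omega
  have hSqcard : Sq.card = 12 := by
    obtain ⟨m, -, hm, hnum⟩ := Minimal.ExtraspecialTwo.card_and_numSq hQe
    rw [hQ] at hm
    have hm2 : m = 2 := by
      have h5 : 2 * m + 1 = 5 := Nat.pow_right_injective le_rfl (hm.symm.trans rfl)
      omega
    subst hm2
    have hnumSq : Minimal.ExtraspecialTwo.numSq Q = Sq.card := by
      rw [Minimal.ExtraspecialTwo.numSq, hSq, ← Nat.card_eq_finsetCard]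
      refine Nat.card_congr ⟨fun x => ⟨x.1, Finset.mem_filter.2 ⟨Finset.mem_univ _, x.1.2,
        by have := congrArg Subtype.val x.2; rwa [pow_two] at this⟩⟩,
        fun x => ⟨⟨x.1, (Finset.mem_filter.1 x.2).2.1⟩, Subtype.ext (by
          rw [Subgroup.coe_pow, pow_two]; exact (Finset.mem_filter.1 x.2).2.2)⟩,
        fun x => rfl, fun x => rfl⟩
    rw [hnumSq] at hnum
    -- the element of order five
    haveI := Fact.mk Nat.prime_five
    set A := Subgroup.zpowers (f : G) with hA
    have hAH : A ≤ H := by rw [hA, Subgroup.zpowers_le]; exact hKH f.2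
    letI act : MulAction A Sq :=
      { smul := fun c q => ⟨(c : G) * q * (c : G)⁻¹, by
          obtain ⟨-, h1, h2⟩ := Finset.mem_filter.1 q.2
          refine Finset.mem_filter.2 ⟨Finset.mem_univ _, hQn c (hAH c.2) q h1, ?_⟩
          rw [show (c : G) * q * (c : G)⁻¹ * ((c : G) * q * (c : G)⁻¹) = c * ((q : G) * q) * (c : G)⁻¹ by group, h2]
          group⟩
        one_smul := fun q => Subtype.ext (show (1 : G) * q * 1⁻¹ = q by group)
        mul_smul := fun c d q => Subtype.ext (show ((c : G) * d) * q * ((c : G) * d)⁻¹ =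
          c * ((d : G) * q * (d : G)⁻¹) * (c : G)⁻¹ by group) }
    have hAp : IsPGroup 5 A := IsPGroup.of_card (n := 1) (by rw [hA, Nat.card_zpowers, hf5, pow_one])
    have hmod := hAp.card_modEq_card_fixedPoints Sq
    have hfp : Nat.card (MulAction.fixedPoints A Sq) = 2 := by
      have h1m : (1 : G) ∈ Sq := Finset.mem_filter.2 ⟨Finset.mem_univ _, Q.one_mem, mul_one 1⟩
      have hzm : z ∈ Sq := Finset.mem_filter.2 ⟨Finset.mem_univ _, hzQ, hzz⟩
      have hfix1 : (⟨1, h1m⟩ : Sq) ∈ MulAction.fixedPoints A Sq := fun c =>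
        Subtype.ext (show (c : G) * 1 * (c : G)⁻¹ = 1 by group)
      have hfixz : (⟨z, hzm⟩ : Sq) ∈ MulAction.fixedPoints A Sq := fun c =>
        Subtype.ext (show (c : G) * z * (c : G)⁻¹ = z by
          rw [mul_inv_eq_iff_eq_mul]; exact mem_centralizer_singleton.1 (hAH c.2))
      refine (Nat.card_eq_two_iff' (⟨_, hfix1⟩ : MulAction.fixedPoints A Sq)).2 ⟨⟨_, hfixz⟩, ?_, ?_⟩
      · intro h
        exact ne_one hz (congrArg (fun u : MulAction.fixedPoints A Sq => ((u : Sq) : G)) h)
      · rintro ⟨q, hq⟩ hne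
        have hc := congrArg Subtype.val (hq ⟨(f : G), Subgroup.mem_zpowers _⟩)
        have hcomm' : (f : G) * q = q * f :=
          mul_inv_eq_iff_eq_mul.1 (hc : (f : G) * (q : G) * (f : G)⁻¹ = q)
        rcases hfix q (Finset.mem_filter.1 q.2).2.1 hcomm' with h | h
        · exact absurd (Subtype.ext (Subtype.ext h)) hne
        · exact Subtype.ext (Subtype.ext h)
    rw [hfp, Nat.card_eq_finsetCard] at hmod
    unfold Nat.ModEq at hmod
    rcases hnum with h | h <;> norm_num at h <;> omega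
  -- commuting involutions of `Q`
  have hQcomm : ∀ u ∈ Q, ∀ w ∈ Q, u * u = 1 → w * w = 1 → u * w = w * u → u ≠ 1 → u ≠ z →
      w ≠ 1 → w ≠ z → u = w ∨ u = w * z := by
    intro u hu w hw huu hww huw hu1 huz hw1 hwz
    have hnc : ∀ x : G, ∀ hx : x ∈ Q, x ≠ 1 → x ≠ z → (⟨x, hx⟩ : Q) ∉ Subgroup.center Q := by
      intro x hx h1 h2 hm
      rcases hcentQ x hx (fun q hq => congrArg Subtype.val (Subgroup.mem_center_iff.1 hm ⟨q, hq⟩)) with e | e
      · exact h1 e
      · exact h2 e
    have h12 : Nat.card {x : Q // x * x = 1} = 12 := by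
      rw [← hSqcard, ← Nat.card_eq_finsetCard]
      exact Nat.card_congr ⟨fun x => ⟨x.1, Finset.mem_filter.2 ⟨Finset.mem_univ _, x.1.2,
          congrArg Subtype.val x.2⟩⟩,
        fun x => ⟨⟨x.1, (Finset.mem_filter.1 x.2).2.1⟩, Subtype.ext (Finset.mem_filter.1 x.2).2.2⟩,
        fun x => rfl, fun x => rfl⟩
    have h := mul_mem_center_of_commute hQe hQ h12 (a := ⟨u, hu⟩) (b := ⟨w, hw⟩) (Subtype.ext huu)
      (Subtype.ext hww) (hnc u hu hu1 huz) (hnc w hw hw1 hwz) (Subtype.ext huw)
    rcases hcentQ (u * w) (Q.mul_mem hu hw)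
      (fun q hq => congrArg Subtype.val (Subgroup.mem_center_iff.1 h ⟨q, hq⟩)) with e | e
    · exact Or.inl ((eq_inv_of_mul_eq_one_left e).trans (inv_eq_of_mul_eq_one_right hww))
    · right
      rw [hzc w hw, ← e, mul_assoc, hww, mul_one]
  set IQ := Sq.erase 1 with hIQ
  have hmemIQ : ∀ {x : G}, x ∈ IQ ↔ x ∈ Q ∧ orderOf x = 2 := by
    intro x
    rw [hIQ, Finset.mem_erase, hSq, Finset.mem_filter]
    constructor
    · rintro ⟨h1, -, h2, h3⟩; exact ⟨h2, orderOf_eq_prime (by rw [pow_two]; exact h3) h1⟩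
    · rintro ⟨h1, h2⟩; exact ⟨ne_one h2, Finset.mem_univ _, h1, mul_self_eq_one h2⟩
  have hIQcard : IQ.card = 11 := by
    rw [hIQ, Finset.card_erase_of_mem (Finset.mem_filter.2 ⟨Finset.mem_univ _, Q.one_mem, mul_one 1⟩),
      hSqcard]
  set BH := Finset.univ.filter fun b : G => b ∈ H ∧ orderOf b = 2 ∧ b ∉ Q with hBH
  -- the members of a coset
  have hJ : ∀ k : K, eK k * eK k = 1 → eK k ≠ 1 →
      (Finset.univ.filter fun q : G => q ∈ Q ∧ (k : G) * q * (k * q) = 1).card = 8 := by
    intro k h1 h2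
    obtain ⟨ho, hnQ⟩ := hKinv k h1 h2
    have hkk := mul_self_eq_one ho
    have hkH : (k : G) ∈ H := hKH k.2
    obtain ⟨hC4, -⟩ := hCQ k hkH ho hnQ
    have hki : (k : G)⁻¹ = k := inv_eq_self ho
    have hkQ : ∀ q ∈ Q, (k : G) * q * k ∈ Q := fun q hq => by
      have := hQn k hkH q hq; rwa [hki] at this
    set J := Finset.univ.filter fun q : G => q ∈ Q ∧ (k : G) * q * (k * q) = 1 with hJdef
    set Qs := Finset.univ.filter fun q : G => q ∈ Q with hQs
    have hQscard : Qs.card = 32 := by rw [← hQ, Nat.card_eq_fintype_card, Fintype.card_subtype]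
    have hCcard : (Finset.univ.filter fun q : G => q ∈ Q ⊓ Subgroup.centralizer ({(k : G)} : Set G)).card = 4 := by
      rw [← hC4, Nat.card_eq_fintype_card, Fintype.card_subtype]
    refine le_antisymm ?_ ?_
    · -- at most eight
      set T := ({1, z} : Finset G) with hT
      have hmap : ∀ q ∈ J, q⁻¹ * ((k : G) * q * k) ∈ T := by
        intro q hq
        obtain ⟨-, hqQ, hq1⟩ := Finset.mem_filter.1 hq
        have e : (k : G) * q * k = q⁻¹ := by
          rw [← mul_assoc] at hq1
          exact eq_inv_of_mul_eq_one_left hq1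
        rw [e, ← mul_inv_rev, hT, Finset.mem_insert, Finset.mem_singleton]
        have := Minimal.ExtraspecialTwo.sq_cases hQe (⟨q, hqQ⟩ : Q)
        have hzE : ((Minimal.ExtraspecialTwo.zE hQe : Q) : G) = z := by
          rcases hcentQ _ (Minimal.ExtraspecialTwo.zE hQe).2 (fun w hw => congrArg Subtype.val
            (Subgroup.mem_center_iff.1 (Minimal.ExtraspecialTwo.zE_mem hQe) ⟨w, hw⟩)) with e' | e'
          · exact absurd (Subtype.ext e') (Minimal.ExtraspecialTwo.zE_ne hQe)
          · exact e'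
        rcases this with h | h
        · left; rw [show q * q = 1 from congrArg Subtype.val h, inv_one]
        · right; rw [show q * q = z from (congrArg Subtype.val h).trans hzE, inv_eq_self hz]
      rw [Finset.card_eq_sum_card_fiberwise (f := fun q => q⁻¹ * ((k : G) * q * k)) (t := T)
        fun q hq => Finset.mem_coe.2 (hmap q (Finset.mem_coe.1 hq))]
      calc ∑ w ∈ T, (J.filter fun q => q⁻¹ * ((k : G) * q * k) = w).card ≤ ∑ _w ∈ T, 4 := by
            refine Finset.sum_le_sum fun w _ => ?_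
            rcases (J.filter fun q => q⁻¹ * ((k : G) * q * k) = w).eq_empty_or_nonempty with he | ⟨q0, hq0⟩
            · rw [he]; simp
            obtain ⟨hq0J, hq0w⟩ := Finset.mem_filter.1 hq0
            have hq0Q := (Finset.mem_filter.1 hq0J).2.1
            rw [← hCcard]
            refine Finset.card_le_card_of_injOn (fun q => q * q0⁻¹) ?_ fun a _ b _ h => mul_right_cancel h
            intro q hq
            obtain ⟨hqJ, hqw⟩ := Finset.mem_filter.1 (Finset.mem_coe.1 hq)
            have hqQ := (Finset.mem_filter.1 hqJ).2.1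
            refine Finset.mem_coe.2 (Finset.mem_filter.2 ⟨Finset.mem_univ _, Q.mul_mem hqQ (Q.inv_mem hq0Q),
              mem_centralizer_singleton.2 ?_⟩)
            have e1 : (k : G) * q * k = q * w := by rw [← hqw, mul_inv_cancel_left]
            have e2 : (k : G) * q0 * k = q0 * w := by rw [← hq0w, mul_inv_cancel_left]
            have e3 : (k : G) * (q * q0⁻¹) * k = q * q0⁻¹ := by
              calc (k : G) * (q * q0⁻¹) * k = (k * q * k) * ((k : G)⁻¹ * q0⁻¹ * (k : G)) := by group
                _ = (k * q * k) * ((k : G) * q0 * k)⁻¹ := by rw [mul_inv_rev, mul_inv_rev, hki]; group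
                _ = q * q0⁻¹ := by rw [e1, e2]; group
            calc q * q0⁻¹ * k = (k : G) * (q * q0⁻¹) * k * k := by rw [e3]
              _ = k * (q * q0⁻¹) := by rw [mul_assoc _ (k : G) k, hkk, mul_one]
        _ ≤ 8 := by
            rw [Finset.sum_const, smul_eq_mul]
            have : T.card ≤ 2 := Finset.card_le_two
            omega
    · -- at least eight
      have hmap : Set.MapsTo (fun c : G => (k : G) * c * k * c⁻¹) Qs J := by
        intro c hc
        have hcQ := (Finset.mem_filter.1 (Finset.mem_coe.1 hc)).2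
        refine Finset.mem_coe.2 (Finset.mem_filter.2 ⟨Finset.mem_univ _, Q.mul_mem (hkQ c hcQ) (Q.inv_mem hcQ), ?_⟩)
        calc (k : G) * (k * c * k * c⁻¹) * (k * (k * c * k * c⁻¹))
            = ((k : G) * k) * c * k * c⁻¹ * (((k : G) * k) * c * k * c⁻¹) := by group
          _ = c * ((k : G) * k) * c⁻¹ := by
              simp only [hkk, one_mul, mul_assoc, inv_mul_cancel_left]
              rw [← mul_assoc (k : G) k, hkk, one_mul]
          _ = 1 := by rw [hkk]; group
      have h := Finset.card_le_mul_card_image (s := Qs) (f := fun c : G => (k : G) * c * k * c⁻¹) 4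
        fun w hw => ?_
      · have h' : (Qs.image fun c : G => (k : G) * c * k * c⁻¹).card ≤ J.card :=
          Finset.card_le_card (Finset.image_subset_iff.2 fun c hc => Finset.mem_coe.1 (hmap (Finset.mem_coe.2 hc)))
        rw [hQscard] at h
        omega
      obtain ⟨c0, hc0, hc0w⟩ := Finset.mem_image.1 hw
      have hc0Q := (Finset.mem_filter.1 hc0).2
      rw [← hCcard]
      refine Finset.card_le_card_of_injOn (fun c => c0⁻¹ * c) ?_ fun a _ b _ h => mul_left_cancel h
      intro c hc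
      obtain ⟨hc1, hc2⟩ := Finset.mem_filter.1 (Finset.mem_coe.1 hc)
      refine Finset.mem_coe.2 (Finset.mem_filter.2 ⟨Finset.mem_univ _, Q.mul_mem (Q.inv_mem hc0Q)
        (Finset.mem_filter.1 hc1).2, mem_centralizer_singleton.2 ?_⟩)
      have e : c * (k : G) * c⁻¹ = c0 * k * c0⁻¹ := by
        have h' := congrArg (fun u => (k : G) * u) (hc2.trans hc0w.symm)
        simp only [← mul_assoc, hkk, one_mul] at h'
        exact h'
      calc c0⁻¹ * c * k = c0⁻¹ * (c * k * c⁻¹) * c := by group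
        _ = c0⁻¹ * (c0 * k * c0⁻¹) * c := by rw [e]
        _ = k * (c0⁻¹ * c) := by group
  have hBHcard : BH.card = 120 := by
    let pr : G → alternatingGroup (Fin 5) := fun b => if h : b ∈ H then φ ⟨b, h⟩ else 1
    rw [Finset.card_eq_sum_card_fiberwise (f := pr)
      (t := Finset.univ.filter fun a : alternatingGroup (Fin 5) => a * a = 1 ∧ a ≠ 1) fun b hb => by
        obtain ⟨-, hbH, hbo, hbQ⟩ := Finset.mem_filter.1 (Finset.mem_coe.1 hb)
        refine Finset.mem_coe.2 (Finset.mem_filter.2 ⟨Finset.mem_univ _, ?_, ?_⟩)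
        · simp only [pr, dif_pos hbH]
          rw [← map_mul, show (⟨b, hbH⟩ : H) * ⟨b, hbH⟩ = 1 from Subtype.ext (mul_self_eq_one hbo), map_one]
        · simp only [pr, dif_pos hbH]
          exact fun h => hbQ ((hφker ⟨b, hbH⟩).1 h)]
    rw [Finset.sum_congr rfl (g := fun _ => 8) fun a ha => ?_, Finset.sum_const,
      AltFive.card_involutions, smul_eq_mul]
    obtain ⟨-, ha1, ha2⟩ := Finset.mem_filter.1 ha
    set k := eK.symm a with hk
    have hka : eK k = a := eK.apply_symm_apply a
    rw [← hJ k (by rw [hka, ha1]) (by rw [hka]; exact ha2)]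
    obtain ⟨ho, hnQ⟩ := hKinv k (by rw [hka, ha1]) (by rw [hka]; exact ha2)
    have hki : (k : G)⁻¹ = k := inv_eq_self ho
    refine Finset.card_bij' (fun b _ => (k : G) * b) (fun q _ => (k : G) * q) ?_ ?_ ?_ ?_
    · intro b hb
      obtain ⟨hb1, hb2⟩ := Finset.mem_filter.1 hb
      obtain ⟨-, hbH, hbo, hbQ⟩ := Finset.mem_filter.1 hb1
      simp only [pr, dif_pos hbH] at hb2
      refine Finset.mem_filter.2 ⟨Finset.mem_univ _, ?_, ?_⟩
      · have h : φ (⟨k, hKH k.2⟩ * ⟨b, hbH⟩) = 1 := by rw [map_mul, hφK, hka, hb2, ha1]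
        exact (hφker _).1 h
      · rw [← mul_assoc (k : G) k b, mul_self_eq_one ho, one_mul, mul_self_eq_one hbo]
    · intro q hq
      obtain ⟨-, hqQ, hq1⟩ := Finset.mem_filter.1 hq
      have hkqH : (k : G) * q ∈ H := H.mul_mem (hKH k.2) (hQH hqQ)
      have hnot : (k : G) * q ∉ Q := fun h => hnQ (by simpa using Q.mul_mem h (Q.inv_mem hqQ))
      refine Finset.mem_filter.2 ⟨Finset.mem_filter.2 ⟨Finset.mem_univ _, hkqH,
        orderOf_eq_prime (by rw [pow_two]; exact hq1) (fun h => hnot (h ▸ Q.one_mem)), hnot⟩, ?_⟩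
      simp only [pr, dif_pos hkqH]
      show φ (⟨k, hKH k.2⟩ * ⟨q, hQH hqQ⟩) = a
      rw [map_mul, hφK, hka, (hφker _).2 (hqQ : ((⟨q, hQH hqQ⟩ : H) : G) ∈ Q), mul_one]
    · intro b _; rw [← mul_assoc, mul_self_eq_one ho, one_mul]
    · intro q _; rw [← mul_assoc, mul_self_eq_one ho, one_mul]
  refine ⟨hCt240, hH1920, ?_⟩
  set P := (IQ ×ˢ BH).filter fun p => p.2 * p.1 ≠ p.1 * p.2 with hP
  have hPcard : P.card = 960 := by
    rw [Finset.card_eq_sum_card_fiberwise (f := Prod.snd) (t := BH) fun p hp =>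
      Finset.mem_coe.2 (Finset.mem_product.1 (Finset.mem_filter.1 (Finset.mem_coe.1 hp)).1).2]
    rw [Finset.sum_congr rfl (g := fun _ => 8) fun b hb => ?_, Finset.sum_const, hBHcard, smul_eq_mul]
    obtain ⟨-, hbH, hbo, hbQ⟩ := Finset.mem_filter.1 hb
    obtain ⟨hC4, hsq⟩ := hCQ b hbH hbo hbQ
    have hcom : (IQ.filter fun u => b * u = u * b).card = 3 := by
      have h4 : (Finset.univ.filter fun q : G => q ∈ Q ⊓ Subgroup.centralizer ({b} : Set G)).card = 4 := by
        rw [← hC4, Nat.card_eq_fintype_card, Fintype.card_subtype]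
      have e : (IQ.filter fun u => b * u = u * b) =
          (Finset.univ.filter fun q : G => q ∈ Q ⊓ Subgroup.centralizer ({b} : Set G)).erase 1 := by
        ext u
        simp only [Finset.mem_filter, Finset.mem_erase, Finset.mem_univ, true_and, Subgroup.mem_inf,
          mem_centralizer_singleton]
        constructor
        · rintro ⟨h1, h2⟩; exact ⟨ne_one (hmemIQ.1 h1).2, (hmemIQ.1 h1).1, h2.symm⟩
        · rintro ⟨h1, h2, h3⟩
          exact ⟨hmemIQ.2 ⟨h2, orderOf_eq_prime (by rw [pow_two]; exact hsq u h2 h3) h1⟩, h3.symm⟩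
      rw [e, Finset.card_erase_of_mem (Finset.mem_filter.2 ⟨Finset.mem_univ _, one_mem _⟩), h4]
    have h11 := Finset.card_filter_add_card_filter_not (s := IQ) (fun u => b * u = u * b)
    rw [hcom, hIQcard] at h11
    have : (P.filter fun p => p.2 = b).card = (IQ.filter fun u => ¬ b * u = u * b).card := by
      refine Finset.card_bij' (fun p _ => p.1) (fun u _ => (u, b)) ?_ ?_ ?_ ?_
      · intro p hp
        obtain ⟨h1, rfl⟩ := Finset.mem_filter.1 hp
        obtain ⟨h2, h3⟩ := Finset.mem_filter.1 h1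
        exact Finset.mem_filter.2 ⟨(Finset.mem_product.1 h2).1, h3⟩
      · intro u hu
        obtain ⟨h1, h2⟩ := Finset.mem_filter.1 hu
        exact Finset.mem_filter.2 ⟨Finset.mem_filter.2 ⟨Finset.mem_product.2 ⟨h1, hb⟩, h2⟩, rfl⟩
      · intro p hp
        obtain ⟨-, rfl⟩ := Finset.mem_filter.1 hp
        rfl
      · intro u _; rfl
    rw [this]
    convert Nat.add_left_cancel (h11.trans (show 11 = 3 + 8 from rfl)) using 2
  rw [← hPcard, ← Nat.card_eq_finsetCard]
  refine Nat.card_congr (Equiv.subtypeEquivRight fun p => ?_)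
  obtain ⟨u, b⟩ := p
  simp only [hP, Finset.mem_filter, Finset.mem_product]
  constructor
  · rintro ⟨hu, hb, hzm⟩
    have huo : orderOf u = 2 := (orderOf_eq_of_isConj hu).symm.trans hz
    have hbo : orderOf b = 2 := (orderOf_eq_of_isConj hb).symm.trans ht
    obtain ⟨i, hi⟩ := Subgroup.mem_zpowers_iff.1 hzm
    have hinv : ∀ s : G, s * (u * b) * s⁻¹ = (u * b)⁻¹ → s ∈ H := by
      intro s hs
      rw [hH, mem_centralizer_singleton]
      refine mul_inv_eq_iff_eq_mul.1 ?_
      rw [← hi, ← conj_zpow, hs, inv_zpow, hi, inv_eq_self hz]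
    have huH : u ∈ H := hinv u (by
      rw [mul_inv_rev, inv_eq_self huo, inv_eq_self hbo, ← mul_assoc, mul_self_eq_one huo, one_mul])
    have hbH : b ∈ H := hinv b (by
      rw [mul_inv_rev, inv_eq_self huo, inv_eq_self hbo, mul_assoc, mul_assoc, mul_self_eq_one hbo, mul_one])
    have huQ : u ∈ Q := by
      by_contra h
      exact hzt (hu.trans (hCz u huH huo h))
    have hbQ : b ∉ Q := fun h => hzt ((hQz b h hbo).symm.trans hb.symm)
    refine ⟨⟨hmemIQ.2 ⟨huQ, huo⟩, Finset.mem_filter.2 ⟨Finset.mem_univ _, hbH, hbo, hbQ⟩⟩, fun hc => ?_⟩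
    have h2 : (u * b) ^ (2 : ℤ) = 1 := by
      rw [zpow_two, mul_assoc, ← mul_assoc b, hc, mul_assoc, mul_self_eq_one hbo, mul_one,
        mul_self_eq_one huo]
    rw [← Int.emod_add_mul_ediv i 2, zpow_add, zpow_mul, h2, one_zpow, mul_one] at hi
    rcases Int.emod_two_eq_zero_or_one i with e | e <;> rw [e] at hi
    · rw [zpow_zero] at hi; exact ne_one hz hi.symm
    · rw [zpow_one] at hi
      exact hbQ (by
        have : b = u⁻¹ * z := by rw [← hi, inv_mul_cancel_left]
        rw [this]; exact Q.mul_mem (Q.inv_mem huQ) hzQ)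
  · rintro ⟨⟨hu, hb⟩, hne⟩
    obtain ⟨huQ, huo⟩ := hmemIQ.1 hu
    obtain ⟨-, hbH, hbo, hbQ⟩ := Finset.mem_filter.1 hb
    refine ⟨(hQz u huQ huo).symm, (hCz b hbH hbo hbQ).symm, ?_⟩
    have huu := mul_self_eq_one huo
    have hbb := mul_self_eq_one hbo
    have hbi : b⁻¹ = b := inv_eq_self hbo
    set w := u * b * (u * b) with hw
    have hwmem : w ∈ Subgroup.zpowers (u * b) :=
      mul_mem (Subgroup.mem_zpowers _) (Subgroup.mem_zpowers _)
    have hw' : w = u * (b * u * b⁻¹) := by rw [hw, hbi]; group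
    have hwQ : w ∈ Q := hw' ▸ Q.mul_mem huQ (hQn b hbH u huQ)
    rcases Minimal.ExtraspecialTwo.sq_cases hQe (⟨w, hwQ⟩ : Q) with h | h
    · have hww : w * w = 1 := congrArg Subtype.val h
      have hwne : w ≠ 1 := by
        intro e
        refine hne ?_
        have : u * b = (u * b)⁻¹ := (inv_eq_of_mul_eq_one_right (hw ▸ e)).symm
        rw [mul_inv_rev, inv_eq_self huo, hbi] at this
        exact this.symm
      have hwb : w * b = b * w := by
        have : b * w * b⁻¹ = w⁻¹ := by
          rw [hw, hbi, mul_inv_rev, mul_inv_rev, inv_eq_self huo, hbi]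
          calc b * (u * b * (u * b)) * b = b * u * b * u * (b * b) := by group
            _ = _ := by rw [hbb]; group
        rw [inv_eq_of_mul_eq_one_right hww] at this
        exact (mul_inv_eq_iff_eq_mul.1 this).symm
      have hwu : w * u = u * w := by
        have : u * w * u⁻¹ = w⁻¹ := by
          rw [hw, inv_eq_self huo, mul_inv_rev, mul_inv_rev, inv_eq_self huo, hbi]
          calc u * (u * b * (u * b)) * u = (u * u) * b * u * b * u := by group
            _ = _ := by rw [huu]; group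
        rw [inv_eq_of_mul_eq_one_right hww] at this
        exact (mul_inv_eq_iff_eq_mul.1 this).symm
      by_cases hwz : w = z
      · exact hwz ▸ hwmem
      exfalso
      have huz : u ≠ z := fun e => hne (by rw [e]; exact mem_centralizer_singleton.1 hbH)
      rcases hQcomm u huQ w hwQ huu hww hwu.symm (ne_one huo) huz hwne hwz with e | e
      · exact hne (by rw [e]; exact hwb.symm)
      · refine hne ?_
        rw [e, ← mul_assoc, ← hwb, mul_assoc, mem_centralizer_singleton.1 hbH, ← mul_assoc]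
    · have hzE : ((Minimal.ExtraspecialTwo.zE hQe : Q) : G) = z := by
        rcases hcentQ _ (Minimal.ExtraspecialTwo.zE hQe).2 (fun x hx => congrArg Subtype.val
          (Subgroup.mem_center_iff.1 (Minimal.ExtraspecialTwo.zE_mem hQe) ⟨x, hx⟩)) with e' | e'
        · exact absurd (Subtype.ext e') (Minimal.ExtraspecialTwo.zE_ne hQe)
        · exact e'
      rw [← hzE, ← congrArg Subtype.val h]
      exact mul_mem hwmem hwmem

end CfsgLib.SectRank.Janko
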