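import Cfsg.Agent.Lib.SectRank.BSW.Formula
import Cfsg.Agent.Lib.SectRank.Transfer

/-!
# A 2-central involution with dihedral centralizer of order 8, no subgroup of index 2
-/

set_option autoImplicit false
set_option linter.unusedSectionVars false
set_option linter.style.haveILetI false

open CfsgLib.Involutions

namespace CfsgLib.SectRank.DihedralEight

variable {G : Type*} [Group G] [Finite G]

/-- An odd subgroup normalised by a fixed-point-free involution is inverted by it. -/
theorem inverts_of_fixedPointFree {N : Subgroup G} {y : G} (hy : y * y = 1)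
    (hn : ∀ a ∈ N, y * a * y⁻¹ ∈ N) (hfree : ∀ a ∈ N, a * y = y * a → a = 1) {a : G} (ha : a ∈ N) :
    y * a * y⁻¹ = a⁻¹ := by
  let φ : N → N := fun b => ⟨(b : G)⁻¹ * (y * b * y⁻¹), N.mul_mem (N.inv_mem b.2) (hn b b.2)⟩
  have hinj : Function.Injective φ := by
    intro b c h
    have h' : (b : G)⁻¹ * (y * b * y⁻¹) = (c : G)⁻¹ * (y * c * y⁻¹) := congrArg Subtype.val h
    have e : (c : G) * (b : G)⁻¹ * (y * b * y⁻¹) = y * c * y⁻¹ := by
      rw [mul_assoc, h']
      group
    have hc : (c : G) * (b : G)⁻¹ * y = y * ((c : G) * (b : G)⁻¹) := by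
      calc (c : G) * (b : G)⁻¹ * y = (c : G) * (b : G)⁻¹ * (y * b * y⁻¹) * (y * (b : G)⁻¹) := by
            group
        _ = y * c * y⁻¹ * (y * (b : G)⁻¹) := by rw [e]
        _ = y * ((c : G) * (b : G)⁻¹) := by group
    exact Subtype.ext (mul_inv_eq_one.1 (hfree _ (N.mul_mem c.2 (N.inv_mem b.2)) hc)).symm
  obtain ⟨b, hb⟩ := (Finite.injective_iff_surjective.1 hinj) ⟨a, ha⟩
  have hb' : (b : G)⁻¹ * (y * b * y⁻¹) = a := congrArg Subtype.val hb
  have hyi : y⁻¹ = y := inv_eq_of_mul_eq_one_right hy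
  rw [← hb', hyi]
  calc y * ((b : G)⁻¹ * (y * b * y)) * y = y * (b : G)⁻¹ * y * b * (y * y) := by group
    _ = y * (b : G)⁻¹ * y * b := by rw [hy, mul_one]
    _ = ((b : G)⁻¹ * (y⁻¹ * b * y⁻¹))⁻¹ := by group
    _ = ((b : G)⁻¹ * (y * b * y))⁻¹ := by rw [hyi]

variable (α g s : G)

/-- The setting of Brauer–Suzuki–Wall with `K` cyclic of order 4. -/
theorem exists_setting (hG : ∀ H : Subgroup G, H.index ≠ 2) (hα : orderOf α = 2) (P : Sylow 2 G)
    (hαc : ∀ x ∈ (P : Subgroup G), x * α = α * x)
    (hg : orderOf g = 4) (hgα : g * g = α) (hs : orderOf s = 2) (hinv : s * g * s⁻¹ = g⁻¹)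
    (hsK : s ∉ Subgroup.zpowers g) (hsC : s * α = α * s)
    (hcard : Nat.card (Subgroup.centralizer ({α} : Set G)) = 8) :
    (P : Subgroup G) = Subgroup.centralizer ({α} : Set G) ∧
      ∃ S : BSW.Setting G, S.t = α ∧ S.K = Subgroup.zpowers g ∧ S.s = s := by
  haveI := Fact.mk Nat.prime_two
  set C := Subgroup.centralizer ({α} : Set G) with hC
  set K := Subgroup.zpowers g with hK
  have hgC : g ∈ C := by
    rw [hC, mem_centralizer_singleton, ← hgα, mul_assoc]
  have hKC : K ≤ C := by rw [hK, Subgroup.zpowers_le]; exact hgC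
  have hsC' : s ∈ C := mem_centralizer_singleton.2 hsC
  have hαK : α ∈ K := hgα ▸ K.mul_mem (Subgroup.mem_zpowers g) (Subgroup.mem_zpowers g)
  have hPC : (P : Subgroup G) = C := by
    have hle : (P : Subgroup G) ≤ C := fun x hx => mem_centralizer_singleton.2 (hαc x hx)
    refine Subgroup.eq_of_le_of_card_ge hle ?_
    rw [hcard, P.card_eq_multiplicity]
    refine Nat.le_of_dvd (pow_pos two_pos _) ?_
    have h8 : 2 ^ 3 ∣ Nat.card G := by
      have := Subgroup.card_subgroup_dvd_card C
      rw [hcard] at this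
      exact this
    exact (show (8 : ℕ) = 2 ^ 3 by norm_num) ▸
      pow_dvd_pow 2 ((Nat.prime_two.pow_dvd_iff_le_factorization Nat.card_pos.ne').1 h8)
  have hK4 : Nat.card K = 4 := by rw [hK, Nat.card_zpowers, hg]
  have hmem : ∀ x ∈ K, x * x = 1 → x = 1 ∨ x = α := by
    intro x hx hxx
    obtain ⟨z, hz⟩ := Subgroup.mem_zpowers_iff.1 hx
    rw [← hz, ← zpow_mod_orderOf, hg] at hxx ⊢
    have h4 : z % ((4 : ℕ) : ℤ) = 0 ∨ z % ((4 : ℕ) : ℤ) = 1 ∨ z % ((4 : ℕ) : ℤ) = 2 ∨
        z % ((4 : ℕ) : ℤ) = 3 := by omega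
    rcases h4 with e | e | e | e <;> rw [e] at hxx ⊢
    · left; simp
    · exfalso
      rw [zpow_one, hgα] at hxx
      exact ne_one hα hxx
    · right
      rw [show (2 : ℤ) = ((2 : ℕ) : ℤ) from rfl, zpow_natCast, pow_two, hgα]
    · exfalso
      rw [show (3 : ℤ) = ((3 : ℕ) : ℤ) from rfl, zpow_natCast, ← pow_add] at hxx
      have := orderOf_dvd_of_pow_eq_one hxx
      rw [hg] at this
      norm_num at this
  have hinvK : ∀ x ∈ K, s * x * s⁻¹ = x⁻¹ := by
    intro x hx
    obtain ⟨z, hz⟩ := Subgroup.mem_zpowers_iff.1 hx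
    rw [← hz, ← conj_zpow, hinv, inv_zpow]
  have hH : K ⊔ Subgroup.zpowers s = C := by
    refine Subgroup.eq_of_le_of_card_ge (sup_le hKC (by rw [Subgroup.zpowers_le]; exact hsC')) ?_
    have hlt : K < K ⊔ Subgroup.zpowers s :=
      lt_of_le_of_ne le_sup_left fun e => hsK (e ▸ Subgroup.mem_sup_right (Subgroup.mem_zpowers s))
    have hle := Subgroup.card_le_of_le hlt.le
    have hne : Nat.card K ≠ Nat.card (K ⊔ Subgroup.zpowers s : Subgroup G) := fun e =>
      hlt.ne (Subgroup.eq_of_le_of_card_ge hlt.le e.ge)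
    obtain ⟨j, hj⟩ := Subgroup.card_dvd_of_le hlt.le
    rw [hcard]
    rw [hK4] at hj hle hne
    have : 2 ≤ j := by
      rcases j with _ | _ | j
      · exact absurd (by simpa using hj) Nat.card_pos.ne'
      · exact absurd (by rw [hj]) hne
      · omega
    omega
  have hCK : K ⊓ Subgroup.centralizer ({s} : Set G) = Subgroup.zpowers α := by
    refine le_antisymm ?_ ?_
    · rintro x ⟨hx, hxs⟩
      have h := hinvK x hx
      rw [show s * x = x * s from (mem_centralizer_singleton.1 hxs).symm, mul_inv_cancel_right] at h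
      rcases hmem x hx (by nth_rewrite 1 [h]; exact inv_mul_cancel x) with e | e <;> rw [e]
      · exact one_mem _
      · exact Subgroup.mem_zpowers α
    · rw [Subgroup.zpowers_le]
      exact ⟨hαK, mem_centralizer_singleton.2 hsC.symm⟩
  have hKab : IsMulCommutative K := inferInstance
  have hTI : ∀ x : G, x ∉ C → K ⊓ K.map (MulAut.conj x).toMonoidHom = ⊥ := by
    intro x hx
    by_contra hne
    obtain ⟨y, ⟨hy, y', hy', he⟩, hy1⟩ := (Subgroup.bot_or_exists_ne_one _).resolve_left hne
    change x * y' * x⁻¹ = y at he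
    have hsq : ∀ w ∈ K, w ≠ 1 → w * w ≠ 1 → w * w = α := by
      intro w hw hw1 hw2
      refine (hmem (w * w) (K.mul_mem hw hw) ?_).resolve_left hw2
      have := Subgroup.orderOf_dvd_natCard K hw
      rw [hK4, orderOf_dvd_iff_pow_eq_one] at this
      rw [show w * w * (w * w) = w ^ 4 by simp only [pow_succ, pow_zero, one_mul, mul_assoc]]
      exact this
    refine hx (mem_centralizer_singleton.2 ?_)
    by_cases h2 : y * y = 1
    · have ey := (hmem y hy h2).resolve_left hy1
      have hy'' : y' * y' = 1 := by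
        have : y' = x⁻¹ * y * x := by rw [← he]; group
        rw [this, show x⁻¹ * y * x * (x⁻¹ * y * x) = x⁻¹ * (y * y) * x by group, h2]
        group
      have ey' := (hmem y' hy' hy'').resolve_left fun e => hy1 (by rw [← he, e]; group)
      rw [ey, ey'] at he
      exact mul_inv_eq_iff_eq_mul.1 he
    · have e1 := hsq y hy hy1 h2
      have hy'1 : y' ≠ 1 := fun e => hy1 (by rw [← he, e]; group)
      have hy'2 : y' * y' ≠ 1 := fun e => h2 (by
        rw [← he, show x * y' * x⁻¹ * (x * y' * x⁻¹) = x * (y' * y') * x⁻¹ by group, e]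
        group)
      have e2 := hsq y' hy' hy'1 hy'2
      rw [← he, show x * y' * x⁻¹ * (x * y' * x⁻¹) = x * (y' * y') * x⁻¹ by group, e2] at e1
      exact mul_inv_eq_iff_eq_mul.1 e1
  have hconj1 : ∀ u : G, orderOf u = 2 → IsConj α u := by
    intro u hu
    have hpg : IsPGroup 2 (Subgroup.zpowers u) :=
      IsPGroup.of_card (n := 1) (by rw [pow_one, Nat.card_zpowers, hu])
    obtain ⟨Q, hQ⟩ := hpg.exists_le_sylow
    obtain ⟨c, hc⟩ := MulAction.exists_smul_eq G Q P
    have hcu : c * u * c⁻¹ ∈ (P : Subgroup G) := by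
      rw [← hc, Sylow.coe_subgroup_smul]
      exact ⟨u, hQ (Subgroup.mem_zpowers u), rfl⟩
    have huo : orderOf (c * u * c⁻¹) = 2 := (orderOf_conj c u).trans hu
    refine IsConj.trans ?_ (isConj_iff.2 ⟨c, rfl⟩ : IsConj u (c * u * c⁻¹)).symm
    by_cases hk : c * u * c⁻¹ ∈ K
    · rw [(hmem _ hk (mul_self_eq_one huo)).resolve_left (ne_one huo)]
    · have hM : (K.subgroupOf (P : Subgroup G)).index = 2 := by
        have h := (K.subgroupOf (P : Subgroup G)).card_mul_index
        rw [Nat.card_congr (Subgroup.subgroupOfEquivOfLe (hPC ▸ hKC)).toEquiv, hK4] at h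
        have : Nat.card (P : Subgroup G) = 8 := by rw [hPC, hcard]
        omega
      obtain ⟨a, h, haM⟩ := exists_conj_mem_of_index_two hG P _ hM ⟨_, hcu⟩
        (by rw [pow_two]; exact mul_self_eq_one huo) hk
      have hao : orderOf (a * (c * u * c⁻¹) * a⁻¹) = 2 := (orderOf_conj a _).trans huo
      rw [← (hmem _ haM (mul_self_eq_one hao)).resolve_left (ne_one hao)]
      exact (isConj_iff.2 ⟨a, rfl⟩).symm
  exact ⟨hPC,
    ⟨α, hα, K, hKab, hKC, hαK, s, hs, hsC', hsK, hH, hCK, hinvK, hTI,
      fun x y hx hy => (hconj1 x hx).symm.trans (hconj1 y hy)⟩, rfl, rfl, rfl⟩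

/-- The conclusion: simple of order 168 or 360. -/
theorem simple_and_card (hG : ∀ H : Subgroup G, H.index ≠ 2) (hα : orderOf α = 2) (P : Sylow 2 G)
    (hαc : ∀ x ∈ (P : Subgroup G), x * α = α * x)
    (hg : orderOf g = 4) (hgα : g * g = α) (hs : orderOf s = 2) (hinv : s * g * s⁻¹ = g⁻¹)
    (hsK : s ∉ Subgroup.zpowers g) (hsC : s * α = α * s)
    (hcard : Nat.card (Subgroup.centralizer ({α} : Set G)) = 8) :
    IsSimpleGroup G ∧ (Nat.card G = 168 ∨ Nat.card G = 360) := by
  haveI := Fact.mk Nat.prime_two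
  haveI := Fintype.ofFinite G
  obtain ⟨hPC, S, hSt, hSK, hSs⟩ := exists_setting α g s hG hα P hαc hg hgα hs hinv hsK hsC hcard
  have hk : S.k = 4 := by
    rw [BSW.Setting.k, hSK, Nat.card_zpowers, hg]
  refine ⟨?_, ?_⟩
  · haveI : Nontrivial G := ⟨α, 1, ne_one hα⟩
    refine ⟨fun N hN => ?_⟩
    by_cases hbot : N = ⊥
    · exact Or.inl hbot
    refine Or.inr ?_
    have hsg : orderOf (s * g) = 2 := by
      refine orderOf_eq_two_iff.2 ⟨?_, fun e => hsK ?_⟩
      · calc s * g * (s * g) = s * g * s⁻¹ * g := by rw [inv_eq_self hs]; group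
          _ = 1 := by rw [hinv, inv_mul_cancel]
      · rw [mul_eq_one_iff_eq_inv.1 e]
        exact Subgroup.inv_mem _ (Subgroup.mem_zpowers g)
    by_cases hev : Even (Nat.card N)
    · obtain ⟨u, hu⟩ := exists_prime_orderOf_dvd_card' (G := N) 2 hev.two_dvd
      rw [← Subgroup.orderOf_coe] at hu
      have hall : ∀ x : G, orderOf x = 2 → x ∈ N := by
        intro x hx
        obtain ⟨c, hc⟩ := isConj_iff.1 (S.hconj (u : G) x hu hx)
        rw [← hc]
        exact hN.conj_mem _ u.2 c
      have hgN : g ∈ N := by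
        have := N.mul_mem (hall s hs) (hall _ hsg)
        rwa [← mul_assoc, mul_self_eq_one hs, one_mul] at this
      have hPN : (P : Subgroup G) ≤ N := by
        rw [hPC, ← hSt, ← S.hH, hSK, hSs]
        exact sup_le (by rw [Subgroup.zpowers_le]; exact hgN)
          (by rw [Subgroup.zpowers_le]; exact hall s hs)
      have hNP : Subgroup.normalizer ((P : Subgroup G) : Set G) ≤ N := by
        intro n hn
        refine hPN ?_
        rw [hPC, mem_centralizer_singleton]
        have hαP : α ∈ (P : Subgroup G) := by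
          rw [hPC]; exact mem_centralizer_singleton.2 rfl
        -- `α` is the only central involution of `P`
        have hm := (Subgroup.mem_normalizer_iff.1 hn α).1 hαP
        have ho : orderOf (n * α * n⁻¹) = 2 := (orderOf_conj n α).trans hα
        have hcent : n * α * n⁻¹ * g = g * (n * α * n⁻¹) := by
          have hgP : g ∈ (P : Subgroup G) := by
            rw [hPC]; exact mem_centralizer_singleton.2 (by rw [← hgα, mul_assoc])
          have hg' : n⁻¹ * g * n ∈ (P : Subgroup G) :=
            (Subgroup.mem_normalizer_iff.1 hn _).2 (by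
              rw [show n * (n⁻¹ * g * n) * n⁻¹ = g by group]; exact hgP)
          calc n * α * n⁻¹ * g = n * (α * (n⁻¹ * g * n)) * n⁻¹ := by group
            _ = n * (n⁻¹ * g * n * α) * n⁻¹ := by rw [hαc _ hg']
            _ = g * (n * α * n⁻¹) := by group
        have hmH : n * α * n⁻¹ ∈ S.H := by
          show _ ∈ Subgroup.centralizer ({S.t} : Set G)
          rw [hSt, ← hPC]; exact hm
        have hgK : g ∈ S.K := hSK ▸ Subgroup.mem_zpowers g
        have hK : n * α * n⁻¹ ∈ S.K := by
          by_contra hnK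
          have := S.inverts hmH hnK hgK
          rw [hcent, mul_inv_cancel_right] at this
          have h2 : g * g = 1 := mul_eq_one_iff_eq_inv.2 this
          exact ne_one hα (hgα ▸ h2)
        have := S.eq_t_of_orderOf hK ho
        rw [hSt] at this
        exact mul_inv_eq_iff_eq_mul.1 this
      haveI := hN
      have h := Sylow.normalizer_sup_eq_top' P hPN
      rw [eq_top_iff, ← h]
      exact sup_le hNP le_rfl
    · exfalso
      have hodd : Odd (Nat.card N) := Nat.not_even_iff_odd.1 hev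
      obtain ⟨a, ha, ha1⟩ := (Subgroup.bot_or_exists_ne_one N).resolve_left hbot
      have hfree : ∀ y : G, orderOf y = 2 → ∀ b ∈ N, b * y = y * b → b = 1 := by
        intro y hy b hb hby
        obtain ⟨c, hc⟩ := isConj_iff.1 (S.hconj S.t y S.ht hy)
        have hm : c⁻¹ * b * c ∈ Subgroup.centralizer ({α} : Set G) := by
          rw [mem_centralizer_singleton, ← hSt]
          have e : S.t = c⁻¹ * y * c := by rw [← hc]; group
          rw [e, show c⁻¹ * b * c * (c⁻¹ * y * c) = c⁻¹ * (b * y) * c by group, hby]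
          group
        have h1 := Subgroup.orderOf_dvd_natCard _ hm
        have h2 := Subgroup.orderOf_dvd_natCard N hb
        have e3 := orderOf_conj c⁻¹ b
        rw [inv_inv] at e3
        rw [e3, hcard] at h1
        have hcop : Nat.Coprime (2 ^ 3) (Nat.card N) :=
          Nat.Coprime.pow_left 3 ((Nat.prime_two.coprime_iff_not_dvd).2 fun h => hev (even_iff_two_dvd.2 h))
        exact orderOf_eq_one_iff.1 (Nat.eq_one_of_dvd_coprimes hcop (by simpa using h1) h2)
      have hsα : orderOf (s * α) = 2 := by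
        refine orderOf_mul_eq_two hs hα hsC fun e => hsK ?_
        rw [e, ← hgα]
        exact Subgroup.mul_mem _ (Subgroup.mem_zpowers g) (Subgroup.mem_zpowers g)
      have i1 := inverts_of_fixedPointFree (mul_self_eq_one hα) (fun b hb => hN.conj_mem b hb α)
        (hfree α hα) ha
      have i2 := inverts_of_fixedPointFree (mul_self_eq_one hs) (fun b hb => hN.conj_mem b hb s)
        (hfree s hs) (N.inv_mem ha)
      refine ha1 (hfree _ hsα a ha ?_)
      have e : s * α * a * (s * α)⁻¹ = a := by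
        rw [show s * α * a * (s * α)⁻¹ = s * (α * a * α⁻¹) * s⁻¹ by group, i1, i2, inv_inv]
      exact (mul_inv_eq_iff_eq_mul.1 e).symm
  · have hcardG := S.card_G
    rcases S.dichotomy (by omega) with ⟨hv, -⟩ | ⟨hv, -⟩
    · right
      rw [hk] at hv hcardG
      have : S.v = 45 := by exact_mod_cast (hv.trans (by norm_num) : (S.v : ℤ) = 45)
      rw [hcardG, this]
    · left
      rw [hk] at hv hcardG
      have : S.v = 21 := by exact_mod_cast (hv.trans (by norm_num) : (S.v : ℤ) = 21)
      rw [hcardG, this]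

end CfsgLib.SectRank.DihedralEight
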