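import Cfsg.Agent.Lib.SectRank.CommPairs
import Cfsg.Agent.Lib.SectRank.DihedralEight
import Cfsg.Agent.Lib.SectRank.SylowInter
import Cfsg.Agent.Lib.Cores.PCore
import Cfsg.Prelude.Def_Transfer
import Cfsg.Agent.Lib.PGroups.Frattini
import Mathlib.GroupTheory.SpecificGroups.Cyclic
import Mathlib.GroupTheory.Commutator.Basic

/-!
# An involution with centralizer a four-group that is not a Sylow 2-subgroup
-/

set_option autoImplicit false
set_option linter.unusedSectionVars false
set_option linter.style.haveILetI false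

open Cfsg CfsgLib.Involutions
open scoped commutatorElement

namespace CfsgLib.SectRank.KleinCentralizer

variable {G : Type*} [Group G] [Finite G]

/-- A nontrivial normal 2-subgroup gives a normal elementary abelian subgroup of order 2 or 4. -/
theorem exists_small_normal {x : G} (hx : orderOf x = 2)
    (hC4 : Nat.card ↥(Subgroup.centralizer ({x} : Set G)) = 4) {P : Subgroup G} [P.Normal]
    (hP : IsPGroup 2 P) (hne : P ≠ ⊥) :
    ∃ E : Subgroup G, E.Normal ∧ IsElementaryAbelian 2 E ∧ (Nat.card E = 2 ∨ Nat.card E = 4) := by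
  haveI := Fact.mk Nat.prime_two
  have hxx := mul_self_eq_one hx
  let E : Subgroup G :=
    { carrier := {e | e ∈ P ∧ e * e = 1 ∧ ∀ p ∈ P, p * e = e * p}
      one_mem' := ⟨P.one_mem, mul_one 1, fun p _ => by simp⟩
      mul_mem' := by
        rintro a b ⟨ha, ha2, hac⟩ ⟨hb, hb2, hbc⟩
        refine ⟨P.mul_mem ha hb, ?_, fun p hp => ?_⟩
        · rw [mul_assoc, ← mul_assoc b, hac b hb, mul_assoc, hb2, mul_one, ha2]
        · rw [← mul_assoc, hac p hp, mul_assoc, hbc p hp, mul_assoc]
      inv_mem' := by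
        rintro a ⟨ha, ha2, hac⟩
        refine ⟨P.inv_mem ha, by rw [← mul_inv_rev, ha2, inv_one], fun p hp => ?_⟩
        exact (Commute.inv_right (hac p hp) : Commute p a⁻¹) }
  have hEn : E.Normal := ⟨fun e he c => by
    obtain ⟨he1, he2, hec⟩ := he
    refine ⟨(inferInstance : P.Normal).conj_mem e he1 c, ?_, fun p hp => ?_⟩
    · rw [show c * e * c⁻¹ * (c * e * c⁻¹) = c * (e * e) * c⁻¹ by group, he2]; group
    · have h := hec (c⁻¹ * p * c) (by
        have := (inferInstance : P.Normal).conj_mem p hp c⁻¹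
        rwa [inv_inv] at this)
      calc p * (c * e * c⁻¹) = c * (c⁻¹ * p * c * e) * c⁻¹ := by group
        _ = c * (e * (c⁻¹ * p * c)) * c⁻¹ := by rw [h]
        _ = c * e * c⁻¹ * p := by group⟩
  have hEab : IsElementaryAbelian 2 E :=
    ⟨⟨⟨fun a b => Subtype.ext (b.2.2.2 a a.2.1)⟩⟩, fun a ha => by rw [pow_two]; exact ha.2.1⟩
  have hEpos : E ≠ ⊥ := by
    haveI : Nontrivial P := (Subgroup.nontrivial_iff_ne_bot P).2 hne
    haveI := hP.center_nontrivial
    obtain ⟨z, hz⟩ := exists_prime_orderOf_dvd_card' (G := Subgroup.center P) 2 (by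
      obtain ⟨n, hn, e⟩ := (hP.to_subgroup (Subgroup.center P)).nontrivial_iff_card.1 inferInstance
      rw [e]; exact dvd_pow_self 2 hn.ne')
    rw [← Subgroup.orderOf_coe, ← Subgroup.orderOf_coe] at hz
    intro h
    have hm : ((z : P) : G) ∈ E :=
      ⟨(z : P).2, mul_self_eq_one hz, fun p hp =>
        congrArg Subtype.val (Subgroup.mem_center_iff.1 z.2 ⟨p, hp⟩)⟩
    rw [h, Subgroup.mem_bot] at hm
    exact ne_one hz hm
  have hE1 : 1 < Nat.card E := (Subgroup.one_lt_card_iff_ne_bot E).2 hEpos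
  obtain ⟨n, hn⟩ := (hP.to_le (fun e he => he.1 : E ≤ P)).exists_card_eq
  refine ⟨E, hEn, hEab, ?_⟩
  have hle : Nat.card E ≤ 4 := by
    set V := Subgroup.centralizer ({x} : Set G)
    by_cases hxE : x ∈ E
    · rw [← hC4]
      exact Subgroup.card_le_of_le fun e he => mem_centralizer_singleton.2 (hxE.2.2 e he.1)
    · have hxV : x ∈ V := mem_centralizer_singleton.2 rfl
      have hcard2 : Nat.card (E ⊓ V : Subgroup G) ≤ 2 := by
        have hlt : E ⊓ V < V := lt_of_le_of_ne inf_le_right fun e => hxE ((by rw [e]; exact hxV : x ∈ E ⊓ V).1)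
        obtain ⟨j, hj⟩ := Subgroup.card_dvd_of_le hlt.le
        have hne4 : Nat.card (E ⊓ V : Subgroup G) ≠ Nat.card V := fun e =>
          hlt.ne (Subgroup.eq_of_le_of_card_ge hlt.le e.ge)
        rw [hC4] at hj hne4
        rcases j with _ | _ | j
        · simp at hj
        · exact absurd (by omega) hne4
        · nlinarith
      have hconj : ∀ e ∈ E, x * e * x ∈ E := fun e he => by
        have := hEn.conj_mem e he x
        rwa [inv_eq_self hx] at this
      let ψ : E →* (E ⊓ V : Subgroup G) :=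
        { toFun := fun e => ⟨(e : G) * (x * e * x), E.mul_mem e.2 (hconj e e.2),
            mem_centralizer_singleton.2 (by
              have hcomm : (e : G) * (x * e * x) = x * e * x * e :=
                (hconj e e.2).2.2 e e.2.1
              calc (e : G) * (x * e * x) * x = (e : G) * x * e * (x * x) := by group
                _ = (x * x) * ((e : G) * x * e) := by rw [hxx, mul_one, one_mul]
                _ = x * (x * e * x * e) := by group
                _ = x * ((e : G) * (x * e * x)) := by rw [hcomm])⟩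
          map_one' := Subtype.ext (by simp [hxx])
          map_mul' := fun a b => Subtype.ext (by
            show (a : G) * b * (x * ((a : G) * b) * x) = a * (x * a * x) * (b * (x * b * x))
            have hc : (b : G) * (x * a * x) = x * a * x * b := (hconj a a.2).2.2 b b.2.1
            calc (a : G) * b * (x * ((a : G) * b) * x)
                = (a : G) * b * (x * (a : G) * (x * x) * b * x) := by rw [hxx]; group
              _ = (a : G) * ((b : G) * (x * a * x)) * (x * b * x) := by group
              _ = (a : G) * (x * a * x * b) * (x * b * x) := by rw [hc]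
              _ = _ := by group) }
      have hker : Nat.card ψ.ker ≤ 2 := by
        refine le_trans (Nat.card_le_card_of_injective
          (fun e => (⟨(e : E), (e : E).2, mem_centralizer_singleton.2 ?_⟩ : (E ⊓ V : Subgroup G))) ?_) hcard2
        · have h : ((e : E) : G) * (x * (e : E) * x) = 1 := congrArg Subtype.val e.2
          have h1 := eq_inv_of_mul_eq_one_right h
          rw [inv_eq_of_mul_eq_one_right (e : E).2.2.1] at h1
          calc ((e : E) : G) * x = x * (e : E) * x * x := by rw [h1]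
            _ = x * (e : E) := by rw [mul_assoc, hxx, mul_one]
        · intro a b hab
          exact Subtype.ext (Subtype.ext (congrArg (fun z : (E ⊓ V : Subgroup G) => (z : G)) hab))
      have h := ψ.ker.card_mul_index
      rw [Subgroup.index_ker] at h
      have h2 : Nat.card ψ.range ≤ 2 := le_trans (Nat.le_of_dvd Nat.card_pos (Subgroup.card_subgroup_dvd_card _)) hcard2
      rw [← h]
      calc Nat.card ψ.ker * Nat.card ψ.range ≤ 2 * 2 := Nat.mul_le_mul hker h2
        _ = 4 := rfl
  rw [hn] at hle hE1 ⊢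
  rcases n with _ | _ | _ | n
  · simp at hE1
  · simp
  · simp
  · have : 2 ^ 3 ≤ 2 ^ (n + 3) := Nat.pow_le_pow_right (by norm_num) (by omega)
    simp at this
    omega

/-- If `8` divides the group order but not the order of `C(x)`, there is a subgroup of index 2
not containing the involution `x`. -/
theorem exists_index_two_not_mem' {x : G} (hx : orderOf x = 2)
    (hC8 : ¬ 8 ∣ Nat.card ↥(Subgroup.centralizer ({x} : Set G))) (h8 : 8 ∣ Nat.card G) :
    ∃ K : Subgroup G, K.index = 2 ∧ x ∉ K := by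
  classical
  haveI := Fact.mk Nat.prime_two
  set V := Subgroup.centralizer ({x} : Set G)
  obtain ⟨P, hVP⟩ := (IsPGroup.of_card (p := 2) (n := 1) (by rw [Nat.card_zpowers, hx, pow_one]) :
    IsPGroup 2 (Subgroup.zpowers x)).exists_le_sylow
  have hxP : x ∈ (P : Subgroup G) := hVP (Subgroup.mem_zpowers x)
  set S := (P : Subgroup G)
  set x₀ : S := ⟨x, hxP⟩
  have hS8 : 8 ≤ Nat.card S := by
    rw [P.card_eq_multiplicity]
    have := (Nat.prime_two.pow_dvd_iff_le_factorization (k := 3) Nat.card_pos.ne').1 h8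
    calc 8 = 2 ^ 3 := rfl
      _ ≤ _ := Nat.pow_le_pow_right (by norm_num) this
  set D := commutator S
  -- conjugates of `x` in `S` fill cosets of the derived subgroup
  have hcoset : ∀ y : S, IsConj x (y : G) →
      Nat.card (Subgroup.centralizer ({y} : Set S)) ≤ 4 ∧
      ∀ y' : S, IsConj y y' → y⁻¹ * y' ∈ D := by
    intro y hy
    refine ⟨?_, fun y' hy' => ?_⟩
    · obtain ⟨c, hc⟩ := isConj_iff.1 hy
      set Cy := Subgroup.centralizer ({y} : Set S)
      obtain ⟨n, hn⟩ := (P.isPGroup'.to_subgroup Cy).exists_card_eq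
      let f : Cy →* V :=
        { toFun := fun u => ⟨c⁻¹ * ((u : S) : G) * c, mem_centralizer_singleton.2 (by
            have h : ((u : S) : G) * (y : G) = (y : G) * ((u : S) : G) :=
              congrArg Subtype.val (mem_centralizer_singleton.1 u.2)
            rw [← hc] at h
            calc c⁻¹ * ((u : S) : G) * c * x = c⁻¹ * (((u : S) : G) * (c * x * c⁻¹)) * c := by group
              _ = c⁻¹ * (c * x * c⁻¹ * ((u : S) : G)) * c := by rw [h]
              _ = x * (c⁻¹ * ((u : S) : G) * c) := by group)⟩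
          map_one' := Subtype.ext (by simp)
          map_mul' := fun a b => Subtype.ext (by
            show c⁻¹ * ((((a * b : Cy) : S)) : G) * c = _
            simp [mul_assoc]) }
      have hd : Nat.card Cy ∣ Nat.card V := Subgroup.card_dvd_of_injective f fun a b hab => by
        have := congrArg (fun z : V => (z : G)) hab
        simp only [f, MonoidHom.coe_mk, OneHom.coe_mk, mul_left_inj, mul_right_inj] at this
        exact Subtype.ext (Subtype.ext this)
      rw [hn] at hd ⊢
      rcases Nat.lt_or_ge n 3 with h | h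
      · calc 2 ^ n ≤ 2 ^ 2 := Nat.pow_le_pow_right (by norm_num) (by omega)
          _ = 4 := rfl
      · exact absurd ((show (8 : ℕ) = 2 ^ 3 from rfl) ▸ (pow_dvd_pow 2 h).trans hd) hC8
    · obtain ⟨u, rfl⟩ := isConj_iff.1 hy'
      have e : y⁻¹ * (u * y * u⁻¹) = ⁅y⁻¹, u⁆ := by
        rw [commutatorElement_def, inv_inv]; group
      rw [e]
      exact Subgroup.commutator_mem_commutator (Subgroup.mem_top _) (Subgroup.mem_top _)
  have hclass : ∀ y : S, Nat.card {y' : S // IsConj y y'} * Nat.card (Subgroup.centralizer ({y} : Set S))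
      = Nat.card S := fun y => CfsgLib.Involutions.card_isConj_mul_card_centralizer y
  have hinto : ∀ y : S, IsConj x (y : G) → Nat.card {y' : S // IsConj y y'} ≤ Nat.card D := fun y hy =>
    Nat.card_le_card_of_injective (fun y' => (⟨y⁻¹ * y'.1, (hcoset y hy).2 y' y'.2⟩ : D))
      fun a b hab => Subtype.ext (mul_left_cancel (congrArg Subtype.val hab))
  have hSpos : 0 < Nat.card S := Nat.card_pos
  have hDidx := D.card_mul_index
  -- `S / S'` is a four-group
  have hnc : ¬ IsCyclic (S ⧸ D) := by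
    intro hcyc
    haveI : Group.IsNilpotent S := P.isPGroup'.isNilpotent
    obtain ⟨g, hg⟩ := hcyc.exists_generator
    obtain ⟨g₀, rfl⟩ := QuotientGroup.mk_surjective g
    have htop : Subgroup.zpowers g₀ ⊔ D = ⊤ := by
      rw [eq_top_iff]
      intro s _
      obtain ⟨z, hz⟩ := Subgroup.mem_zpowers_iff.1 (hg (QuotientGroup.mk s))
      rw [← QuotientGroup.mk_zpow, QuotientGroup.eq] at hz
      rw [← mul_inv_cancel_left (g₀ ^ z) s]
      exact Subgroup.mul_mem_sup (Subgroup.zpow_mem _ (Subgroup.mem_zpowers g₀) z) hz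
    have hfr := frattini_nongenerating
      (eq_top_iff.2 (htop ▸ sup_le_sup_left (CfsgLib.PGroups.commutator_le_frattini P.isPGroup') _))
    have hcom : ∀ a b : S, a * b = b * a := fun a b => by
      obtain ⟨i, rfl⟩ := Subgroup.mem_zpowers_iff.1 (hfr ▸ Subgroup.mem_top a : a ∈ Subgroup.zpowers g₀)
      obtain ⟨j, rfl⟩ := Subgroup.mem_zpowers_iff.1 (hfr ▸ Subgroup.mem_top b : b ∈ Subgroup.zpowers g₀)
      exact (Commute.zpow_zpow_self g₀ i j).eq
    have : Nat.card S ≤ 4 := (Nat.card_le_card_of_injective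
      (fun u : S => (⟨u, mem_centralizer_singleton.2 (hcom u x₀)⟩ :
        Subgroup.centralizer ({x₀} : Set S)))
      fun a b hab => congrArg (fun z : Subgroup.centralizer ({x₀} : Set S) => (z : S)) hab).trans
        (hcoset x₀ (IsConj.refl _)).1
    omega
  have hx₀ : IsConj x (x₀ : G) := IsConj.refl _
  have hidx4 : D.index = 4 := by
    have h1 := hinto x₀ hx₀
    have h2 := (hcoset x₀ hx₀).1
    have h3 := hclass x₀
    have hle : D.index ≤ 4 := by
      by_contra h
      have : Nat.card S ≤ Nat.card D * 4 := h3 ▸ Nat.mul_le_mul h1 h2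
      have := Nat.card_pos (α := D)
      have h5 : Nat.card D * 5 ≤ Nat.card D * D.index := Nat.mul_le_mul_left _ (by omega)
      omega
    obtain ⟨n, hn⟩ := (P.isPGroup'.to_quotient D).exists_card_eq
    change D.index = 2 ^ n at hn
    rcases n with _ | _ | _ | n
    · haveI : Subsingleton (S ⧸ D) := ((Nat.card_eq_one_iff_unique (α := S ⧸ D)).1 hn).1
      exact absurd (isCyclic_of_subsingleton : IsCyclic (S ⧸ D)) hnc
    · haveI : Fact (Nat.Prime 2) := ⟨Nat.prime_two⟩
      exact absurd (isCyclic_of_prime_card (p := 2) hn) hnc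
    · exact hn
    · have h8' : 2 ^ 3 ≤ 2 ^ (n + 3) := Nat.pow_le_pow_right (by norm_num) (by omega)
      have h84 : 2 ^ 3 ≤ 4 := h8'.trans (hn.symm.trans_le hle)
      exact absurd h84 (by decide)
  have hfull : ∀ y : S, IsConj x (y : G) → y ∉ D ∧ ∀ d ∈ D, IsConj x ((y * d : S) : G) := by
    intro y hy
    have h1 := hinto y hy
    have h2 := (hcoset y hy).1
    have h3 := hclass y
    rw [hidx4] at hDidx
    rw [← hDidx] at h3
    have hle : Nat.card D ≤ Nat.card {y' : S // IsConj y y'} := by
      by_contra h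
      have : Nat.card {y' : S // IsConj y y'} * Nat.card (Subgroup.centralizer ({y} : Set S)) < Nat.card D * 4 :=
        Nat.mul_lt_mul_of_lt_of_le (by omega) h2 (by norm_num)
      omega
    let ι : {y' : S // IsConj y y'} → D := fun y' => ⟨y⁻¹ * y'.1, (hcoset y hy).2 y' y'.2⟩
    have hsurj : Function.Surjective ι :=
      ((Nat.bijective_iff_injective_and_card ι).2
        ⟨fun a b hab => Subtype.ext (mul_left_cancel (congrArg Subtype.val hab)), le_antisymm h1 hle⟩).2
    have hall : ∀ d ∈ D, IsConj y (y * d) := by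
      intro d hd
      obtain ⟨⟨y', hy'⟩, he⟩ := hsurj ⟨d, hd⟩
      have : y⁻¹ * y' = d := congrArg Subtype.val he
      rw [← this, mul_inv_cancel_left]
      exact hy'
    refine ⟨fun hyD => ?_, fun d hd => hy.trans ?_⟩
    · have h := hall y⁻¹ (D.inv_mem hyD)
      rw [mul_inv_cancel] at h
      obtain ⟨u, hu⟩ := isConj_iff.1 h
      have hy1 : y = 1 := by
        have := congrArg (fun z => u⁻¹ * z * u) hu
        simpa [mul_assoc] using this
      obtain ⟨c, hc⟩ := isConj_iff.1 hy
      rw [hy1, OneMemClass.coe_one, conj_eq_one_iff] at hc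
      exact ne_one hx hc
    · obtain ⟨u, hu⟩ := isConj_iff.1 (hall d hd)
      exact isConj_iff.2 ⟨(u : G), congrArg Subtype.val hu⟩
  have hxD : x₀ ∉ D := (hfull x₀ hx₀).1
  have hsq : ∀ s : S, s * s ∈ D := by
    intro s
    by_contra h
    refine hnc ?_
    haveI : Finite (S ⧸ D) := inferInstance
    refine isCyclic_of_orderOf_eq_card (QuotientGroup.mk s : S ⧸ D) ?_
    have hc : Nat.card (S ⧸ D) = 4 := hidx4
    rw [hc]
    have hd : orderOf (QuotientGroup.mk s : S ⧸ D) ∣ 4 := hc ▸ orderOf_dvd_natCard _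
    obtain ⟨m, hm, hme⟩ := (Nat.dvd_prime_pow Nat.prime_two).1 (show _ ∣ 2 ^ 2 from hd)
    rcases m with _ | _ | _ | m
    · rw [pow_zero, orderOf_eq_one_iff, QuotientGroup.eq_one_iff] at hme
      exact absurd (D.mul_mem hme hme) h
    · have := pow_orderOf_eq_one (QuotientGroup.mk s : S ⧸ D)
      rw [hme, show (2 : ℕ) ^ (0 + 1) = 2 by rfl, ← QuotientGroup.mk_pow, QuotientGroup.eq_one_iff,
        pow_two] at this
      exact absurd this h
    · exact hme
    · omega
  -- an element outside `D ∪ x D` which is not conjugate to `x`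
  obtain ⟨w, hwD, hwx, hwn⟩ : ∃ w : S, w ∉ D ∧ x₀⁻¹ * w ∉ D ∧ ¬ IsConj x (w : G) := by
    by_contra hcon
    push Not at hcon
    -- every such `w` is an involution commuting with `x`
    have hcomm : ∀ w : S, w ∉ D → x₀⁻¹ * w ∉ D → w * x₀ = x₀ * w := by
      intro w hw1 hw2
      have hxi : x₀⁻¹ = x₀ := Subtype.ext (inv_eq_self hx)
      have e1 : orderOf w = 2 := by
        rw [← Subgroup.orderOf_coe, ← orderOf_eq_of_isConj (hcon w hw1 hw2), hx]
      have hmem : x₀ * w ∉ D := hxi ▸ hw2
      have hmem2 : x₀⁻¹ * (x₀ * w) ∉ D := by rwa [inv_mul_cancel_left]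
      have e2 : orderOf (x₀ * w) = 2 := by
        rw [← Subgroup.orderOf_coe, ← orderOf_eq_of_isConj (hcon _ hmem hmem2), hx]
      have h := inv_eq_self e2
      rw [mul_inv_rev, inv_eq_self e1, hxi] at h
      exact h
    have hsub : Nat.card {w : S // (w ∉ D ∧ x₀⁻¹ * w ∉ D) ∨ w = x₀ ∨ w = 1} ≤ 4 := by
      refine le_trans (Nat.card_le_card_of_injective
        (fun w => (⟨w.1, ?_⟩ : Subgroup.centralizer ({x₀} : Set S))) ?_) (hcoset x₀ hx₀).1
      · rcases w.2 with ⟨h1, h2⟩ | h | h
        · exact mem_centralizer_singleton.2 (hcomm _ h1 h2)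
        · rw [h]; exact mem_centralizer_singleton.2 rfl
        · rw [h]; exact one_mem _
      · intro a b hab
        exact Subtype.ext (congrArg (fun z : Subgroup.centralizer ({x₀} : Set S) => (z : S)) hab)
    haveI := Fintype.ofFinite S
    rw [Nat.card_eq_fintype_card, Fintype.card_subtype, Finset.filter_or, Finset.card_union_of_disjoint] at hsub
    swap
    · rw [Finset.disjoint_filter]
      rintro w - ⟨h1, h2⟩ (rfl | rfl)
      · exact h2 (by rw [inv_mul_cancel]; exact D.one_mem)
      · exact h1 D.one_mem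
    have hA : (Finset.univ.filter fun w : S => w ∈ D).card = Nat.card D := by
      rw [Nat.card_eq_fintype_card, Fintype.card_subtype]
    have hB : (Finset.univ.filter fun w : S => x₀⁻¹ * w ∈ D).card = Nat.card D := by
      rw [Nat.card_eq_fintype_card, Fintype.card_subtype]
      exact Finset.card_equiv (Equiv.mulLeft x₀⁻¹) (fun w => by simp)
    have hc := Finset.card_le_card (s := (Finset.univ : Finset S))
      (t := (Finset.univ.filter fun w : S => w ∉ D ∧ x₀⁻¹ * w ∉ D) ∪
        ((Finset.univ.filter fun w : S => w ∈ D) ∪ (Finset.univ.filter fun w : S => x₀⁻¹ * w ∈ D)))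
      (fun w _ => by simp only [Finset.mem_union, Finset.mem_filter, Finset.mem_univ, true_and]; tauto)
    have hc2 := hc.trans (Finset.card_union_le _ _)
    have hc3 := Finset.card_union_le (Finset.univ.filter fun w : S => w ∈ D) (Finset.univ.filter fun w : S => x₀⁻¹ * w ∈ D)
    rw [hA, hB] at hc3
    have hu : (Finset.univ : Finset S).card = Nat.card D * 4 := by
      rw [Finset.card_univ, Fintype.card_eq_nat_card, ← hDidx, hidx4]
    have h2 : 2 ≤ (Finset.univ.filter fun w : S => w = x₀ ∨ w = 1).card := by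
      have hne : x₀ ≠ 1 := fun e => hxD (e ▸ D.one_mem)
      rw [show (2 : ℕ) = ({x₀, 1} : Finset S).card by rw [Finset.card_pair hne]]
      exact Finset.card_le_card (fun w hw => by simpa using hw)
    rw [hidx4] at hDidx
    omega
  let M : Subgroup S :=
    { carrier := {s | s ∈ D ∨ w⁻¹ * s ∈ D}
      one_mem' := Or.inl D.one_mem
      mul_mem' := by
        intro a b ha hb
        show _ ∨ _
        rcases ha with ha | ha <;> rcases hb with hb | hb
        · exact Or.inl (D.mul_mem ha hb)
        · refine Or.inr ?_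
          rw [show w⁻¹ * (a * b) = (w⁻¹ * a * w) * (w⁻¹ * b) by group]
          refine D.mul_mem ?_ hb
          have := (inferInstance : D.Normal).conj_mem a ha w⁻¹
          rwa [inv_inv] at this
        · exact Or.inr (by rw [← mul_assoc]; exact D.mul_mem ha hb)
        · refine Or.inl ?_
          rw [show a * b = (w * (w⁻¹ * a) * w⁻¹) * ((w * w) * (w⁻¹ * b)) by group]
          exact D.mul_mem ((inferInstance : D.Normal).conj_mem _ ha w) (D.mul_mem (hsq w) hb)
      inv_mem' := by
        intro a ha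
        show _ ∨ _
        rcases ha with ha | ha
        · exact Or.inl (D.inv_mem ha)
        · refine Or.inr ?_
          rw [show w⁻¹ * a⁻¹ = (w * w)⁻¹ * (w * (w⁻¹ * a)⁻¹ * w⁻¹) by group]
          exact D.mul_mem (D.inv_mem (hsq w)) ((inferInstance : D.Normal).conj_mem _ (D.inv_mem ha) w) }
  have hxM : x₀ ∉ M := by
    rintro (h | h)
    · exact hxD h
    · exact hwx (by simpa using D.inv_mem h)
  have hxi : x₀⁻¹ = x₀ := Subtype.ext (inv_eq_self hx)
  have hM : M.index = 2 := by
    have hle : D ≤ M := fun d hd => Or.inl hd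
    have h := Subgroup.relIndex_mul_index hle
    rw [hidx4] at h
    have hMne : M.index ≠ 1 := fun e => hxM (Subgroup.index_eq_one.1 e ▸ Subgroup.mem_top _)
    have hrel : D.relIndex M ≠ 1 := fun e => hwD (Subgroup.relIndex_eq_one.1 e (Or.inr (by simp)))
    have hd : M.index ∣ 2 ^ 2 := ⟨D.relIndex M, by rw [mul_comm, h]; rfl⟩
    obtain ⟨m, hm, hme⟩ := (Nat.dvd_prime_pow Nat.prime_two).1 hd
    rcases m with _ | _ | _ | m
    · exact absurd hme hMne
    · exact hme
    · rw [hme] at h
      omega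
    · omega
  have hcon : ∀ (a : G) (h : a * x * a⁻¹ ∈ S), (⟨a * x * a⁻¹, h⟩ : S) ∉ M := by
    intro a h hm
    obtain ⟨h1, h2⟩ := hfull ⟨a * x * a⁻¹, h⟩ (isConj_iff.2 ⟨a, rfl⟩)
    rcases hm with hm | hm
    · exact h1 hm
    · refine hwn ?_
      have := h2 _ (D.inv_mem hm)
      rwa [mul_inv_rev, inv_inv, mul_inv_cancel_left] at this
  -- the transfer into `S / M`
  haveI : M.Normal := Subgroup.normal_of_index_eq_two hM
  haveI : IsCyclic (S ⧸ M) := isCyclic_of_prime_card (p := 2) hM
  let _ : CommGroup (S ⧸ M) := IsCyclic.commGroup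
  let φ : S →* S ⧸ M := QuotientGroup.mk' M
  have hne : φ x₀ ≠ 1 := fun h => hxM ((QuotientGroup.eq_one_iff _).1 h)
  have hkey : ∀ (m : ℕ) (a : G) (h : a * x ^ m * a⁻¹ ∈ S),
      φ ⟨a * x ^ m * a⁻¹, h⟩ = φ ⟨x, hxP⟩ ^ m := by
    intro m a h
    have hsq2 : φ x₀ ^ 2 = 1 := by
      rw [← map_pow, pow_two, show x₀ * x₀ = 1 from Subtype.ext (mul_self_eq_one hx), map_one]
    rcases Nat.even_or_odd' m with ⟨j, rfl | rfl⟩
    · have e : (⟨a * x ^ (2 * j) * a⁻¹, h⟩ : S) = 1 :=
        Subtype.ext (by simp [pow_mul, pow_two, mul_self_eq_one hx])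
      rw [e, map_one, pow_mul, hsq2, one_pow]
    · have h2 : a * x ^ (2 * j + 1) * a⁻¹ = a * x * a⁻¹ := by
        rw [pow_succ, pow_mul, pow_two, mul_self_eq_one hx, one_pow, one_mul]
      have e : (⟨a * x ^ (2 * j + 1) * a⁻¹, h⟩ : S) = ⟨a * x * a⁻¹, h2 ▸ h⟩ := Subtype.ext h2
      rw [e, pow_succ (φ ⟨x, hxP⟩), pow_mul (φ ⟨x, hxP⟩), hsq2, one_pow, one_mul]
      show ((⟨a * x * a⁻¹, h2 ▸ h⟩ : S) : S ⧸ M) = ((x₀ : S) : S ⧸ M)
      rw [QuotientGroup.eq, Subgroup.mul_mem_iff_of_index_two hM, Subgroup.inv_mem_iff]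
      exact iff_of_false (hcon a _) hxM
  have hne' := CfsgLib.TwoFusion.transfer_ne_one_of_controlled (p := 2) Nat.prime_two
    (Nat.prime_two.coprime_iff_not_dvd.2 P.not_dvd_index) φ x hxP
    ⟨1, by rw [pow_one]; exact hx⟩ hne hkey
  refine ⟨φ.transfer.ker, ?_, hne'⟩
  have hr : Nat.card φ.transfer.range ∣ 2 := by
    have := Subgroup.card_subgroup_dvd_card φ.transfer.range
    exact this.trans (dvd_of_eq hM)
  rw [Subgroup.index_ker]
  rcases (Nat.dvd_prime Nat.prime_two).1 hr with e | e
  · exfalso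
    rw [Subgroup.card_eq_one] at e
    exact hne' (Subgroup.mem_bot.1 (e ▸ ⟨x, rfl⟩ : φ.transfer x ∈ (⊥ : Subgroup (S ⧸ M))))
  · exact e

/-- The subgroup of index 2 not containing `x`. -/
theorem exists_index_two_not_mem {x : G} (hx : orderOf x = 2)
    (hC4 : Nat.card ↥(Subgroup.centralizer ({x} : Set G)) = 4) (h8 : 8 ∣ Nat.card G) :
    ∃ K : Subgroup G, K.index = 2 ∧ x ∉ K :=
  exists_index_two_not_mem' hx (by rw [hC4]; decide) h8

/-- With an index 2 subgroup avoiding `x`, the group is soluble. -/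
theorem isSolvable {x : G} (hx : orderOf x = 2)
    (hC4 : Nat.card ↥(Subgroup.centralizer ({x} : Set G)) = 4) (h8 : 8 ∣ Nat.card G) :
    Group.IsSolvable G := by
  classical
  obtain ⟨K, hK, hxK⟩ := exists_index_two_not_mem hx hC4 h8
  haveI := Subgroup.normal_of_index_eq_two hK
  haveI := Fintype.ofFinite G
  set C : Finset G := Finset.univ.filter fun y => IsConj x y with hC
  have hCcard : C.card * 4 = Nat.card G := by
    rw [← hC4, ← CfsgLib.Involutions.card_isConj_mul_card_centralizer x, Nat.card_eq_fintype_card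
      (α := {g : G // IsConj x g}), Fintype.card_subtype]
  have hCK : ∀ y ∈ C, y ∉ K := by
    intro y hy
    obtain ⟨c, rfl⟩ := isConj_iff.1 (Finset.mem_filter.1 hy).2
    intro h
    have := (inferInstance : K.Normal).conj_mem _ h c⁻¹
    exact hxK (by simpa [mul_assoc] using this)
  -- pairs of conjugates of `x` give commuting pairs in `K`
  have hpairs : C.card * C.card ≤ CommPairs.cp K := by
    haveI := Fintype.ofFinite K
    rw [CommPairs.cp_eq_sum, ← Finset.card_product]
    have hmem : ∀ z ∈ C ×ˢ C, z.1 * z.2 ∈ K := fun z hz => by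
      rw [Subgroup.mul_mem_iff_of_index_two hK]
      exact iff_of_false (hCK _ (Finset.mem_product.1 hz).1) (hCK _ (Finset.mem_product.1 hz).2)
    rw [Finset.card_eq_sum_card_fiberwise (f := fun z : G × G => if h : z.1 * z.2 ∈ K then (⟨_, h⟩ : K) else 1)
      (t := Finset.univ) (fun z _ => Finset.mem_univ _)]
    refine Finset.sum_le_sum fun g _ => ?_
    rcases (((C ×ˢ C).filter fun z =>
        (if h : z.1 * z.2 ∈ K then (⟨_, h⟩ : K) else 1) = g)).eq_empty_or_nonempty with he | ⟨z₀, hz₀⟩
    · rw [he]; simp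
    · have hval : ∀ z ∈ (C ×ˢ C).filter (fun z =>
          (if h : z.1 * z.2 ∈ K then (⟨_, h⟩ : K) else 1) = g), z.1 * z.2 = (g : G) := by
        intro z hz
        obtain ⟨hz1, hz2⟩ := Finset.mem_filter.1 hz
        rw [dif_pos (hmem z hz1)] at hz2
        exact congrArg Subtype.val hz2
      have hinvol : ∀ y ∈ C, y * y = 1 := fun y hy =>
        mul_self_eq_one ((orderOf_eq_of_isConj (Finset.mem_filter.1 hy).2).symm.trans hx)
      have hinverts : ∀ z ∈ (C ×ˢ C).filter (fun z =>
          (if h : z.1 * z.2 ∈ K then (⟨_, h⟩ : K) else 1) = g), z.1 * (g : G) * z.1 = (g : G)⁻¹ := by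
        intro z hz
        have hz1 := Finset.mem_product.1 (Finset.mem_filter.1 hz).1
        rw [← hval z hz, mul_inv_rev, ← mul_assoc, hinvol _ hz1.1, one_mul,
          inv_eq_of_mul_eq_one_right (hinvol _ hz1.1), inv_eq_of_mul_eq_one_right (hinvol _ hz1.2)]
      rw [Nat.card_eq_fintype_card, ← Finset.card_univ]
      have hk : ∀ z ∈ (C ×ˢ C).filter (fun z =>
          (if h : z.1 * z.2 ∈ K then (⟨_, h⟩ : K) else 1) = g), z₀.1 * z.1 ∈ K := by
        intro z hz
        rw [Subgroup.mul_mem_iff_of_index_two hK]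
        exact iff_of_false (hCK _ (Finset.mem_product.1 (Finset.mem_filter.1 hz₀).1).1)
          (hCK _ (Finset.mem_product.1 (Finset.mem_filter.1 hz).1).1)
      have hcz : ∀ z ∈ (C ×ˢ C).filter (fun z =>
          (if h : z.1 * z.2 ∈ K then (⟨_, h⟩ : K) else 1) = g),
          z₀.1 * z.1 * (g : G) = (g : G) * (z₀.1 * z.1) := by
        intro z hz
        have h1 := hinverts z hz
        have hy : z.1 * z.1 = 1 := hinvol _ (Finset.mem_product.1 (Finset.mem_filter.1 hz).1).1
        have hy0 : z₀.1 * z₀.1 = 1 := hinvol _ (Finset.mem_product.1 (Finset.mem_filter.1 hz₀).1).1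
        have h0 := hinverts z₀ hz₀
        have h2 : z.1 * (g : G) = (g : G)⁻¹ * z.1 := by
          rw [← h1, mul_assoc, hy, mul_one]
        have h3 : z₀.1 * (g : G)⁻¹ = (g : G) * z₀.1 := by
          rw [← h0, ← mul_assoc, ← mul_assoc, hy0, one_mul]
        calc z₀.1 * z.1 * (g : G) = z₀.1 * (z.1 * (g : G)) := by group
          _ = z₀.1 * (g : G)⁻¹ * z.1 := by rw [h2]; group
          _ = (g : G) * (z₀.1 * z.1) := by rw [h3]; group
      refine Finset.card_le_card_of_injOn (fun z =>
        if h : z₀.1 * z.1 ∈ K ∧ z₀.1 * z.1 * (g : G) = (g : G) * (z₀.1 * z.1) then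
          (⟨⟨z₀.1 * z.1, h.1⟩, mem_centralizer_singleton.2 (Subtype.ext h.2)⟩ :
            Subgroup.centralizer ({g} : Set K)) else 1) (fun z _ => Finset.mem_univ _) ?_
      intro a ha b hb hab
      rw [Finset.mem_coe] at ha hb
      simp only [hk a ha, hk b hb, hcz a ha, hcz b hb, and_self, dif_pos] at hab
      have e : a.1 = b.1 := mul_left_cancel
        (congrArg (fun z : Subgroup.centralizer ({g} : Set K) => ((z : K) : G)) hab)
      refine Prod.ext e (mul_left_cancel (a := a.1) ?_)
      rw [hval a ha, e, hval b hb]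
  have hsol : Group.IsSolvable K := by
    refine CommPairs.isSolvable_of_quarter ?_
    have hK2 := K.card_mul_index
    rw [hK] at hK2
    nlinarith
  haveI := hsol
  haveI : IsCyclic (G ⧸ K) := isCyclic_of_prime_card (p := 2) hK
  haveI : Group.IsSolvable (G ⧸ K) := by
    letI : CommGroup (G ⧸ K) := IsCyclic.commGroup
    infer_instance
  exact Group.isSolvable_of_ker_le_range K.subtype (QuotientGroup.mk' K) (by simp)

/-- A four-group centralizer of an involution in a group of order divisible by 8 forces a small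
normal elementary abelian 2-subgroup. -/
theorem exists_normal_of_eight_dvd {x : G} (hx : orderOf x = 2)
    (hC4 : Nat.card ↥(Subgroup.centralizer ({x} : Set G)) = 4) (h8 : 8 ∣ Nat.card G) :
    ∃ E : Subgroup G, E.Normal ∧ IsElementaryAbelian 2 E ∧ (Nat.card E = 2 ∨ Nat.card E = 4) := by
  classical
  haveI := Fact.mk Nat.prime_two
  haveI := isSolvable hx hC4 h8
  by_contra hno
  have hO : ∀ P : Subgroup G, P.Normal → IsPGroup 2 P → P = ⊥ := fun P hP hp => by
    by_contra h
    haveI := hP
    exact hno (exists_small_normal hx hC4 hp h)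
  set V := Subgroup.centralizer ({x} : Set G) with hV
  set W := pPrimeCore 2 G with hW
  have hWodd : (Nat.card W).Coprime 2 := CfsgLib.Cores.card_pPrimeCore_coprime 2
  have hxx := mul_self_eq_one hx
  have hinv : ∀ y : G, IsConj x y → ∀ u ∈ W, y * u * y⁻¹ = u⁻¹ := by
    intro y hy u hu
    obtain ⟨c, hc⟩ := isConj_iff.1 hy
    have hy2 : y * y = 1 := by
      rw [← hc, show c * x * c⁻¹ * (c * x * c⁻¹) = c * (x * x) * c⁻¹ by group, hxx]; group
    refine DihedralEight.inverts_of_fixedPointFree hy2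
      (fun b hb => (inferInstance : W.Normal).conj_mem b hb y) (fun b hb hby => ?_) hu
    have hm : c⁻¹ * b * c ∈ V := by
      rw [hV, mem_centralizer_singleton]
      have e : x = c⁻¹ * y * c := by rw [← hc]; group
      rw [e, show c⁻¹ * b * c * (c⁻¹ * y * c) = c⁻¹ * (b * y) * c by group, hby]
      group
    have hmW : c⁻¹ * b * c ∈ W := by
      have := (inferInstance : W.Normal).conj_mem b hb c⁻¹
      rwa [inv_inv] at this
    have h1 := Subgroup.orderOf_dvd_natCard V hm
    rw [hC4] at h1
    have h2 := Subgroup.orderOf_dvd_natCard W hmW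
    have hone := orderOf_eq_one_iff.1 (Nat.eq_one_of_dvd_coprimes
      (Nat.Coprime.pow_right 2 hWodd) h2 (by simpa using h1))
    have := congrArg (fun z => c * z * c⁻¹) hone
    simpa [mul_assoc] using this
  set π := QuotientGroup.mk' W with hπ
  have hπW : ∀ {u : G}, π u = 1 ↔ u ∈ W := fun {u} => QuotientGroup.eq_one_iff u
  -- the centralizer of `π x` is the image of `C(x)`
  have hcent : ∀ q : G ⧸ W, q * π x = π x * q → ∃ v ∈ V, π v = q := by
    intro q hq
    obtain ⟨g, rfl⟩ := QuotientGroup.mk'_surjective W q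
    have hw : x * (g * x * g⁻¹) ∈ W := by
      rw [← hπW, map_mul, map_mul, map_mul, map_inv, hq, mul_inv_cancel_right, ← map_mul, hxx, map_one]
    obtain ⟨j, hj⟩ : Odd (orderOf (x * (g * x * g⁻¹))) :=
      (Nat.coprime_two_right.1 hWodd).of_dvd_nat (Subgroup.orderOf_dvd_natCard W hw)
    set w := x * (g * x * g⁻¹) with hwdef
    set u := w ^ (j + 1) with hu
    have huW : u ∈ W := W.pow_mem hw _
    have huu : u * u = w := by
      rw [hu, ← pow_add, show j + 1 + (j + 1) = (2 * j + 1) + 1 by ring, pow_succ, ← hj,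
        pow_orderOf_eq_one, one_mul]
    have hxu := hinv x (IsConj.refl x) u huW
    refine ⟨u * g, mem_centralizer_singleton.2 ?_, by rw [map_mul, hπW.2 huW, one_mul]⟩
    have hxu' : x * u = u⁻¹ * x := mul_inv_eq_iff_eq_mul.1 hxu
    calc u * g * x = u * (x * x) * (g * x * g⁻¹) * g := by rw [hxx]; group
      _ = u * x * (x * (g * x * g⁻¹)) * g := by group
      _ = u * x * (u * u) * g := by rw [huu, hwdef]
      _ = u * (x * u) * u * g := by group
      _ = u * (u⁻¹ * x) * u * g := by rw [hxu']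
      _ = x * u * g := by group
      _ = x * (u * g) := mul_assoc _ _ _
  -- normal 2-subgroups modulo `W`
  set R := pCore 2 (G ⧸ W) with hR
  have hkey : ∀ r ∈ R.comap π, ∀ c : G, c ∈ R.comap π → (∀ u ∈ W, c * u = u * c) → c ∈ W := by
    intro r _ c hc hcu
    let L : Subgroup G := R.comap π ⊓ Subgroup.centralizer (W : Set G)
    have hcL : c ∈ L := ⟨hc, Subgroup.mem_centralizer_iff.2 fun u hu => (hcu u hu).symm⟩
    haveI : L.Normal := inferInstance
    obtain ⟨P⟩ := (inferInstance : Nonempty (Sylow 2 L))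
    have hWL : W ≤ L := by
      refine le_inf (fun u hu => ?_) (fun u hu => Subgroup.mem_centralizer_iff.2 fun u' hu' => ?_)
      · rw [Subgroup.mem_comap, hπW.2 hu]; exact R.one_mem
      · have h1 := hinv x (IsConj.refl x) _ (W.mul_mem hu' hu)
        rw [show x * (u' * u) * x⁻¹ = (x * u' * x⁻¹) * (x * u * x⁻¹) by group,
          hinv x (IsConj.refl x) _ hu', hinv x (IsConj.refl x) _ hu, ← mul_inv_rev] at h1
        exact (inv_inj.1 h1).symm
    -- `L = W P`
    have hLW : IsPGroup 2 (L.map π) := (CfsgLib.Cores.isPGroup_pCore 2 (G ⧸ W)).to_le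
      (Subgroup.map_le_iff_le_comap.2 inf_le_left)
    have hsplit : ∀ l : L, ∃ u : L, ((u : G) ∈ W) ∧ u * l ∈ (P : Subgroup L) := by
      have hidx : (W.subgroupOf L).index = Nat.card (L.map π) := by
        have e : W.subgroupOf L = (π.comp L.subtype).ker := by
          ext u
          simp [Subgroup.mem_subgroupOf, hπ]
        rw [e, Subgroup.index_ker, MonoidHom.range_comp, Subgroup.range_subtype]
      haveI : (W.subgroupOf L).Normal := inferInstance
      have htop : W.subgroupOf L ⊔ (P : Subgroup L) = ⊤ := by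
        obtain ⟨n, hn⟩ := hLW.exists_card_eq
        rw [← Subgroup.index_eq_one]
        refine Nat.eq_one_of_dvd_coprimes
          ((Nat.coprime_pow_left_iff (show 0 < n + 1 by omega) 2 _).2
            ((Nat.prime_two.coprime_iff_not_dvd).2 P.not_dvd_index))
          ((Subgroup.index_dvd_of_le le_sup_left).trans ?_) (Subgroup.index_dvd_of_le le_sup_right)
        rw [hidx, hn]
        exact pow_dvd_pow 2 (by omega)
      intro l
      have hl : l ∈ W.subgroupOf L ⊔ (P : Subgroup L) := htop ▸ Subgroup.mem_top l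
      obtain ⟨u, hu, p, hp, rfl⟩ := Subgroup.mem_sup_of_normal_left.1 hl
      exact ⟨u⁻¹, W.inv_mem hu, by rw [inv_mul_cancel_left]; exact hp⟩
    have hPn : (P : Subgroup L).Normal := ⟨fun p hp l => by
      obtain ⟨u, hu, hul⟩ := hsplit l
      have hpu : p * u = u * p := Subtype.ext
        (Subgroup.mem_centralizer_iff.1 p.2.2 (u : G) hu).symm
      have : l * p * l⁻¹ = (u * l) * p * (u * l)⁻¹ := by
        have hup : ∀ q : L, q * u = u * q := fun q => Subtype.ext
          (Subgroup.mem_centralizer_iff.1 q.2.2 (u : G) hu).symm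
        rw [show u * l * p * (u * l)⁻¹ = u * (l * p * l⁻¹) * u⁻¹ by group, ← hup, mul_inv_cancel_right]
      rw [this]
      exact (P : Subgroup L).mul_mem ((P : Subgroup L).mul_mem hul hp) ((P : Subgroup L).inv_mem hul)⟩
    haveI := P.characteristic_of_normal hPn
    have hP1 : (P : Subgroup L).map L.subtype = ⊥ :=
      hO _ (CfsgLib.Cores.normal_map_subtype L _) (P.isPGroup'.map _)
    obtain ⟨u, hu, huc⟩ := hsplit ⟨c, hcL⟩
    have h1 : (u : G) * c = 1 := by
      have := Subgroup.mem_map_of_mem L.subtype huc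
      rw [hP1, Subgroup.mem_bot] at this
      exact this
    rw [eq_inv_of_mul_eq_one_right h1]
    exact W.inv_mem hu
  have hprod : ∀ y : G, IsConj x y → ∀ r ∈ R.comap π, r * y * r⁻¹ * y ∈ W := by
    intro y hy r hr
    have hy2 : y⁻¹ = y := inv_eq_self ((orderOf_eq_of_isConj hy).symm.trans hx)
    refine hkey r hr _ ?_ fun u hu => ?_
    · rw [Subgroup.mem_comap, show r * y * r⁻¹ * y = r * (y * r⁻¹ * y⁻¹) by rw [hy2]; group, map_mul]
      refine R.mul_mem hr ?_
      rw [map_mul, map_mul, map_inv, map_inv]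
      exact (inferInstance : R.Normal).conj_mem _ (R.inv_mem hr) _
    · have h1 := hinv y hy u hu
      have h2 := hinv (r * y * r⁻¹) (hy.trans (isConj_iff.2 ⟨r, rfl⟩)) u⁻¹ (W.inv_mem hu)
      rw [inv_inv] at h2
      calc r * y * r⁻¹ * y * u = r * y * r⁻¹ * (y * u * y⁻¹) * (r * y * r⁻¹)⁻¹ * (r * y * r⁻¹ * y) := by group
        _ = r * y * r⁻¹ * u⁻¹ * (r * y * r⁻¹)⁻¹ * (r * y * r⁻¹ * y) := by rw [h1]
        _ = u * (r * y * r⁻¹ * y) := by rw [h2]
  have hRx : ∀ q ∈ R, q * π x = π x * q := by
    intro q hq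
    obtain ⟨r, rfl⟩ := QuotientGroup.mk'_surjective W q
    have h := hπW.2 (hprod x (IsConj.refl x) r hq)
    rw [map_mul, map_mul, map_mul, map_inv] at h
    have hxi : (π x)⁻¹ = π x := by rw [← map_inv, inv_eq_self hx]
    have h' := eq_inv_of_mul_eq_one_left h
    rw [hxi] at h'
    exact mul_inv_eq_iff_eq_mul.1 h'
  have hxR : π x ∈ R := by
    refine centralizer_pCore_le_of_solvable (G := G ⧸ W) ?_ ?_
    · exact CfsgLib.Cores.pPrimeCore_quotient_pPrimeCore (G := G) 2
    · exact Subgroup.mem_centralizer_iff.2 fun q hq => hRx q hq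
  -- `π x` is central
  have hcentral : ∀ q : G ⧸ W, q * π x = π x * q := by
    intro q
    obtain ⟨g, rfl⟩ := QuotientGroup.mk'_surjective W q
    have hm : g * x * g⁻¹ * x ∈ R.comap π := by
      rw [Subgroup.mem_comap, map_mul, map_mul, map_mul, map_inv]
      exact R.mul_mem ((inferInstance : R.Normal).conj_mem _ hxR _) hxR
    have hw := hkey _ hm _ hm fun u hu => by
      have h1 := hinv x (IsConj.refl x) u hu
      have h2 := hinv (g * x * g⁻¹) (isConj_iff.2 ⟨g, rfl⟩) u⁻¹ (W.inv_mem hu)
      rw [inv_inv] at h2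
      calc g * x * g⁻¹ * x * u = g * x * g⁻¹ * (x * u * x⁻¹) * (g * x * g⁻¹)⁻¹ * (g * x * g⁻¹ * x) := by group
        _ = g * x * g⁻¹ * u⁻¹ * (g * x * g⁻¹)⁻¹ * (g * x * g⁻¹ * x) := by rw [h1]
        _ = u * (g * x * g⁻¹ * x) := by rw [h2]
    have h := hπW.2 hw
    rw [map_mul, map_mul, map_mul, map_inv] at h
    have h' := eq_inv_of_mul_eq_one_left h
    rw [show (π x)⁻¹ = π x by rw [← map_inv, inv_eq_self hx]] at h'
    exact mul_inv_eq_iff_eq_mul.1 h'
  have hle : Nat.card (G ⧸ W) ≤ 4 := by
    rw [← hC4]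
    refine Nat.card_le_card_of_surjective (fun v : V => π v) fun q => ?_
    obtain ⟨v, hv, e⟩ := hcent q (hcentral q)
    exact ⟨⟨v, hv⟩, e⟩
  have hG := W.card_mul_index
  have hdvd : 8 ∣ W.index := by
    refine (Nat.Coprime.pow_left 3 hWodd.symm).dvd_of_dvd_mul_left ?_
    rw [hG]; simpa using h8
  have := Nat.le_of_dvd (Nat.pos_of_ne_zero Subgroup.index_ne_zero_of_finite) hdvd
  change W.index ≤ 4 at hle
  omega

end CfsgLib.SectRank.KleinCentralizer
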