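import Mathlib.GroupTheory.SpecificGroups.Alternating
import Mathlib.GroupTheory.OrderOfElement

/-!
# Counting in the alternating group of degree 5
-/

set_option autoImplicit false
set_option maxRecDepth 4000

namespace CfsgLib.SectRank.AltFive

open Equiv

theorem sq_or_pow_fifteen (x : alternatingGroup (Fin 5)) : x * x = 1 ∨ x ^ 15 = 1 := by
  revert x
  decide +kernel

theorem card_involutions :
    (Finset.univ.filter fun a : alternatingGroup (Fin 5) => a * a = 1 ∧ a ≠ 1).card = 15 := by
  decide +kernel

theorem card_commute : ∀ a ∈ (Finset.univ.filter fun a : alternatingGroup (Fin 5) => a * a = 1 ∧ a ≠ 1),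
    (Finset.univ.filter fun b : alternatingGroup (Fin 5) => b * a = a * b).card = 4 := by
  decide +kernel

theorem sq_of_commute : ∀ a ∈ (Finset.univ.filter fun a : alternatingGroup (Fin 5) => a * a = 1 ∧ a ≠ 1),
    ∀ b ∈ (Finset.univ.filter fun b : alternatingGroup (Fin 5) => b * a = a * b), b * b = 1 := by
  decide +kernel

theorem card_odd_product : ∀ a ∈ (Finset.univ.filter fun a : alternatingGroup (Fin 5) => a * a = 1 ∧ a ≠ 1),
    (Finset.univ.filter fun b : alternatingGroup (Fin 5) =>
      b * b = 1 ∧ (b * a ≠ a * b ∨ b = a)).card = 13 := by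
  decide +kernel

theorem exists_orderOf_five : ∃ f : alternatingGroup (Fin 5), f ^ 5 = 1 ∧ f ≠ 1 := by
  decide +kernel

end CfsgLib.SectRank.AltFive
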