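import Cfsg.Agent.S0493
import Cfsg.Agent.Lib.CharTheory.Burnside
import Cfsg.Agent.Lib.Involutions.Counting
import Mathlib.GroupTheory.QuotientGroup.Finite

/-!
# A group in which at least a quarter of the pairs commute is soluble
-/

set_option autoImplicit false
set_option linter.unusedSectionVars false
set_option linter.style.haveILetI false

namespace CfsgLib.SectRank.CommPairs

universe u

/-- The number of commuting pairs. -/
noncomputable def cp (G : Type u) [Group G] : ℕ := Nat.card {z : G × G // z.1 * z.2 = z.2 * z.1}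

variable {G : Type u} [Group G] [Finite G]

open scoped Classical in
theorem cp_eq_sum [Fintype G] :
    cp G = ∑ g : G, Nat.card (Subgroup.centralizer ({g} : Set G)) := by
  rw [← Nat.card_sigma]
  exact Nat.card_congr
    ⟨fun z => ⟨z.1.1, z.1.2, Subgroup.mem_centralizer_singleton_iff.2 z.2.symm⟩,
      fun z => ⟨(z.1, z.2.1), (Subgroup.mem_centralizer_singleton_iff.1 z.2.2).symm⟩,
      fun z => rfl, fun z => rfl⟩

theorem card_centralizer_le (H : Subgroup G) (g : G) :
    Nat.card (Subgroup.centralizer ({g} : Set G)) ≤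
      H.index * Nat.card (H ⊓ Subgroup.centralizer ({g} : Set G) : Subgroup G) := by
  have h1 := Subgroup.relIndex_mul_relIndex ⊥ (H ⊓ Subgroup.centralizer ({g} : Set G))
    (Subgroup.centralizer ({g} : Set G)) bot_le inf_le_right
  rw [Subgroup.relIndex_bot_left, Subgroup.relIndex_bot_left] at h1
  rw [← h1, mul_comm]
  refine Nat.mul_le_mul_right _ ?_
  rw [Subgroup.inf_relIndex_right]
  exact Subgroup.relIndex_le_of_le_right le_top (by
    rw [Subgroup.relIndex_top_right]; exact Subgroup.index_ne_zero_of_finite) |>.trans_eq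
    H.relIndex_top_right

open scoped Classical in
theorem cp_le_subgroup (H : Subgroup G) : cp G ≤ H.index ^ 2 * cp H := by
  haveI := Fintype.ofFinite G
  have h1 : cp G ≤ H.index *
      ∑ g : G, Nat.card (H ⊓ Subgroup.centralizer ({g} : Set G) : Subgroup G) := by
    rw [cp_eq_sum, Finset.mul_sum]
    exact Finset.sum_le_sum fun g _ => card_centralizer_le H g
  have h2 : ∑ g : G, Nat.card (H ⊓ Subgroup.centralizer ({g} : Set G) : Subgroup G) =
      ∑ h : H, Nat.card (Subgroup.centralizer ({(h : G)} : Set G)) := by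
    rw [← Nat.card_sigma, ← Nat.card_sigma]
    refine Nat.card_congr
      ⟨fun z => ⟨⟨z.2.1, z.2.2.1⟩, z.1, ?_⟩, fun z => ⟨z.2.1, z.1.1, z.1.2, ?_⟩, fun z => rfl, fun z => rfl⟩
    · exact Subgroup.mem_centralizer_singleton_iff.2
        (Subgroup.mem_centralizer_singleton_iff.1 z.2.2.2).symm
    · exact Subgroup.mem_centralizer_singleton_iff.2
        (Subgroup.mem_centralizer_singleton_iff.1 z.2.2).symm
  have h3 : ∑ h : H, Nat.card (Subgroup.centralizer ({(h : G)} : Set G)) ≤ H.index * cp H := by
    rw [cp_eq_sum (G := H), Finset.mul_sum]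
    refine Finset.sum_le_sum fun h _ => (card_centralizer_le H h).trans (Nat.mul_le_mul_left _ ?_)
    refine (Nat.card_le_card_of_injective
      (fun x : (H ⊓ Subgroup.centralizer ({(h : G)} : Set G) : Subgroup G) =>
        (⟨⟨x.1, x.2.1⟩, Subgroup.mem_centralizer_singleton_iff.2 (Subtype.ext
          (Subgroup.mem_centralizer_singleton_iff.1 x.2.2))⟩ :
            Subgroup.centralizer ({h} : Set H))) ?_)
    intro a b hab
    exact Subtype.ext (congrArg (fun z : Subgroup.centralizer ({h} : Set H) => ((z : H) : G)) hab)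
  calc cp G ≤ H.index * (H.index * cp H) := h1.trans (Nat.mul_le_mul_left _ (h2 ▸ h3))
    _ = H.index ^ 2 * cp H := by ring

theorem cp_le_quotient (N : Subgroup G) [N.Normal] : cp G ≤ Nat.card N ^ 2 * cp (G ⧸ N) := by
  rw [pow_two, ← Nat.card_prod, cp, cp, ← Nat.card_prod]
  refine Nat.card_le_card_of_injective (fun z =>
    ((⟨(QuotientGroup.mk z.1.1 : G ⧸ N).out⁻¹ * z.1.1, QuotientGroup.eq.1 (QuotientGroup.out_eq' _)⟩,
      ⟨(QuotientGroup.mk z.1.2 : G ⧸ N).out⁻¹ * z.1.2, QuotientGroup.eq.1 (QuotientGroup.out_eq' _)⟩),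
      ⟨(QuotientGroup.mk z.1.1, QuotientGroup.mk z.1.2),
        (congrArg (QuotientGroup.mk' N) z.2 :)⟩)) ?_
  intro a b h
  obtain ⟨h12, h34⟩ := Prod.ext_iff.1 h
  obtain ⟨e3, e4⟩ := Prod.ext_iff.1 (congrArg Subtype.val h34)
  obtain ⟨e1, e2⟩ := Prod.ext_iff.1 h12
  have e1' := congrArg Subtype.val e1
  have e2' := congrArg Subtype.val e2
  simp only at e1' e2' e3 e4
  rw [e3] at e1'
  rw [e4] at e2'
  exact Subtype.ext (Prod.ext (mul_left_cancel e1') (mul_left_cancel e2'))

/-- If at least a quarter of all pairs commute, the group is soluble. -/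
theorem isSolvable_of_quarter {G : Type u} [Group G] [Finite G]
    (h : Nat.card G ^ 2 ≤ 4 * cp G) : Group.IsSolvable G := by
  induction hn : Nat.card G using Nat.strong_induction_on generalizing G with
  | _ n ih =>
  subst hn
  classical
  by_cases hN : ∃ N : Subgroup G, N.Normal ∧ N ≠ ⊥ ∧ N ≠ ⊤
  · obtain ⟨N, hNn, hNb, hNt⟩ := hN
    haveI := hNn
    have hidx := N.card_mul_index
    have hipos : 0 < N.index := Nat.pos_of_ne_zero Subgroup.index_ne_zero_of_finite
    have hN1 : 1 < Nat.card N := (Subgroup.one_lt_card_iff_ne_bot N).2 hNb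
    have hi1 : 1 < N.index := Subgroup.one_lt_index_of_ne_top hNt
    haveI : Group.IsSolvable N := by
      refine ih _ (by nlinarith) ?_ rfl
      refine (Nat.mul_le_mul_left_iff (pow_pos hipos 2)).1 ?_
      calc N.index ^ 2 * Nat.card N ^ 2 = Nat.card G ^ 2 := by rw [← hidx]; ring
        _ ≤ 4 * cp G := h
        _ ≤ 4 * (N.index ^ 2 * cp N) := Nat.mul_le_mul_left 4 (cp_le_subgroup N)
        _ = _ := by ring
    haveI : Group.IsSolvable (G ⧸ N) := by
      have hq : Nat.card (G ⧸ N) = N.index := rfl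
      refine ih _ (by rw [hq]; nlinarith) ?_ rfl
      rw [hq]
      refine (Nat.mul_le_mul_left_iff (pow_pos (Nat.card_pos (α := N)) 2)).1 ?_
      calc Nat.card N ^ 2 * N.index ^ 2 = Nat.card G ^ 2 := by rw [← hidx]; ring
        _ ≤ 4 * cp G := h
        _ ≤ 4 * (Nat.card N ^ 2 * cp (G ⧸ N)) := Nat.mul_le_mul_left 4 (cp_le_quotient N)
        _ = _ := by ring
    exact Group.isSolvable_of_ker_le_range N.subtype (QuotientGroup.mk' N) (by simp)
  push Not at hN
  rcases subsingleton_or_nontrivial G with _ | _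
  · infer_instance
  haveI : IsSimpleGroup G := ⟨fun N hNn => by
    by_cases hb : N = ⊥
    · exact Or.inl hb
    · exact Or.inr (hN N hNn hb)⟩
  by_cases hcyc : IsCyclic G
  · letI : CommGroup G := IsCyclic.commGroup
    infer_instance
  by_cases hsmall : ∃ g : G, g ≠ 1 ∧ (Subgroup.centralizer ({g} : Set G)).index ≤ 4
  · obtain ⟨g, hg, hidx⟩ := hsmall
    set C := Subgroup.centralizer ({g} : Set G) with hC
    rcases (Subgroup.normalCore_normal C).eq_bot_or_eq_top with hb | ht
    · have hinj : Function.Injective (MulAction.toPermHom G (G ⧸ C)) := by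
        rw [← MonoidHom.ker_eq_bot_iff, ← Subgroup.normalCore_eq_ker, hb]
      have hd := Subgroup.card_dvd_of_injective _ hinj
      rw [Nat.card_perm] at hd
      have h24 : (C.index).factorial ∣ 2 ^ 3 * 3 ^ 1 := by
        have := Nat.factorial_dvd_factorial hidx
        rw [show (Nat.factorial 4) = 2 ^ 3 * 3 ^ 1 by rfl] at this
        exact this
      exact CfsgLib.CharTheory.isSolvable_of_card_dvd_pow_mul_pow 2 3 3 1 Nat.prime_two
        Nat.prime_three (hd.trans h24)
    · have hCt : C = ⊤ := top_le_iff.1 (ht ▸ Subgroup.normalCore_le C)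
      have hgc : g ∈ Subgroup.center G := Subgroup.mem_center_iff.2 fun x =>
        Subgroup.mem_centralizer_singleton_iff.1 (hCt ▸ Subgroup.mem_top x : x ∈ C)
      rcases (inferInstance : (Subgroup.center G).Normal).eq_bot_or_eq_top with hb | ht'
      · exact absurd (Subgroup.mem_bot.1 (hb ▸ hgc)) hg
      · exact Group.isSolvable_of_comm fun a b =>
          (Subgroup.mem_center_iff.1 (ht' ▸ Subgroup.mem_top b : b ∈ Subgroup.center G) a)
  push Not at hsmall
  exfalso
  haveI := Fintype.ofFinite G
  have hle : ∀ g : G, 5 * Nat.card (Subgroup.centralizer ({g} : Set G)) ≤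
      Nat.card G + (if g = 1 then 4 * Nat.card G else 0) := by
    intro g
    split_ifs with e
    · subst e
      have := Subgroup.card_le_card_group (Subgroup.centralizer ({(1 : G)} : Set G))
      omega
    · have h5 := hsmall g e
      have := (Subgroup.centralizer ({g} : Set G)).card_mul_index
      nlinarith
  have hsum : 5 * cp G ≤ Nat.card G * Nat.card G + 4 * Nat.card G := by
    rw [cp_eq_sum, Finset.mul_sum]
    refine (Finset.sum_le_sum fun g _ => hle g).trans_eq ?_
    rw [Finset.sum_add_distrib, Finset.sum_ite_eq', if_pos (Finset.mem_univ _), Finset.sum_const,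
      smul_eq_mul, Finset.card_univ, Fintype.card_eq_nat_card]
  have hpos : 0 < Nat.card G := Nat.card_pos
  have h16 : Nat.card G ≤ 16 := by nlinarith
  have h60 := Cfsg.Agent.S0493.result hcyc (by omega)
  omega

end CfsgLib.SectRank.CommPairs
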