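import Cfsg.Agent.Lib.Fischer2.ExtraspecialConjugate
import Cfsg.Agent.Lib.PGroups.Extraspecial
import Cfsg.Agent.Lib.Transfer.Residual
import Cfsg.Agent.Lib.Cores.PCore
import Mathlib.GroupTheory.Transfer

/-!
# Transfer arguments for large extraspecial 2-subgroups
-/

set_option autoImplicit false
set_option linter.unusedSectionVars false
set_option linter.style.haveILetI false

open Cfsg

namespace CfsgLib.SectRank.LargeExtra

variable {G : Type*} [Group G] [Finite G]

/-- A large extraspecial subgroup `E` of `C(z)`. -/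
structure Data (z : G) (E : Subgroup G) : Prop where
  hz : orderOf z = 2
  ext : IsExtraspecial 2 E
  le : E ≤ Subgroup.centralizer ({z} : Set G)
  normal : ∀ h ∈ Subgroup.centralizer ({z} : Set G), ∀ e ∈ E, h * e * h⁻¹ ∈ E
  cent : Subgroup.centralizer (E : Set G) ≤ E
  mem : z ∈ E

theorem Data.of_pCore {z : G} (hz : orderOf z = 2) {E : Subgroup G}
    (hE : E = (Cfsg.pCore 2 ↥(Subgroup.centralizer ({z} : Set G))).map
      (Subgroup.centralizer ({z} : Set G)).subtype)
    (hext : IsExtraspecial 2 ↥E) (hcent : Subgroup.centralizer (E : Set G) ≤ E) : Data z E := by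
  refine ⟨hz, hext, hE ▸ Subgroup.map_subtype_le _, ?_, hcent, hcent ?_⟩
  · intro h hh e he
    subst hE
    obtain ⟨q, hq, rfl⟩ := he
    exact ⟨⟨h, hh⟩ * q * (⟨h, hh⟩ : Subgroup.centralizer ({z} : Set G))⁻¹,
      (inferInstance : (Cfsg.pCore 2 ↥(Subgroup.centralizer ({z} : Set G))).Normal).conj_mem q hq _, rfl⟩
  · rw [Subgroup.mem_centralizer_iff]
    intro e he
    have h : e ∈ Subgroup.centralizer ({z} : Set G) := (hE ▸ Subgroup.map_subtype_le _ : E ≤ _) he
    exact Subgroup.mem_centralizer_singleton_iff.1 h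

namespace Data

variable {z : G} {E : Subgroup G} (D : Data z E)
include D

theorem zz : z * z = 1 := by
  have := pow_orderOf_eq_one z
  rwa [D.hz, pow_two] at this

theorem z_ne : z ≠ 1 := fun e => by
  have := D.hz
  rw [e, orderOf_one] at this
  omega

theorem comm {e : G} (he : e ∈ E) : e * z = z * e :=
  Subgroup.mem_centralizer_singleton_iff.1 (D.le he)

theorem zImage : z ∈ (Subgroup.center E).map E.subtype :=
  (Fischer2.mem_centerImage_iff E z).2 ⟨D.mem, fun _ hy => (D.comm hy).symm⟩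

theorem centerImage_eq_or {w : G} (h : w ∈ (Subgroup.center E).map E.subtype) : w = 1 ∨ w = z :=
  Fischer2.eq_one_or_eq_of_card_two (Fischer2.IsExtraspecial.card_centerImage D.ext) D.zImage D.z_ne h

theorem central_eq_or {w : G} (hw : w ∈ E) (h : ∀ y ∈ E, w * y = y * w) : w = 1 ∨ w = z :=
  D.centerImage_eq_or ((Fischer2.mem_centerImage_iff E w).2 ⟨hw, h⟩)

theorem sq {x : G} (hx : x ∈ E) : x * x = 1 ∨ x * x = z := by
  have := Fischer2.IsExtraspecial.sq_mem D.ext hx
  rw [pow_two] at this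
  exact D.centerImage_eq_or this

theorem swap {x y : G} (hx : x ∈ E) (hy : y ∈ E) (h : y * x ≠ x * y) : y * x = z * (x * y) := by
  rcases Fischer2.IsExtraspecial.conj_eq_or D.ext D.zImage D.z_ne hx hy with e | e
  · exact absurd (mul_inv_eq_iff_eq_mul.1 e) h
  · rw [mul_inv_eq_iff_eq_mul.1 e, mul_assoc]

/-- The bicentralizer of a non-central element. -/
theorem bicentral {e δ : G} (he : e ∈ E) (hδ : δ ∈ E) (hnc : e ≠ 1 ∧ e ≠ z)
    (h : ∀ x ∈ E, x * e = e * x → x * δ = δ * x) :
    δ = 1 ∨ δ = z ∨ δ = e ∨ δ = e * z := by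
  by_cases hall : ∀ x ∈ E, x * δ = δ * x
  · rcases D.central_eq_or hδ (fun y hy => (hall y hy).symm) with h' | h'
    · exact Or.inl h'
    · exact Or.inr (Or.inl h')
  -- `δ` and `e` are centralized by the same elements
  have heq : ∀ x ∈ E, x * δ = δ * x → x * e = e * x := by
    intro x hx hxδ
    by_contra hxe
    refine hall fun y hy => ?_
    by_cases hye : y * e = e * y
    · exact h y hy hye
    have h1 := D.swap he hy hye
    have h2 := D.swap he hx hxe
    have hzc : ∀ u ∈ E, u * z = z * u := fun u hu => D.comm hu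
    have hxy : (x * y) * e = e * (x * y) := by
      rw [mul_assoc, h1, ← mul_assoc, hzc x hx, mul_assoc, ← mul_assoc x e, h2, ← mul_assoc,
        ← mul_assoc, D.zz, one_mul, mul_assoc]
    have h3 : (x * y) * δ = δ * (x * y) := h (x * y) (E.mul_mem hx hy) hxy
    rw [mul_assoc, ← mul_assoc δ x, ← hxδ, mul_assoc] at h3
    exact mul_left_cancel h3
  have hc : ∀ y ∈ E, (e * δ) * y = y * (e * δ) := by
    intro y hy
    by_cases hye : y * e = e * y
    · rw [mul_assoc, ← h y hy hye, ← mul_assoc, ← hye, mul_assoc]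
    · have hyδ : y * δ ≠ δ * y := fun e' => hye (heq y hy e')
      have h1 := D.swap he hy hye
      have h2 := D.swap hδ hy hyδ
      symm
      calc y * (e * δ) = z * (e * y) * δ := by rw [← mul_assoc, h1]
        _ = z * e * (y * δ) := by group
        _ = z * e * (z * (δ * y)) := by rw [h2]
        _ = z * (e * z) * (δ * y) := by group
        _ = e * δ * y := by rw [D.comm he, ← mul_assoc z z, D.zz, one_mul, ← mul_assoc]
  rcases D.central_eq_or (E.mul_mem he hδ) hc with h' | h'
  · have e2 : δ = e⁻¹ := eq_inv_of_mul_eq_one_right h'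
    rcases D.sq he with hs | hs
    · exact Or.inr (Or.inr (Or.inl (e2.trans (inv_eq_of_mul_eq_one_right hs))))
    · refine Or.inr (Or.inr (Or.inr (e2.trans (inv_eq_of_mul_eq_one_right ?_))))
      rw [← mul_assoc, hs, D.zz]
  · have e2 : δ = e⁻¹ * z := by rw [← h', inv_mul_cancel_left]
    rcases D.sq he with hs | hs
    · refine Or.inr (Or.inr (Or.inr ?_))
      rw [e2, inv_eq_of_mul_eq_one_right hs]
    · refine Or.inr (Or.inr (Or.inl ?_))
      rw [e2, inv_mul_eq_iff_eq_mul, hs]

theorem card_centralizer {e : G} (he : e ∈ E) (hnc : e ≠ 1 ∧ e ≠ z) :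
    2 * Nat.card ↥(E ⊓ Subgroup.centralizer ({e} : Set G)) = Nat.card E := by
  haveI := Fact.mk Nat.prime_two
  have hncE : (⟨e, he⟩ : E) ∉ Subgroup.center E := fun h => by
    rcases D.central_eq_or he (fun y hy => congrArg Subtype.val (Subgroup.mem_center_iff.1 h ⟨y, hy⟩).symm) with h' | h'
    · exact hnc.1 h'
    · exact hnc.2 h'
  have hidx := PGroups.IsExtraspecial.index_centralizer D.ext hncE
  have h := (Subgroup.centralizer ({(⟨e, he⟩ : E)} : Set E)).card_mul_index
  rw [hidx, mul_comm] at h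
  rw [← h]
  congr 1
  exact Nat.card_congr ⟨fun x => ⟨⟨x, x.2.1⟩, Subgroup.mem_centralizer_singleton_iff.2
      (Subtype.ext (Subgroup.mem_centralizer_singleton_iff.1 x.2.2))⟩,
    fun x => ⟨((x : E) : G), (x : E).2, Subgroup.mem_centralizer_singleton_iff.2
      (congrArg Subtype.val (Subgroup.mem_centralizer_singleton_iff.1 x.2))⟩, fun x => rfl, fun x => rfl⟩

/-- For `|E| > 8` centralizers of non-central elements in `E` are non-abelian. -/
theorem exists_swap_pair (h8 : 8 < Nat.card E) {e : G} (he : e ∈ E) (hnc : e ≠ 1 ∧ e ≠ z) :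
    ∃ a ∈ E, ∃ b ∈ E, a * e = e * a ∧ b * e = e * b ∧ b * a ≠ a * b := by
  classical
  by_contra hcon
  push Not at hcon
  have hsub : ∀ a ∈ E, a * e = e * a → a = 1 ∨ a = z ∨ a = e ∨ a = e * z := by
    intro a ha hae
    exact D.bicentral he ha hnc fun x hx hxe => hcon a ha x hx hae hxe
  have hle : Nat.card ↥(E ⊓ Subgroup.centralizer ({e} : Set G)) ≤ 4 := by
    refine le_trans (Nat.card_le_card_of_injective
      (β := ({1, z, e, e * z} : Finset G))
      (fun x => ⟨(x : G), by
        rcases hsub x x.2.1 (Subgroup.mem_centralizer_singleton_iff.1 x.2.2) with h | h | h | h <;>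
          simp [h]⟩) fun x y h => Subtype.ext (congrArg (fun w : ({1, z, e, e * z} : Finset G) => (w : G)) h)) ?_
    rw [Nat.card_eq_finsetCard]
    exact Finset.card_le_four
  have := D.card_centralizer he hnc
  omega

/-- An element of `E ∖ {z}` conjugate to `z` lies in the derived subgroup of `C(z)`. -/
theorem conjugate_mem_of_commutators (h8 : 8 < Nat.card E) {g : G} (hgE : g * z * g⁻¹ ∈ E)
    (hne : g * z * g⁻¹ ≠ z) (K : Subgroup G)
    (hK : ∀ a ∈ Subgroup.centralizer ({z} : Set G), ∀ b ∈ Subgroup.centralizer ({z} : Set G),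
      b * a * b⁻¹ * a⁻¹ ∈ K) : g * z * g⁻¹ ∈ K := by
  have hC : Subgroup.centralizer (E : Set G) = (Subgroup.center E).map E.subtype := by
    refine le_antisymm (fun w hw => ?_) (fun w hw => ?_)
    · exact (Fischer2.mem_centerImage_iff E w).2 ⟨D.cent hw,
        fun y hy => (Subgroup.mem_centralizer_iff.1 hw y hy).symm⟩
    · exact Subgroup.mem_centralizer_iff.2 fun y hy =>
        (((Fischer2.mem_centerImage_iff E w).1 hw).2 y hy).symm
  have hN : Subgroup.centralizer (((Subgroup.center E).map E.subtype : Subgroup G) : Set G) ≤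
      Subgroup.normalizer (E : Set G) := by
    intro h hh
    have hz' : h ∈ Subgroup.centralizer ({z} : Set G) :=
      Subgroup.mem_centralizer_singleton_iff.2 (Subgroup.mem_centralizer_iff.1 hh z D.zImage).symm
    rw [Subgroup.mem_normalizer_iff]
    intro e
    refine ⟨fun he => D.normal h hz' e he, fun he => ?_⟩
    have := D.normal _ (Subgroup.inv_mem _ hz') _ he
    simpa [mul_assoc] using this
  obtain ⟨y, hy, hyz⟩ := Fischer2.mem_conj_of_conj_mem D.ext hC hN h8 D.zImage D.z_ne hgE hne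
  change g * y * g⁻¹ = z at hyz
  have hy1 : y ≠ 1 := fun e => D.z_ne (by rw [← hyz, e]; group)
  have hy2 : y ≠ z := fun e => hne (e ▸ hyz)
  obtain ⟨a, ha, b, hb, hay, hby, hne'⟩ := D.exists_swap_pair h8 hy ⟨hy1, hy2⟩
  have hmem : ∀ u : G, u * y = y * u → g * u * g⁻¹ ∈ Subgroup.centralizer ({z} : Set G) := by
    intro u hu
    rw [Subgroup.mem_centralizer_singleton_iff]
    calc g * u * g⁻¹ * z = g * u * g⁻¹ * (g * y * g⁻¹) := by rw [hyz]
      _ = g * (u * y) * g⁻¹ := by group
      _ = g * (y * u) * g⁻¹ := by rw [hu]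
      _ = (g * y * g⁻¹) * (g * u * g⁻¹) := by group
      _ = _ := by rw [hyz]
  have h := hK _ (hmem a hay) _ (hmem b hby)
  have e : b * a * b⁻¹ * a⁻¹ = z := by
    rw [D.swap ha hb hne']
    group
  rwa [show g * b * g⁻¹ * (g * a * g⁻¹) * (g * b * g⁻¹)⁻¹ * (g * a * g⁻¹)⁻¹
    = g * (b * a * b⁻¹ * a⁻¹) * g⁻¹ by group, e] at h

/-- The elements of `C(z)` centralizing `C_E(e)`. -/
theorem centralizing_centralizer {e s : G} (he : e ∈ E) (hnc : e ≠ 1 ∧ e ≠ z) (hee : e * e = 1)
    (hs : s ∈ Subgroup.centralizer ({z} : Set G))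
    (h : ∀ x ∈ E, x * e = e * x → s * x = x * s) : s = 1 ∨ s = z ∨ s = e ∨ s = e * z := by
  obtain ⟨f, hf, hfe⟩ : ∃ f ∈ E, f * e ≠ e * f := by
    by_contra hcon
    push Not at hcon
    rcases D.central_eq_or he fun y hy => (hcon y hy).symm with h' | h'
    · exact hnc.1 h'
    · exact hnc.2 h'
  have hsz : s * z = z * s := Subgroup.mem_centralizer_singleton_iff.1 hs
  have hzs : s * z * s⁻¹ = z := by rw [hsz, mul_inv_cancel_right]
  set δ := s * f * s⁻¹ * f⁻¹ with hδdef
  have hδE : δ ∈ E := E.mul_mem (D.normal s hs f hf) (E.inv_mem hf)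
  have hδ : ∀ x ∈ E, x * e = e * x → x * δ = δ * x := by
    intro x hx hxe
    have hsx : s * x * s⁻¹ = x := by rw [h x hx hxe, mul_inv_cancel_right]
    by_cases hfx : x * f = f * x
    · have h1 : f⁻¹ * x = x * f⁻¹ := ((show Commute x f from hfx).inv_right).symm.eq
      have h2 : x * (s * f * s⁻¹) = s * f * s⁻¹ * x := by
        calc x * (s * f * s⁻¹) = s * x * s⁻¹ * (s * f * s⁻¹) := by rw [hsx]
          _ = s * (x * f) * s⁻¹ := by group
          _ = s * f * s⁻¹ * (s * x * s⁻¹) := by rw [hfx]; group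
          _ = _ := by rw [hsx]
      rw [hδdef, ← mul_assoc, h2, mul_assoc _ x, ← h1, ← mul_assoc]
    · have h1 := D.swap hf hx hfx
      have h2 : x * (s * f * s⁻¹) = z * (s * f * s⁻¹ * x) := by
        calc x * (s * f * s⁻¹) = s * x * s⁻¹ * (s * f * s⁻¹) := by rw [hsx]
          _ = s * (x * f) * s⁻¹ := by group
          _ = (s * z * s⁻¹) * (s * f * s⁻¹) * (s * x * s⁻¹) := by rw [h1]; group
          _ = _ := by rw [hzs, hsx, mul_assoc]
      have h3 : x * f⁻¹ = z * (f⁻¹ * x) := by
        have := congrArg (fun w => f⁻¹ * (z * w) * f⁻¹) h1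
        simp only [← mul_assoc z z, D.zz, one_mul] at this
        have e1 : f⁻¹ * (z * (x * f)) * f⁻¹ = z * (f⁻¹ * x) := by
          have := (show Commute f z from D.comm hf).inv_left.eq
          rw [← mul_assoc, this]; group
        rw [e1] at this
        rw [this]; group
      calc x * δ = x * (s * f * s⁻¹) * f⁻¹ := by rw [hδdef]; group
        _ = z * (s * f * s⁻¹) * (x * f⁻¹) := by rw [h2]; group
        _ = (s * f * s⁻¹ * z) * (z * (f⁻¹ * x)) := by rw [h3, D.comm (D.normal s hs f hf)]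
        _ = δ * x := by rw [mul_assoc, ← mul_assoc z z, D.zz, one_mul, hδdef]; group
  have hsf : s * f * s⁻¹ = δ * f := by rw [hδdef]; group
  have hsq : δ * f * (δ * f) = f * f := by
    rw [← hsf, show s * f * s⁻¹ * (s * f * s⁻¹) = s * (f * f) * s⁻¹ by group]
    rcases D.sq hf with e' | e' <;> rw [e']
    · group
    · exact hzs
  have hzz := D.zz
  have hfix : s * f * s⁻¹ = f ∨ s * f * s⁻¹ = z * f := by
    rw [hsf]
    rcases D.bicentral he hδE hnc hδ with e' | e' | e' | e'
    · exact Or.inl (by rw [e', one_mul])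
    · exact Or.inr (by rw [e'])
    all_goals
      exfalso
      rw [← mul_assoc] at hsq
      have h3 := mul_right_cancel hsq
      have h1 := D.swap he hf hfe
    · rw [e', mul_assoc, h1, ← mul_assoc e, D.comm he, mul_assoc, ← mul_assoc e e, hee, one_mul] at h3
      exact D.z_ne (mul_eq_right.1 h3)
    · rw [e'] at h3
      have h4 : e * z * f * (e * z) = z * f := by
        calc e * z * f * (e * z) = e * (z * (f * e)) * z := by group
          _ = e * (z * (z * (e * f))) * z := by rw [h1]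
          _ = (e * (z * z) * e) * (f * z) := by group
          _ = z * f := by rw [hzz, mul_one, hee, one_mul, D.comm hf]
      exact D.z_ne (mul_eq_right.1 (h4.symm.trans h3))
  have hall : ∀ t : G, (∀ x ∈ E, x * e = e * x → t * x = x * t) → t * f = f * t →
      t ∈ Subgroup.centralizer (E : Set G) := by
    intro t ht htf
    refine Subgroup.mem_centralizer_iff.2 fun x hx => ?_
    by_cases hxe : x * e = e * x
    · exact (ht x hx hxe).symm
    · have h2 := D.swap he hx hxe
      have h1 := D.swap he hf hfe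
      have hxf : (x * f) * e = e * (x * f) := by
        rw [mul_assoc, h1, ← mul_assoc, D.comm hx, mul_assoc, ← mul_assoc x e, h2, ← mul_assoc,
          ← mul_assoc, hzz, one_mul, mul_assoc]
      have h5 := ht _ (E.mul_mem hx hf) hxf
      rw [mul_assoc x f t, ← htf, ← mul_assoc, ← mul_assoc] at h5
      exact (mul_right_cancel h5).symm
  have hfin : ∀ t : G, t ∈ Subgroup.centralizer (E : Set G) → t = 1 ∨ t = z := fun t ht =>
    D.central_eq_or (D.cent ht) fun y hy => (Subgroup.mem_centralizer_iff.1 ht y hy).symm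
  rcases hfix with e' | e'
  · rcases hfin s (hall s h (mul_inv_eq_iff_eq_mul.1 e')) with r | r
    · exact Or.inl r
    · exact Or.inr (Or.inl r)
  · have hes : e * s * f = f * (e * s) := by
      rw [← mul_inv_eq_iff_eq_mul]
      calc e * s * f * (e * s)⁻¹ = e * (s * f * s⁻¹) * e⁻¹ := by group
        _ = e * z * f * e⁻¹ := by rw [e']; group
        _ = z * e * f * e⁻¹ := by rw [D.comm he]
        _ = (f * e) * e⁻¹ := by rw [D.swap he hf hfe]; group
        _ = f := by group
    have h6 := hall (e * s) (fun x hx hxe => by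
      rw [mul_assoc, h x hx hxe, ← mul_assoc, ← hxe, mul_assoc]) hes
    rcases hfin _ h6 with r | r
    · exact Or.inr (Or.inr (Or.inl
        ((eq_inv_of_mul_eq_one_right r).trans (inv_eq_of_mul_eq_one_right hee))))
    · refine Or.inr (Or.inr (Or.inr ?_))
      rw [← r, ← mul_assoc, hee, one_mul]

/-- The transfer of an involution `e`: an even number of its fixed cosets carry a nontrivial value,
so also an even number of those fixed by a 2-group of elements commuting with `e`. -/
theorem even_fixed (hres : Cfsg.pResidual 2 G = ⊤) {A : Type*} [CommGroup A] [Finite A]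
    (hA : Nat.card A = 2) {H : Subgroup G} (φ : H →* A) {e : G} (hee : e * e = 1)
    (R : Subgroup G) (hR : IsPGroup 2 R) (hRe : ∀ a ∈ R, a * e = e * a) :
    Even (Nat.card {w : G ⧸ H // (∀ a ∈ R, a • w = w) ∧
      ∃ h : w.out⁻¹ * e * w.out ∈ H, φ ⟨_, h⟩ ≠ 1}) := by
  classical
  haveI := Fact.mk Nat.prime_two
  have htriv : φ.transfer e = 1 := MonoidHom.mem_ker.1
    (CfsgLib.Transfer.pResidual_le_ker (IsPGroup.of_card (n := 1) (by rw [hA, pow_one])) φ.transfer
      (hres ▸ Subgroup.mem_top e))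
  set S : Set (G ⧸ H) := {w | ∃ h : w.out⁻¹ * e * w.out ∈ H, φ ⟨_, h⟩ ≠ 1} with hS
  -- the values are independent of representatives
  have hrep : ∀ (g : G) (w : G ⧸ H), (g : G ⧸ H) = w →
      ∀ hg : g⁻¹ * e * g ∈ H, ∃ h : w.out⁻¹ * e * w.out ∈ H, φ ⟨_, h⟩ = φ ⟨_, hg⟩ := by
    intro g w hgw hg
    have hk : g⁻¹ * w.out ∈ H := QuotientGroup.eq.1 (hgw.trans (QuotientGroup.out_eq' w).symm)
    set k : H := ⟨g⁻¹ * w.out, hk⟩
    have e1 : w.out⁻¹ * e * w.out = ((k⁻¹ * ⟨_, hg⟩ * k : H) : G) := by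
      simp only [k, Subgroup.coe_mul, Subgroup.coe_inv]; group
    refine ⟨e1 ▸ (k⁻¹ * ⟨_, hg⟩ * k : H).2, ?_⟩
    rw [show (⟨w.out⁻¹ * e * w.out, e1 ▸ (k⁻¹ * ⟨_, hg⟩ * k : H).2⟩ : H) = k⁻¹ * ⟨_, hg⟩ * k from
      Subtype.ext e1, map_mul, map_mul, map_inv, mul_comm, ← mul_assoc, mul_inv_cancel, one_mul]
  -- `S` is invariant under `R`
  have hinv : ∀ a ∈ R, ∀ w ∈ S, a • w ∈ S := by
    rintro a ha w ⟨h, hne⟩
    have hmk : ((a * w.out : G) : G ⧸ H) = a • w := by
      conv_rhs => rw [← QuotientGroup.out_eq' w]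
      rfl
    have hconj : (a * w.out)⁻¹ * e * (a * w.out) = w.out⁻¹ * e * w.out := by
      calc (a * w.out)⁻¹ * e * (a * w.out) = w.out⁻¹ * (a⁻¹ * (e * a)) * w.out := by group
        _ = _ := by rw [← hRe a ha]; group
    obtain ⟨h', he'⟩ := hrep _ _ hmk (hconj ▸ h)
    refine ⟨h', ?_⟩
    rw [he']
    intro h''
    exact hne ((congrArg φ (Subtype.ext hconj.symm)).trans h'')
  let act : MulAction R S :=
    { smul := fun a w => ⟨(a : G) • (w : G ⧸ H), hinv a a.2 w w.2⟩
      one_smul := fun w => Subtype.ext (one_smul G (w : G ⧸ H))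
      mul_smul := fun a b w => Subtype.ext (mul_smul (a : G) (b : G) (w : G ⧸ H)) }
  letI := act
  have hmod := hR.card_modEq_card_fixedPoints S
  have hfix : Nat.card {w : G ⧸ H // (∀ a ∈ R, a • w = w) ∧
      ∃ h : w.out⁻¹ * e * w.out ∈ H, φ ⟨_, h⟩ ≠ 1} = Nat.card (MulAction.fixedPoints R S) :=
    Nat.card_congr ⟨fun w => ⟨⟨w.1, w.2.2⟩, fun a => Subtype.ext (w.2.1 a a.2)⟩,
      fun w => ⟨w.1.1, fun a ha => congrArg Subtype.val (w.2 ⟨a, ha⟩), w.1.2⟩,
      fun w => rfl, fun w => rfl⟩
  rw [hfix, Nat.even_iff, ← hmod, ← Nat.even_iff]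
  -- the nontrivial factors of the transfer
  haveI := Fintype.ofFinite (Quotient (MulAction.orbitRel (Subgroup.zpowers e) (G ⧸ H)))
  rw [MonoidHom.transfer_eq_prod_quotient_orbitRel_zpowers_quot] at htriv
  set F := fun q : Quotient (MulAction.orbitRel (Subgroup.zpowers e) (G ⧸ H)) =>
    φ ⟨q.out.out⁻¹ * e ^ Function.minimalPeriod (e • ·) q.out * q.out.out,
      QuotientGroup.out_conj_pow_minimalPeriod_mem H e q.out⟩ with hF
  obtain ⟨a₁, ha1, huniq⟩ := (Nat.card_eq_two_iff' (1 : A)).1 hA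
  have hord : orderOf a₁ = 2 := by
    rcases (Nat.dvd_prime Nat.prime_two).1 (hA ▸ orderOf_dvd_natCard a₁) with h | h
    · exact absurd (orderOf_eq_one_iff.1 h) ha1
    · exact h
  have heven : Even (Finset.univ.filter fun q => F q ≠ 1).card := by
    rw [even_iff_two_dvd, ← hord, orderOf_dvd_iff_pow_eq_one]
    refine Eq.trans ?_ htriv
    refine ((Finset.prod_eq_pow_card (f := F) fun q hq => huniq _ (Finset.mem_filter.1 hq).2).symm).trans ?_
    exact Finset.prod_filter_ne_one Finset.univ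
  have hgood : ∀ q, F q ≠ 1 → Function.minimalPeriod (e • ·) q.out = 1 := by
    intro q hq
    by_contra hne
    refine hq ?_
    have h2 : Function.IsPeriodicPt (e • · : G ⧸ H → G ⧸ H) 2 q.out := by
      show e • e • q.out = q.out
      rw [← mul_smul, hee, one_smul]
    have hd := h2.minimalPeriod_dvd
    have hp2 := ((Nat.dvd_prime Nat.prime_two).1 hd).resolve_left hne
    rw [hF]
    refine (congrArg φ (Subtype.ext ?_)).trans (map_one φ)
    show q.out.out⁻¹ * e ^ Function.minimalPeriod (e • ·) q.out * q.out.out = 1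
    rw [hp2, pow_two, hee]; group
  have hmem : ∀ q, F q ≠ 1 → q.out ∈ S := by
    intro q hq
    have h1 := hgood q hq
    have h := QuotientGroup.out_conj_pow_minimalPeriod_mem H e q.out
    rw [h1, pow_one] at h
    refine ⟨h, fun h' => hq ?_⟩
    rw [← h', hF]
    exact congrArg φ (Subtype.ext (by simp only [h1, pow_one]))
  have hcardS : Nat.card S = (Finset.univ.filter fun q => F q ≠ 1).card := by
    rw [← Nat.card_eq_finsetCard]
    symm
    refine Nat.card_eq_of_bijective (fun q => (⟨q.1.out, hmem q.1 (Finset.mem_filter.1 q.2).2⟩ : S)) ⟨?_, ?_⟩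
    · intro q q' h
      exact Subtype.ext (Quotient.out_injective (congrArg Subtype.val h))
    · rintro ⟨w, h, hne⟩
      have hw : e • w = w := by
        conv_rhs => rw [← QuotientGroup.out_eq' w]
        conv_lhs => rw [← QuotientGroup.out_eq' w]
        show ((e * w.out : G) : G ⧸ H) = _
        refine QuotientGroup.eq.2 ?_
        have : (e * w.out)⁻¹ * w.out = (w.out⁻¹ * e * w.out)⁻¹ := by group
        rw [this]
        exact H.inv_mem h
      set q : Quotient (MulAction.orbitRel (Subgroup.zpowers e) (G ⧸ H)) := Quotient.mk'' w with hq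
      have hout : q.out = w := by
        have h1 : q.out ∈ MulAction.orbit (Subgroup.zpowers e) w :=
          MulAction.orbitRel_apply.1 (Quotient.exact (Quotient.out_eq q))
        obtain ⟨⟨c, hc⟩, hcw⟩ := h1
        rw [← hcw]
        show c • w = w
        exact (Subgroup.zpowers_le.2 (MulAction.mem_stabilizer_iff.2 hw) hc : c ∈ MulAction.stabilizer G w)
      have hper : Function.minimalPeriod (e • ·) q.out = 1 := by
        rw [hout, Function.minimalPeriod_eq_one_iff_isFixedPt]
        exact hw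
      refine ⟨⟨q, Finset.mem_filter.2 ⟨Finset.mem_univ _, ?_⟩⟩, Subtype.ext hout⟩
      intro h'
      refine hne ?_
      rw [← h', hF]
      rw [hout] at hper
      exact congrArg φ (Subtype.ext (by simp only [hout, hper, pow_one]))
  rw [hcardS]
  exact heven

/-- `E` lies in every normal subgroup of index 2 of `C(z)`. -/
theorem le_of_index_two (hres : Cfsg.pResidual 2 G = ⊤) (h8 : 8 < Nat.card E) (K : Subgroup G)
    (hKH : K ≤ Subgroup.centralizer ({z} : Set G))
    (hKi : K.relIndex (Subgroup.centralizer ({z} : Set G)) = 2) : E ≤ K := by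
  classical
  haveI := Fact.mk Nat.prime_two
  set H := Subgroup.centralizer ({z} : Set G) with hH
  set K' := K.subgroupOf H with hK'
  have hi : K'.index = 2 := hKi
  haveI : K'.Normal := Subgroup.normal_of_index_eq_two hi
  haveI : IsCyclic (H ⧸ K') := isCyclic_of_prime_card (p := 2) hi
  letI : CommGroup (H ⧸ K') := IsCyclic.commGroup
  let φ := QuotientGroup.mk' K'
  have hφ : ∀ (x : G) (hx : x ∈ H), φ ⟨x, hx⟩ = 1 ↔ x ∈ K := fun x hx =>
    QuotientGroup.eq_one_iff _
  have hcomm : ∀ a ∈ H, ∀ b ∈ H, b * a * b⁻¹ * a⁻¹ ∈ K := by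
    intro a ha b hb
    refine (hφ (b * a * b⁻¹ * a⁻¹) (H.mul_mem (H.mul_mem (H.mul_mem hb ha) (H.inv_mem hb)) (H.inv_mem ha))).1 ?_
    show φ (⟨b, hb⟩ * ⟨a, ha⟩ * (⟨b, hb⟩ : H)⁻¹ * (⟨a, ha⟩ : H)⁻¹) = 1
    rw [map_mul, map_mul, map_mul, map_inv, map_inv, mul_comm (φ ⟨b, hb⟩), mul_inv_cancel_right,
      mul_inv_cancel]
  obtain ⟨a, ha, b, hb, hab⟩ : ∃ a ∈ E, ∃ b ∈ E, b * a ≠ a * b := by
    by_contra h
    push Not at h
    obtain ⟨a, b, hab⟩ := PGroups.IsExtraspecial.exists_not_commute D.ext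
    exact hab (Subtype.ext (h b b.2 a a.2))
  have hzK : z ∈ K := by
    have h := hcomm a (D.le ha) b (D.le hb)
    rwa [D.swap ha hb hab, show z * (a * b) * b⁻¹ * a⁻¹ = z by group] at h
  by_contra hEK
  -- an involution of `E` outside `K`
  obtain ⟨e, he, heK, hee⟩ : ∃ e ∈ E, e ∉ K ∧ e * e = 1 := by
    by_contra hcon
    push Not at hcon
    obtain ⟨x, hx, hxK⟩ := SetLike.not_le_iff_exists.1 hEK
    have hxx : x * x = z := (D.sq hx).resolve_left (hcon x hx hxK)
    -- `E ∩ K` is abelian
    have hmul2 : ∀ {u v : G}, u ∈ H → v ∈ H → (u * v ∈ K ↔ (u ∈ K ↔ v ∈ K)) := by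
      intro u v hu hv
      exact (Subgroup.mul_mem_iff_of_index_two hi (a := (⟨u, hu⟩ : H)) (b := ⟨v, hv⟩) :)
    have hab' : ∀ p ∈ E, p ∈ K → ∀ q ∈ E, q ∈ K → q * p = p * q := by
      have hsq : ∀ p ∈ E, p ∈ K → p * p = (x * p * x⁻¹ * p⁻¹) := by
        intro p hp hpK
        have hxp : x * p ∉ K := fun h => hxK (((hmul2 (D.le hx) (D.le hp)).1 h).2 hpK)
        have h1 : x * p * (x * p) = z := (D.sq (E.mul_mem hx hp)).resolve_left (hcon _ (E.mul_mem hx hp) hxp)
        have hpp : p * p = p⁻¹ * p⁻¹ := by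
          have h4 : p * p * (p * p) = 1 := by
            rcases D.sq hp with h | h <;> rw [h]
            · exact mul_one 1
            · exact D.zz
          rw [← mul_inv_rev]
          exact eq_inv_of_mul_eq_one_left h4
        have e1 : p * x * p = x := by
          rw [← hxx, mul_assoc, mul_right_inj] at h1
          rw [mul_assoc]; exact h1
        have e2 : x * p = p⁻¹ * x := by
          rw [eq_inv_mul_iff_mul_eq, ← mul_assoc]; exact e1
        rw [hpp, e2]; group
      intro p hp hpK q hq hqK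
      by_contra hne
      have h1 := hsq _ (E.mul_mem hp hq) (K.mul_mem hpK hqK)
      have h2 := hsq p hp hpK
      have h3 := hsq q hq hqK
      have h4 := D.swap hp hq hne
      have hc : ∀ u ∈ E, u * u = 1 ∨ u * u = z := fun u hu => D.sq hu
      have e1 : p * q * (p * q) = z * (p * p * (q * q)) := by
        calc p * q * (p * q) = p * (q * p) * q := by group
          _ = p * (z * (p * q)) * q := by rw [h4]
          _ = _ := by rw [← mul_assoc p z, D.comm hp]; group
      have hxq : x * q * x⁻¹ = q * q * q := by rw [h3]; group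
      have e2 : x * (p * q) * x⁻¹ * (p * q)⁻¹ = (x * p * x⁻¹ * p⁻¹) * (x * q * x⁻¹ * q⁻¹) := by
        have hcen : p * (q * q) = q * q * p := by
          rcases hc q hq with h | h <;> rw [h]
          · simp
          · exact D.comm hp
        calc x * (p * q) * x⁻¹ * (p * q)⁻¹ = (x * p * x⁻¹ * p⁻¹) * (p * (x * q * x⁻¹ * q⁻¹) * p⁻¹) := by group
          _ = (x * p * x⁻¹ * p⁻¹) * (p * (q * q) * p⁻¹) := by rw [h3]
          _ = (x * p * x⁻¹ * p⁻¹) * (q * q) := by rw [hcen, mul_inv_cancel_right]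
          _ = _ := by rw [h3]
      rw [e2, ← h2, ← h3, e1] at h1
      exact D.z_ne (mul_eq_right.1 h1)
    -- but centralizers of non-central elements are non-abelian
    have hx1 : x ≠ 1 ∧ x ≠ z := ⟨fun e => hxK (e ▸ K.one_mem), fun e => hxK (e ▸ hzK)⟩
    obtain ⟨p, hp, q, hq, hpx, hqx, hne⟩ := D.exists_swap_pair h8 hx hx1
    have hfix : ∀ u ∈ E, u * x = x * u → ∃ u' ∈ E, u' ∈ K ∧
        (∀ v ∈ E, v * x = x * v → (v * u' = u' * v ↔ v * u = u * v)) ∧ u' * x = x * u' := by
      intro u hu hux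
      by_cases huK : u ∈ K
      · exact ⟨u, hu, huK, fun v _ _ => Iff.rfl, hux⟩
      · refine ⟨u * x, E.mul_mem hu hx, (hmul2 (D.le hu) (D.le hx)).2 (iff_of_false huK hxK), ?_, ?_⟩
        · intro v _ hvx
          have hcx : Commute v x := hvx
          constructor
          · intro h
            have := (show Commute v (u * x) from h).mul_right hcx.inv_right
            rw [mul_inv_cancel_right] at this
            exact this.eq
          · intro h
            exact ((show Commute v u from h).mul_right hcx).eq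
        · rw [← mul_assoc x u x, ← hux]
    obtain ⟨p', hp', hpK', hpiff, hpx'⟩ := hfix p hp hpx
    obtain ⟨q', hq', hqK', hqiff, -⟩ := hfix q hq hqx
    have h1 : p' * q' = q' * p' := hab' q' hq' hqK' p' hp' hpK'
    have h2 : p' * q = q * p' := (hqiff p' hp' hpx').1 h1
    exact hne ((hpiff q hq hqx).1 h2.symm)
  have hnc : e ≠ 1 ∧ e ≠ z := ⟨fun h => heK (h ▸ K.one_mem), fun h => heK (h ▸ hzK)⟩
  -- neither `e` nor `e z` is conjugate to `z`
  have hno : ∀ g : G, g * z * g⁻¹ ≠ e ∧ g * z * g⁻¹ ≠ e * z := by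
    intro g
    constructor <;> intro h
    · exact heK (h ▸ D.conjugate_mem_of_commutators h8 (h ▸ he) (h ▸ hnc.2) K hcomm)
    · have hne : e * z ≠ z := fun e' => hnc.1 (mul_eq_right.1 e')
      have h' := D.conjugate_mem_of_commutators h8 (h ▸ E.mul_mem he D.mem) (h ▸ hne) K hcomm
      rw [h] at h'
      exact heK (by simpa using K.mul_mem h' (K.inv_mem hzK))
  set R := E ⊓ Subgroup.centralizer ({e} : Set G) with hR
  have hRp : IsPGroup 2 R := (PGroups.IsExtraspecial.isPGroup D.ext).to_le inf_le_left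
  have hev := D.even_fixed hres (A := H ⧸ K') hi φ hee R hRp
    fun a ha => Subgroup.mem_centralizer_singleton_iff.1 ha.2
  have hone : Nat.card {w : G ⧸ H // (∀ a ∈ R, a • w = w) ∧
      ∃ h : w.out⁻¹ * e * w.out ∈ H, φ ⟨_, h⟩ ≠ 1} = 1 := by
    rw [Nat.card_eq_one_iff_unique]
    have hout : ((1 : G) : G ⧸ H).out ∈ H := by
      have := QuotientGroup.eq.1 (QuotientGroup.out_eq' ((1 : G) : G ⧸ H)).symm
      simpa using this
    constructor
    · have key : ∀ w : G ⧸ H, (∀ a ∈ R, a • w = w) → w = ((1 : G) : G ⧸ H) := by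
        intro w hw
        set g := w.out with hg
        have hfixR : ∀ a ∈ R, g⁻¹ * a * g ∈ H := by
          intro a ha
          have h1 : ((a * g : G) : G ⧸ H) = (g : G ⧸ H) := by
            rw [hg, QuotientGroup.out_eq']
            conv_rhs => rw [← hw a ha]
            conv_rhs => rw [← QuotientGroup.out_eq' w]
            rfl
          have h2 := QuotientGroup.eq.1 h1
          rw [show (a * g)⁻¹ * g = (g⁻¹ * a * g)⁻¹ by group] at h2
          exact (Subgroup.inv_mem_iff H).1 h2
        set u := g * z * g⁻¹ with hu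
        have hcu : ∀ a ∈ R, a * u = u * a := by
          intro a ha
          have h := Subgroup.mem_centralizer_singleton_iff.1 (hfixR a ha)
          calc a * u = g * (g⁻¹ * a * g * z) * g⁻¹ := by rw [hu]; group
            _ = g * (z * (g⁻¹ * a * g)) * g⁻¹ := by rw [h]
            _ = u * a := by rw [hu]; group
        have huH : u ∈ H := Subgroup.mem_centralizer_singleton_iff.2 (hcu z ⟨D.mem,
          Subgroup.mem_centralizer_singleton_iff.2 (D.comm he).symm⟩).symm
        have hu1 : u ≠ 1 := fun e' => D.z_ne (conj_eq_one_iff.1 e')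
        rcases D.centralizing_centralizer he hnc hee huH (fun x hx hxe =>
            (hcu x ⟨hx, Subgroup.mem_centralizer_singleton_iff.2 hxe⟩).symm) with h | h | h | h
        · exact absurd h hu1
        · conv_lhs => rw [← QuotientGroup.out_eq' w]
          rw [QuotientGroup.eq, mul_one, Subgroup.inv_mem_iff]
          exact Subgroup.mem_centralizer_singleton_iff.2 (mul_inv_eq_iff_eq_mul.1 h)
        · exact absurd h (hno g).1
        · exact absurd h (hno g).2
      exact ⟨fun v w => Subtype.ext ((key v v.2.1).trans (key w w.2.1).symm)⟩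
    · refine ⟨⟨((1 : G) : G ⧸ H), fun a ha => ?_, ?_⟩⟩
      · show ((a * 1 : G) : G ⧸ H) = _
        rw [mul_one, QuotientGroup.eq, mul_one]
        exact H.inv_mem (D.le ha.1)
      · refine ⟨H.mul_mem (H.mul_mem (H.inv_mem hout) (D.le he)) hout, fun h => heK ((hφ e (D.le he)).1 ?_)⟩
        rw [← h]
        show φ ⟨e, D.le he⟩ = φ ((⟨_, hout⟩ : H)⁻¹ * ⟨e, D.le he⟩ * ⟨_, hout⟩)
        rw [map_mul, map_mul, map_inv, mul_comm, mul_inv_cancel_left]
  rw [hone] at hev
  exact absurd hev (by decide)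

end Data

end CfsgLib.SectRank.LargeExtra
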