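import Cfsg.Agent.Lib.ClassicalForms.Unitary.Center

/-!
Involutions of `SU_3` over a field with `q²` elements, `q` odd: they correspond to the lines
spanned by vectors of norm one.
-/

set_option autoImplicit false

namespace CfsgLib.SectRank.SUThree

open CfsgLib.Geometric CfsgLib.ClassicalForms

variable {F : Type*} [Field F] {q : ℕ}

/-- Vectors of norm one. -/
def IsUnitVec {n : ℕ} (q : ℕ) (d : Fin n → F) : Prop := Cfsg.hermForm n F q d d = 1

/-- `x ↦ -x`. -/
def negOne (c : Conj F q) : Cfsg.GU 3 F q :=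
  guOfEquiv (LinearEquiv.neg F) fun u v => by
    simp [c.herm_apply, map_neg]

theorem ap_negOne (c : Conj F q) (x : Fin 3 → F) : ap (negOne c : GL (Fin 3) F) x = -x := by
  rw [negOne, ap_guOfEquiv]; rfl

theorem det_negOne (c : Conj F q) : ((guDet 3 F q (negOne c) : Fˣ) : F) = -1 := by
  show ((Matrix.GeneralLinearGroup.det (negOne c : GL (Fin 3) F) : Fˣ) : F) = -1
  rw [coe_det_eq]
  have e : ((negOne c : GL (Fin 3) F) : Matrix (Fin 3) (Fin 3) F) = -1 := by
    refine Matrix.ext_of_mulVec_single fun i => ?_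
    rw [Matrix.neg_mulVec, Matrix.one_mulVec]
    exact ap_negOne c _
  rw [e, Matrix.det_neg, Matrix.det_one]; norm_num

/-- The involution attached to a vector of norm one. -/
noncomputable def rv (c : Conj F q) (d : Fin 3 → F) (hd : IsUnitVec q d) : Cfsg.SU 3 F q :=
  suOfGU (negOne c * pref c d (-2) (by rw [hd]; norm_num) (by rw [hd]; simp [map_ofNat]; ring)) (by
    refine Units.ext ?_
    rw [map_mul, Units.val_mul, det_negOne, det_pref, hd]; norm_num)

theorem ap_rv (c : Conj F q) (d : Fin 3 → F) (hd : IsUnitVec q d) (x : Fin 3 → F) :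
    ap (suToGU (rv c d hd) : GL (Fin 3) F) x = (2 * Cfsg.hermForm 3 F q x d) • d - x := by
  rw [rv, suToGU_suOfGU, Subgroup.coe_mul, ap_mul, ap_pref, ap_negOne]
  rw [neg_add, ← neg_smul, neg_mul, neg_neg]; abel

theorem su_ext {n : ℕ} {a b : Cfsg.SU n F q}
    (h : ∀ x, ap (suToGU a : GL (Fin n) F) x = ap (suToGU b : GL (Fin n) F) x) : a = b :=
  suToGU_injective (gu_ext h)

theorem ap_su_mul {n : ℕ} (a b : Cfsg.SU n F q) (x : Fin n → F) :
    ap (suToGU (a * b) : GL (Fin n) F) x
      = ap (suToGU a : GL (Fin n) F) (ap (suToGU b : GL (Fin n) F) x) := by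
  rw [map_mul, Subgroup.coe_mul, ap_mul]

theorem ap_su_one {n : ℕ} (x : Fin n → F) :
    ap (suToGU (1 : Cfsg.SU n F q) : GL (Fin n) F) x = x := by
  simp [ap_def]

variable (c : Conj F q) (h2 : (2 : F) ≠ 0)

theorem rv_mul_self (d : Fin 3 → F) (hd : IsUnitVec q d) : rv c d hd * rv c d hd = 1 := by
  refine su_ext fun x => ?_
  rw [ap_su_mul, ap_su_one, ap_rv, ap_rv, c.sub_left, c.smul_left, hd]
  module

include c in
theorem unit_ne_zero {n : ℕ} {d : Fin n → F} (hd : IsUnitVec q d) : d ≠ 0 := fun h => by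
  rw [IsUnitVec, h, c.zero_left] at hd
  exact zero_ne_one hd

include h2 in
theorem rv_ne_one (d : Fin 3 → F) (hd : IsUnitVec q d) : rv c d hd ≠ 1 := by
  intro h
  have key : ∀ x : Fin 3 → F, x = Cfsg.hermForm 3 F q x d • d := by
    intro x
    have e := congrArg (fun g : Cfsg.SU 3 F q => ap (suToGU g : GL (Fin 3) F) x) h
    simp only [ap_rv, ap_su_one] at e
    have e' : (2 : F) • (x - Cfsg.hermForm 3 F q x d • d) = 0 := by
      rw [smul_sub, smul_smul]
      calc (2 : F) • x - (2 * Cfsg.hermForm 3 F q x d) • d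
          = x - ((2 * Cfsg.hermForm 3 F q x d) • d - x) := by module
        _ = 0 := by rw [e, sub_self]
    exact sub_eq_zero.1 ((smul_eq_zero.1 e').resolve_left h2)
  have h0 := key (Pi.single 0 1)
  have h1 := key (Pi.single 1 1)
  have e00 := congrFun h0 0
  have e01 := congrFun h0 1
  have e11 := congrFun h1 1
  simp at e00 e01 e11
  rcases e01 with e | e
  · simp [e] at e00
  · simp [e] at e11

include h2 in
/-- Two involutions coincide iff the lines coincide. -/
theorem rv_eq_iff (d e : Fin 3 → F) (hd : IsUnitVec q d) (he : IsUnitVec q e) :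
    rv c d hd = rv c e he ↔ ∃ μ : F, e = μ • d := by
  constructor
  · intro h
    refine ⟨Cfsg.hermForm 3 F q e d, ?_⟩
    have hh := congrArg (fun g : Cfsg.SU 3 F q => ap (suToGU g : GL (Fin 3) F) e) h
    simp only [ap_rv] at hh
    rw [show Cfsg.hermForm 3 F q e e = 1 from he, mul_one, sub_left_inj, mul_smul] at hh
    exact (smul_right_injective _ h2 hh).symm
  · rintro ⟨μ, rfl⟩
    refine su_ext fun x => ?_
    rw [ap_rv, ap_rv, c.smul_right, smul_smul]
    rw [IsUnitVec, c.smul_left, c.smul_right, show Cfsg.hermForm 3 F q d d = 1 from hd, mul_one] at he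
    congr 2
    linear_combination (-2 * Cfsg.hermForm 3 F q x d) * he

include h2 in
theorem commute_rv_iff (d e : Fin 3 → F) (hd : IsUnitVec q d) (he : IsUnitVec q e) :
    Commute (rv c d hd) (rv c e he) ↔ Cfsg.hermForm 3 F q e d = 0 ∨ ∃ μ : F, e = μ • d := by
  constructor
  · intro h
    refine or_iff_not_imp_left.2 fun hb => ?_
    have hh := congrArg (fun g : Cfsg.SU 3 F q => ap (suToGU g : GL (Fin 3) F) e) h.eq
    simp only [ap_su_mul, ap_rv] at hh
    set b := Cfsg.hermForm 3 F q e d with hbdef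
    rw [show Cfsg.hermForm 3 F q e e = 1 from he, mul_one, c.sub_left, c.smul_left, c.sub_left,
      c.smul_left, ← hbdef, show Cfsg.hermForm 3 F q e e = 1 from he] at hh
    set b' := Cfsg.hermForm 3 F q d e with hbdef'
    have key : (2 * 2 * b) • d = (2 * 2 * (b * b')) • e := by
      linear_combination (norm := module) hh
    refine ⟨(b')⁻¹, ?_⟩
    have h4 : (2 : F) * 2 * b ≠ 0 := mul_ne_zero (mul_ne_zero h2 h2) hb
    have hb' : b' ≠ 0 := by
      intro h0
      rw [h0, mul_zero, mul_zero, zero_smul] at key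
      exact unit_ne_zero c hd ((smul_eq_zero.1 key).resolve_left h4)
    rw [← mul_assoc (2 * 2 : F) b b', mul_smul (2 * 2 * b) b' e] at key
    rw [smul_right_injective _ h4 key, smul_smul, inv_mul_cancel₀ hb', one_smul]
  · rintro (h | h)
    · refine su_ext fun x => ?_
      have h' : Cfsg.hermForm 3 F q d e = 0 := by rw [c.herm_symm e d, h, map_zero]
      rw [ap_su_mul, ap_su_mul, ap_rv, ap_rv, ap_rv, ap_rv, c.sub_left, c.smul_left, c.sub_left,
        c.smul_left, h, h']
      module
    · rw [(rv_eq_iff c h2 d e hd he).2 h]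

section Finite

variable [Finite F] (hF : Nat.card F = q ^ 2)

include c h2 in
/-- An anisotropic fixed vector. -/
theorem exists_unit_fixed (t : Cfsg.SU 3 F q) (ht : t * t = 1) :
    ∃ d, IsUnitVec q d ∧ ap (suToGU t : GL (Fin 3) F) d = d := by
  set M := (suToGU t : GL (Fin 3) F) with hM
  have hMM : ∀ x, ap M (ap M x) = x := fun x => by
    rw [hM, ← ap_su_mul, ht, ap_su_one]
  have hpres : ∀ u v, Cfsg.hermForm 3 F q (ap M u) (ap M v) = Cfsg.hermForm 3 F q u v :=
    gu_apply (suToGU t)
  have hfix : ∀ x, ap M (x + ap M x) = x + ap M x := fun x => by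
    rw [ap_add, hMM]; abel
  obtain ⟨v, hv0, hv⟩ : ∃ v, v ≠ 0 ∧ ap M v = v := by
    by_contra! hcon
    have hneg : ∀ x, ap M x = -x := fun x => by
      by_contra hx
      exact hcon (x + ap M x) (fun e => hx (eq_neg_of_add_eq_zero_right e)) (hfix x)
    have e : (t.1 : Matrix (Fin 3) (Fin 3) F) = -1 := by
      refine Matrix.ext_of_mulVec_single fun i => ?_
      rw [Matrix.neg_mulVec, Matrix.one_mulVec]
      exact hneg _
    have hd := t.1.2
    rw [e, Matrix.det_neg, Matrix.det_one] at hd
    norm_num at hd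
    exact h2 (by linear_combination (-1 : F) * hd)
  obtain ⟨w, hwfix, hw⟩ : ∃ w, ap M w = w ∧ Cfsg.hermForm 3 F q w w ≠ 0 := by
    by_contra! hcon
    have hfx : ∀ u w, ap M u = u → ap M w = w → Cfsg.hermForm 3 F q u w = 0 := by
      intro u w hu hw
      by_contra hb
      set b := Cfsg.hermForm 3 F q u w with hbdef
      have h := hcon (u + b • w) (by rw [ap_add, ap_smul, hu, hw])
      rw [c.add_left, c.add_right, c.add_right, c.smul_left, c.smul_left, c.smul_right, c.smul_right,
        hcon u hu, hcon w hw, c.herm_symm u w, ← hbdef] at h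
      have hb2 : (2 : F) * (b * c.σ b) = 0 := by linear_combination h
      rcases mul_eq_zero.1 hb2 with h | h
      · exact h2 h
      rcases mul_eq_zero.1 h with h | h
      · exact hb h
      · exact hb (c.eq_zero h)
    refine hv0 (c.ext_right fun u => ?_)
    rw [c.zero_left]
    have h := hfx v (u + ap M u) hv (hfix u)
    rw [c.add_right] at h
    have h' : Cfsg.hermForm 3 F q v (ap M u) = Cfsg.hermForm 3 F q v u := by
      conv_lhs => rw [← hv]
      exact hpres v u
    rw [h', ← two_mul] at h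
    exact (mul_eq_zero.1 h).resolve_left h2
  obtain ⟨a, ha⟩ := c.exists_norm (c.herm_self w)
  have ha0 : a ≠ 0 := fun e => hw (by rw [← ha, e, zero_mul])
  refine ⟨a⁻¹ • w, ?_, by rw [ap_smul, hwfix]⟩
  rw [IsUnitVec, c.smul_left, c.smul_right, ← ha, map_inv₀]
  have : c.σ a ≠ 0 := fun e => ha0 (c.eq_zero e)
  field_simp

include h2 hF in
/-- Every involution is attached to a vector of norm one. -/
theorem exists_eq_rv (t : Cfsg.SU 3 F q) (ht1 : t ≠ 1) (ht : t * t = 1) :
    ∃ d, ∃ hd : IsUnitVec q d, t = rv c d hd := by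
  obtain ⟨d, hd, hfix⟩ := exists_unit_fixed c h2 t ht
  refine ⟨d, hd, su_ext fun x => ?_⟩
  have he0 : Cfsg.hermForm 3 F q (Pi.single 0 1) (Pi.single 0 1) = 1 := by
    rw [c.single_right, Pi.single_eq_same]
  obtain ⟨g, hg⟩ := exists_gu_move hF he0 hd
  obtain ⟨r, hr⟩ := exists_guExt_eq c (g⁻¹ * suToGU t * g) (by
    rw [Subgroup.coe_mul, Subgroup.coe_mul, ap_mul, ap_mul, hg, hfix, Subgroup.coe_inv, ← hg, ap_inv_ap])
  set R := ((r : GL (Fin 2) F) : Matrix (Fin 2) (Fin 2) F) with hR
  have hkey : ∀ y : Fin 3 → F, ap (suToGU t : GL (Fin 3) F) (ap (g : GL (Fin 3) F) y)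
      = ap (g : GL (Fin 3) F) (Fin.cons (y 0) (R.mulVec (vtail y))) := by
    intro y
    have e := ap_guExt c r y
    rw [hr, Subgroup.coe_mul, Subgroup.coe_mul, ap_mul, ap_mul, Subgroup.coe_inv] at e
    rw [← show ap (r : GL (Fin 2) F) (vtail y) = R.mulVec (vtail y) from rfl, ← e, ap_ap_inv]
  -- the restriction is an involution of determinant one
  have hRR : R * R = 1 := by
    refine Matrix.ext_of_mulVec_single fun i => ?_
    rw [Matrix.one_mulVec, ← Matrix.mulVec_mulVec]
    set w : Fin 2 → F := Pi.single i 1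
    have e := hkey (Fin.cons 0 (R.mulVec w))
    rw [vtail_cons, Fin.cons_zero] at e
    have e' := hkey (Fin.cons 0 w)
    rw [vtail_cons, Fin.cons_zero] at e'
    rw [← e', ← ap_su_mul, ht, ap_su_one] at e
    have e2 := congrArg vtail (ap_injective _ e)
    rw [vtail_cons, vtail_cons] at e2
    exact e2.symm
  have hdet : R.det = 1 := by
    have hgd : guDet 3 F q (g⁻¹ * suToGU t * g) = 1 := by
      rw [map_mul, map_mul, guDet_suToGU, mul_one, ← map_mul, inv_mul_cancel, map_one]
    rw [← hr] at hgd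
    have h3 : ((guExt c 2 r : GL (Fin 3) F) : Matrix (Fin 3) (Fin 3) F).det = 1 := by
      rw [← coe_det_eq]; exact congrArg Units.val hgd
    rw [Matrix.det_fin_three] at h3
    have ecol : ∀ i j : Fin 3, ((guExt c 2 r : GL (Fin 3) F) : Matrix (Fin 3) (Fin 3) F) i j
        = (Fin.cons ((Pi.single j (1 : F) : Fin 3 → F) 0) (R.mulVec (vtail (Pi.single j (1 : F) : Fin 3 → F))) : Fin 3 → F) i := by
      intro i j
      have e := congrFun (ap_guExt c r (Pi.single j (1 : F))) i
      rw [ap_def, Matrix.mulVec_single_one, Matrix.col_apply] at e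
      exact e
    simp only [ecol, show (1 : Fin 3) = (0 : Fin 2).succ from rfl, show (2 : Fin 3) = (1 : Fin 2).succ from rfl,
      Fin.cons_succ, Fin.cons_zero] at h3
    simp [vtail, Matrix.mulVec, dotProduct, Fin.sum_univ_two] at h3
    rw [Matrix.det_fin_two]
    linear_combination h3
  have h00 := congrFun (congrFun hRR 0) 0
  have h01 := congrFun (congrFun hRR 0) 1
  have h10 := congrFun (congrFun hRR 1) 0
  have h11 := congrFun (congrFun hRR 1) 1
  rw [Matrix.det_fin_two] at hdet
  simp [Matrix.mul_apply, Fin.sum_univ_two] at h00 h01 h10 h11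
  have htr : R 0 0 + R 1 1 ≠ 0 := fun e => h2 (by linear_combination R 0 0 * e - h00 - hdet)
  have h01' : R 0 1 = 0 := by
    have : R 0 1 * (R 0 0 + R 1 1) = 0 := by linear_combination h01
    simpa [htr] using this
  have h10' : R 1 0 = 0 := by
    have : R 1 0 * (R 0 0 + R 1 1) = 0 := by linear_combination h10
    simpa [htr] using this
  rw [h01', h10'] at h00 h11 hdet
  have ha : R 0 0 = R 1 1 := by linear_combination (R 1 1) * h00 - (R 0 0) * hdet
  have hsq : R 0 0 * R 0 0 = 1 := by linear_combination h00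
  have hneg : R = -1 := by
    rcases mul_self_eq_one_iff.1 hsq with h | h
    · exfalso
      refine ht1 (su_ext fun z => ?_)
      rw [ap_su_one, ← ap_ap_inv (g : GL (Fin 3) F) z, hkey]
      congr 1
      have : R = 1 := by
        ext i j; fin_cases i <;> fin_cases j <;> simp [h01', h10', ← ha, h]
      rw [this, Matrix.one_mulVec, cons_vtail]
    · ext i j; fin_cases i <;> fin_cases j <;> simp [h01', h10', ← ha, h]
  rw [ap_rv]
  obtain ⟨y, rfl⟩ : ∃ y, ap (g : GL (Fin 3) F) y = x := ⟨_, ap_ap_inv _ x⟩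
  rw [hkey, hneg, Matrix.neg_mulVec, Matrix.one_mulVec, ← hg, gu_apply, c.single_right, ← ap_smul,
    ← ap_sub]
  congr 1
  funext i
  refine Fin.cases ?_ (fun j => ?_) i
  · simp; ring
  · simp [vtail]

end Finite

end CfsgLib.SectRank.SUThree
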