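import Cfsg.Agent.Lib.SectRank.WeaklyClosedBasic

/-!
# A weakly closed central involution and subgroups of index two of its centralizer
-/

set_option autoImplicit false
set_option linter.unusedSectionVars false
set_option linter.style.haveILetI false

open Cfsg

namespace CfsgLib.SectRank.LargeExtra

theorem zmod_two_cases (a : ZMod 2) : a = 0 ∨ a = 1 := by revert a; decide

/-- A function with additive second derivative has an even number of zeros on a large enough
elementary abelian 2-group. -/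
theorem even_zero_card {T : Type*} [Group T] [Finite T] (hsq : ∀ q : T, q * q = 1) (ψ : T → ZMod 2)
    (hadd : ∀ q q' r, ψ (q * q' * r) + ψ (q * q') + ψ r =
      (ψ (q * r) + ψ q + ψ r) + (ψ (q' * r) + ψ q' + ψ r))
    (hcase : 8 ≤ Nat.card T ∨
      (4 ≤ Nat.card T ∧ ∃ f : T, f ≠ 1 ∧ ∀ q, ψ (q * f) + ψ q + ψ f = 0)) :
    Even (Nat.card {q : T // ψ q = 0}) := by
  classical
  haveI := Fintype.ofFinite T
  have h2 : (2 : ZMod 2) = 0 := rfl
  haveI := Fact.mk Nat.prime_two
  have hp : IsPGroup 2 T := fun q => ⟨1, by rw [pow_one, pow_two, hsq q]⟩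
  have hcomm : ∀ a b : T, a * b = b * a := fun a b => by
    rw [← inv_eq_of_mul_eq_one_right (hsq (a * b)), mul_inv_rev, inv_eq_of_mul_eq_one_right (hsq a),
      inv_eq_of_mul_eq_one_right (hsq b)]
  obtain ⟨k, hk⟩ := hp.exists_card_eq
  obtain ⟨f, hf1, hf⟩ : ∃ f : T, f ≠ 1 ∧ (8 ≤ Nat.card T ∨ ∀ q, ψ (q * f) + ψ q + ψ f = 0) := by
    rcases hcase with h | ⟨-, f, hf, hfl⟩
    · haveI : Nontrivial T := Finite.one_lt_card_iff_nontrivial.1 (by omega)
      obtain ⟨f, hf⟩ := exists_ne (1 : T)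
      exact ⟨f, hf, Or.inl h⟩
    · exact ⟨f, hf, Or.inr hfl⟩
  have hT4 : 4 ≤ Nat.card T := by rcases hcase with h | ⟨h, -⟩ <;> omega
  set L : T → ZMod 2 := fun q => ψ (q * f) + ψ q + ψ f with hL
  have hLadd : ∀ q q', L (q * q') = L q + L q' := fun q q' => hadd q q' f
  have hψ1 : ψ 1 = 0 := by
    have := hadd 1 1 f
    simp only [one_mul] at this
    linear_combination -this - (ψ f) * h2
  have hLf : L f = 0 := by
    simp only [hL, hsq f, hψ1]
    linear_combination (ψ f) * h2
  -- the sum of `ψ` vanishes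
  have hsum : ∑ q, ψ q = 0 := by
    haveI : (Subgroup.zpowers f).Normal := ⟨fun n hn g => by rwa [hcomm g n, mul_inv_cancel_right]⟩
    let e : (T ⧸ Subgroup.zpowers f) × Bool → T := fun p => p.1.out * (if p.2 then f else 1)
    have hf2 : Nat.card (Subgroup.zpowers f) = 2 := by
      rw [Nat.card_zpowers, orderOf_eq_prime (by rw [pow_two, hsq f]) hf1]
    have hcardT : Nat.card T = Nat.card (T ⧸ Subgroup.zpowers f) * 2 := by
      rw [← hf2, ← Subgroup.card_eq_card_quotient_mul_card_subgroup]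
    have he : Function.Bijective e := by
      refine (Nat.bijective_iff_injective_and_card e).2 ⟨?_, ?_⟩
      · rintro ⟨r, b⟩ ⟨r', b'⟩ h
        have hb : ∀ b : Bool, (if b then f else 1) ∈ Subgroup.zpowers f := fun b => by
          cases b
          · exact Subgroup.one_mem _
          · exact Subgroup.mem_zpowers f
        have hr : r = r' := by
          have := congrArg (QuotientGroup.mk (s := Subgroup.zpowers f)) h
          simp only [e] at this
          rwa [QuotientGroup.mk_mul_of_mem _ (hb b), QuotientGroup.mk_mul_of_mem _ (hb b'),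
            QuotientGroup.out_eq', QuotientGroup.out_eq'] at this
        subst hr
        have h' := mul_left_cancel h
        cases b <;> cases b' <;> simp_all
      · rw [Nat.card_prod, Nat.card_eq_fintype_card (α := Bool), Fintype.card_bool, ← hcardT]
    haveI := Fintype.ofFinite (T ⧸ Subgroup.zpowers f)
    rw [← (Equiv.ofBijective e he).sum_comp, Fintype.sum_prod_type]
    have hpair : ∀ r : T ⧸ Subgroup.zpowers f,
        ∑ b : Bool, ψ ((Equiv.ofBijective e he) (r, b)) = ψ f + L r.out := fun r => by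
      simp only [Fintype.sum_bool, Equiv.ofBijective_apply, e, hL]
      simp
      linear_combination -(ψ f) * h2
    rw [Finset.sum_congr rfl fun r _ => hpair r, Finset.sum_add_distrib, Finset.sum_const,
      Finset.card_univ, ← Nat.card_eq_fintype_card]
    have hk1 : 2 ∣ Nat.card (T ⧸ Subgroup.zpowers f) := by
      rw [hk] at hcardT hT4
      rcases k with _ | _ | k
      · simp at hT4
      · simp at hT4
      · exact ⟨2 ^ k, by rw [pow_succ, pow_succ] at hcardT; omega⟩
    obtain ⟨c, hc⟩ := hk1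
    have hz0 : (Nat.card (T ⧸ Subgroup.zpowers f) • ψ f : ZMod 2) = 0 := by
      rw [hc, nsmul_eq_mul, Nat.cast_mul, show ((2 : ℕ) : ZMod 2) = 0 from rfl, zero_mul, zero_mul]
    rw [hz0, zero_add]
    rcases hf with h8 | hLz
    · -- `L` is additive on the quotient by `f`
      have hout : ∀ (q : T), L (q : T ⧸ Subgroup.zpowers f).out = L q := by
        intro q
        obtain ⟨⟨m, hm⟩, hq⟩ := QuotientGroup.mk_out_eq_mul (Subgroup.zpowers f) q
        rw [hq]
        show L (q * m) = L q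
        rw [hLadd]
        rcases Fischer2.eq_one_or_eq_of_card_two hf2 (Subgroup.mem_zpowers f) hf1 hm with e | e <;> rw [e]
        · rw [show L 1 = 0 by simp [hL, hψ1, two_zero], add_zero]
        · rw [hLf, add_zero]
      by_cases hall : ∀ r : T ⧸ Subgroup.zpowers f, L r.out = 0
      · exact Finset.sum_eq_zero fun r _ => hall r
      push Not at hall
      obtain ⟨r₁, hr₁⟩ := hall
      have hr₁' : L r₁.out = 1 := by
        revert hr₁
        generalize L r₁.out = a
        rcases zmod_two_cases a with rfl | rfl <;> simp_all [show (1 : ZMod 2) + 1 = 0 from rfl]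
      have hsh : ∀ r, L (r * r₁).out = L r.out + 1 := fun r => by
        conv_lhs => rw [← QuotientGroup.out_eq' r, ← QuotientGroup.out_eq' r₁, ← QuotientGroup.mk_mul]
        rw [hout, hLadd, hr₁']
      have hsum' : ∀ r : T ⧸ Subgroup.zpowers f, L r.out = if L r.out = 0 then 0 else 1 := fun r => by
        generalize L r.out = a
        rcases zmod_two_cases a with rfl | rfl <;> simp_all [show (1 : ZMod 2) + 1 = 0 from rfl]
      rw [Finset.sum_congr rfl fun r _ => hsum' r, Finset.sum_ite, Finset.sum_const, Finset.sum_const,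
        smul_zero, zero_add]
      set R := Finset.univ.filter fun r : T ⧸ Subgroup.zpowers f => L r.out = 0
      have hcc : R.card = (Finset.univ.filter fun r : T ⧸ Subgroup.zpowers f => ¬ L r.out = 0).card := by
        refine Finset.card_equiv (Equiv.mulRight r₁) fun r => ?_
        simp only [R, Finset.mem_filter, Finset.mem_univ, true_and, Equiv.coe_mulRight, hsh]
        generalize L r.out = a
        rcases zmod_two_cases a with rfl | rfl <;> simp_all [show (1 : ZMod 2) + 1 = 0 from rfl]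
      have htot := Finset.card_filter_add_card_filter_not (s := (Finset.univ : Finset (T ⧸ Subgroup.zpowers f)))
        (fun r => L r.out = 0)
      rw [← hcc, Finset.card_univ, ← Nat.card_eq_fintype_card] at htot
      obtain ⟨c', hc'⟩ : 4 ∣ Nat.card (T ⧸ Subgroup.zpowers f) := by
        rw [hk] at hcardT h8
        rcases k with _ | _ | _ | k
        · simp at h8
        · simp at h8
        · simp at h8
        · exact ⟨2 ^ k, by rw [pow_succ, pow_succ, pow_succ] at hcardT; omega⟩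
      rw [← hcc, nsmul_eq_mul, mul_one, ZMod.natCast_eq_zero_iff_even]
      refine ⟨c', ?_⟩
      simp only [R] at htot ⊢
      omega
    · exact Finset.sum_eq_zero fun r _ => hLz r.out
  have hcast : ((Nat.card {q : T // ψ q = 0} : ℕ) : ZMod 2) = 0 := by
    rw [Nat.card_eq_fintype_card, Fintype.card_subtype, Finset.card_filter, Nat.cast_sum]
    have he : ∀ q : T, ((if ψ q = 0 then 1 else 0 : ℕ) : ZMod 2) = 1 + ψ q := fun q => by
      generalize ψ q = a
      rcases zmod_two_cases a with rfl | rfl <;> simp_all [show (1 : ZMod 2) + 1 = 0 from rfl]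
    rw [Finset.sum_congr rfl fun q _ => he q, Finset.sum_add_distrib, hsum, add_zero, Finset.sum_const,
      Finset.card_univ, nsmul_eq_mul, mul_one, ← Nat.card_eq_fintype_card, hk]
    rcases k with _ | k
    · exfalso; rw [hk] at hT4; norm_num at hT4
    · rw [pow_succ, Nat.cast_mul, show ((2 : ℕ) : ZMod 2) = 0 from rfl, mul_zero]
  exact (ZMod.natCast_eq_zero_iff_even).1 hcast

variable {G : Type*} [Group G] [Finite G]

open Classical in
/-- The character with kernel the conjugate of `K` by `g`. -/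
noncomputable def phi (K : Subgroup G) (g x : G) : ZMod 2 := if g⁻¹ * x * g ∈ K then 0 else 1

namespace Data

variable {z : G} {E : Subgroup G} (D : Data z E) {K : Subgroup G}
include D

theorem phi_mul (hi : (K.subgroupOf (Subgroup.centralizer ({z} : Set G))).index = 2) {g x y : G}
    (hx : x * (g * z * g⁻¹) = g * z * g⁻¹ * x) (hy : y * (g * z * g⁻¹) = g * z * g⁻¹ * y) :
    phi K g (x * y) = phi K g x + phi K g y := by
  have hm : ∀ w, w * (g * z * g⁻¹) = g * z * g⁻¹ * w →
      g⁻¹ * w * g ∈ Subgroup.centralizer ({z} : Set G) := fun w hw => by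
    rw [Subgroup.mem_centralizer_singleton_iff]
    calc g⁻¹ * w * g * z = g⁻¹ * (w * (g * z * g⁻¹)) * g := by group
      _ = _ := by rw [hw]; group
  have h := Subgroup.mul_mem_iff_of_index_two hi (a := (⟨_, hm x hx⟩ : Subgroup.centralizer ({z} : Set G)))
    (b := ⟨_, hm y hy⟩)
  rw [Subgroup.mem_subgroupOf, Subgroup.mem_subgroupOf, Subgroup.mem_subgroupOf, Subgroup.coe_mul,
    show g⁻¹ * x * g * (g⁻¹ * y * g) = g⁻¹ * (x * y) * g by group] at h
  unfold phi
  by_cases h1 : g⁻¹ * x * g ∈ K <;> by_cases h2 : g⁻¹ * y * g ∈ K <;>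
    simp [h1, h2, h, show (1 : ZMod 2) + 1 = 0 from rfl]

omit D in
theorem phi_one (g : G) : phi K g 1 = 0 := if_pos (by rw [mul_one, inv_mul_cancel]; exact K.one_mem)

omit D in
theorem phi_eq_zero {g x : G} : phi K g x = 0 ↔ g⁻¹ * x * g ∈ K := by
  unfold phi; split <;> simp_all

omit D in
theorem phi_inv {g x : G} : phi K g x⁻¹ = phi K g x := by
  unfold phi
  rw [show g⁻¹ * x⁻¹ * g = (g⁻¹ * x * g)⁻¹ by group]
  by_cases h : g⁻¹ * x * g ∈ K
  · rw [if_pos (K.inv_mem h), if_pos h]
  · rw [if_neg (fun h' => h (by simpa using K.inv_mem h')), if_neg h]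

theorem phi_conj (hi : (K.subgroupOf (Subgroup.centralizer ({z} : Set G))).index = 2) {g s x : G}
    (hs : s * (g * z * g⁻¹) = g * z * g⁻¹ * s) (hx : x * (g * z * g⁻¹) = g * z * g⁻¹ * x) :
    phi K g (s * x * s⁻¹) = phi K g x := by
  have hs' : Commute s (g * z * g⁻¹) := hs
  rw [D.phi_mul hi ((hs'.mul_left hx).eq) hs'.inv_left.eq, D.phi_mul hi hs hx, phi_inv]
  linear_combination (phi K g s) * z2

theorem phi_cm (hi : (K.subgroupOf (Subgroup.centralizer ({z} : Set G))).index = 2) {g s x : G}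
    (hs : s * (g * z * g⁻¹) = g * z * g⁻¹ * s) (hx : x * (g * z * g⁻¹) = g * z * g⁻¹ * x) :
    phi K g (cm s x) = 0 := by
  have hs' : Commute s (g * z * g⁻¹) := hs
  have hx' : Commute x (g * z * g⁻¹) := hx
  rw [cm, D.phi_mul hi hx'.inv_left.eq ((hs'.mul_left hx').mul_left hs'.inv_left).eq, phi_inv,
    D.phi_conj hi hs hx]
  exact two_zero _

theorem phi_indep (hi : (K.subgroupOf (Subgroup.centralizer ({z} : Set G))).index = 2) {g g' x : G}
    (hg : g * z * g⁻¹ = g' * z * g'⁻¹) (hx : x * (g * z * g⁻¹) = g * z * g⁻¹ * x) :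
    phi K g' x = phi K g x := by
  set H := Subgroup.centralizer ({z} : Set G)
  have hk : g⁻¹ * g' ∈ H := by
    rw [Subgroup.mem_centralizer_singleton_iff]
    calc g⁻¹ * g' * z = g⁻¹ * (g' * z * g'⁻¹) * g' := by group
      _ = _ := by rw [← hg]; group
  have hx' : g⁻¹ * x * g ∈ H := by
    rw [Subgroup.mem_centralizer_singleton_iff]
    calc g⁻¹ * x * g * z = g⁻¹ * (x * (g * z * g⁻¹)) * g := by group
      _ = _ := by rw [hx]; group
  haveI := Subgroup.normal_of_index_eq_two hi
  have key : g'⁻¹ * x * g' ∈ K ↔ g⁻¹ * x * g ∈ K := by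
    have e : g'⁻¹ * x * g' = (g⁻¹ * g')⁻¹ * (g⁻¹ * x * g) * (g⁻¹ * g') := by group
    constructor
    · intro h
      have := (inferInstance : (K.subgroupOf H).Normal).conj_mem
        (⟨_, H.mul_mem (H.mul_mem (H.inv_mem hk) hx') hk⟩ : H)
        (Subgroup.mem_subgroupOf.2 (by rw [e] at h; exact h)) ⟨_, hk⟩
      rw [Subgroup.mem_subgroupOf] at this
      simpa [mul_assoc] using this
    · intro h
      have := (inferInstance : (K.subgroupOf H).Normal).conj_mem (⟨_, hx'⟩ : H)
        (Subgroup.mem_subgroupOf.2 h) (⟨_, hk⟩ : H)⁻¹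
      rw [Subgroup.mem_subgroupOf] at this
      rw [e]
      simpa using this
  unfold phi
  by_cases h : g⁻¹ * x * g ∈ K
  · rw [if_pos h, if_pos (key.2 h)]
  · rw [if_neg h, if_neg (mt key.1 h)]

/-- The number of conjugates of `z` at which `t` has a nontrivial value is even. -/
theorem even_counted (hres : Cfsg.pResidual 2 G = ⊤)
    (hi : (K.subgroupOf (Subgroup.centralizer ({z} : Set G))).index = 2) {t : G}
    (ht : t ∈ Subgroup.centralizer ({z} : Set G)) {a : ℕ} (hta : t ^ 2 ^ a = 1)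
    (hmin : ∀ x ∈ Subgroup.centralizer ({z} : Set G), ∀ j < a, x ^ 2 ^ j = 1 → x ∈ K) :
    Even (Nat.card {u : G // ∃ g : G, g * z * g⁻¹ = u ∧ u * z = z * u ∧ u * t = t * u ∧
      g⁻¹ * t * g ∉ K}) := by
  classical
  haveI := Fact.mk Nat.prime_two
  set H := Subgroup.centralizer ({z} : Set G) with hH
  set K' := K.subgroupOf H with hK'
  haveI : K'.Normal := Subgroup.normal_of_index_eq_two hi
  haveI : IsCyclic (H ⧸ K') := isCyclic_of_prime_card (p := 2) hi
  letI : CommGroup (H ⧸ K') := IsCyclic.commGroup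
  have hmemH : ∀ y : G, y ∈ H ↔ y * z = z * y := fun y => Subgroup.mem_centralizer_singleton_iff
  let φ := QuotientGroup.mk' K'
  have hφ : ∀ (x : G) (hx : x ∈ H), φ ⟨x, hx⟩ = 1 ↔ x ∈ K := fun x hx =>
    QuotientGroup.eq_one_iff _
  have htriv : φ.transfer t = 1 := MonoidHom.mem_ker.1
    (CfsgLib.Transfer.pResidual_le_ker (IsPGroup.of_card (n := 1) (by rw [pow_one]; exact hi)) φ.transfer
      (hres ▸ Subgroup.mem_top t))
  haveI := Fintype.ofFinite (Quotient (MulAction.orbitRel (Subgroup.zpowers t) (G ⧸ H)))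
  rw [MonoidHom.transfer_eq_prod_quotient_orbitRel_zpowers_quot] at htriv
  set F := fun q : Quotient (MulAction.orbitRel (Subgroup.zpowers t) (G ⧸ H)) =>
    φ ⟨q.out.out⁻¹ * t ^ Function.minimalPeriod (t • ·) q.out * q.out.out,
      QuotientGroup.out_conj_pow_minimalPeriod_mem H t q.out⟩ with hF
  obtain ⟨a₁, ha1, huniq⟩ := (Nat.card_eq_two_iff' (1 : H ⧸ K')).1 hi
  have hord : orderOf a₁ = 2 := by
    have hd : orderOf a₁ ∣ 2 := by
      have h := orderOf_dvd_natCard a₁
      rwa [show Nat.card (H ⧸ K') = 2 from hi] at h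
    rcases (Nat.dvd_prime Nat.prime_two).1 hd with h | h
    · exact absurd (orderOf_eq_one_iff.1 h) ha1
    · exact h
  have heven : Even (Finset.univ.filter fun q => F q ≠ 1).card := by
    rw [even_iff_two_dvd, ← hord, orderOf_dvd_iff_pow_eq_one]
    refine Eq.trans ?_ htriv
    refine ((Finset.prod_eq_pow_card (f := F) fun q hq => huniq _ (Finset.mem_filter.1 hq).2).symm).trans ?_
    exact Finset.prod_filter_ne_one Finset.univ
  have hgood : ∀ q, F q ≠ 1 → Function.minimalPeriod (t • ·) q.out = 1 := by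
    intro q hq
    by_contra hne
    refine hq ?_
    have hper : Function.IsPeriodicPt (t • · : G ⧸ H → G ⧸ H) (2 ^ a) q.out := by
      show ((t • ·)^[2 ^ a]) q.out = q.out
      simp only [smul_iterate, hta, one_smul]
    obtain ⟨i, hia, hieq⟩ := (Nat.dvd_prime_pow Nat.prime_two).1 hper.minimalPeriod_dvd
    rw [hF]
    refine (hφ _ _).2 (hmin _ (QuotientGroup.out_conj_pow_minimalPeriod_mem H t q.out) (a - i) ?_ ?_)
    · rcases i with _ | i
      · exact absurd (by rw [hieq, pow_zero]) hne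
      · omega
    · rw [show q.out.out⁻¹ = q.out.out⁻¹ from rfl]
      have hc : (q.out.out⁻¹ * t ^ Function.minimalPeriod (t • ·) q.out * q.out.out) ^ 2 ^ (a - i) =
          q.out.out⁻¹ * (t ^ Function.minimalPeriod (t • ·) q.out) ^ 2 ^ (a - i) * q.out.out := by
        simpa using conj_pow (a := q.out.out⁻¹) (b := t ^ Function.minimalPeriod (t • ·) q.out) (i := 2 ^ (a - i))
      rw [hc, hieq, ← pow_mul, ← pow_add, Nat.add_sub_cancel' hia, hta, mul_one, inv_mul_cancel]
  rw [← Nat.card_eq_finsetCard] at heven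
  have hu : ∀ (w : G ⧸ H), w.out * z * w.out⁻¹ * z = z * (w.out * z * w.out⁻¹) ↔
      z • w = w := by
    intro w
    conv_rhs => rw [← QuotientGroup.out_eq' w]
    show _ ↔ ((z * w.out : G) : G ⧸ H) = (w.out : G ⧸ H)
    rw [QuotientGroup.eq, hmemH, mul_inv_rev, D.zinv]
    constructor
    · intro h
      calc w.out⁻¹ * z * w.out * z = w.out⁻¹ * (z * (w.out * z * w.out⁻¹)) * w.out := by group
        _ = w.out⁻¹ * (w.out * z * w.out⁻¹ * z) * w.out := by rw [h]
        _ = _ := by group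
    · intro h
      calc w.out * z * w.out⁻¹ * z = w.out * (z * (w.out⁻¹ * z * w.out)) * w.out⁻¹ := by group
        _ = w.out * (w.out⁻¹ * z * w.out * z) * w.out⁻¹ := by rw [h]
        _ = _ := by group
  -- counted fixed cosets of `t`
  set X := {w : G ⧸ H // t • w = w ∧ w.out⁻¹ * t * w.out ∉ K}
  have hX : Nat.card X = Nat.card (Finset.univ.filter fun q => F q ≠ 1 : Finset _) := by
    symm
    have hval : ∀ q, F q ≠ 1 → t • q.out = q.out ∧ q.out.out⁻¹ * t * q.out.out ∉ K := by
      intro q hq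
      have h1 := hgood q hq
      refine ⟨Function.minimalPeriod_eq_one_iff_isFixedPt.1 h1, fun h => hq ?_⟩
      rw [hF]
      refine (hφ _ _).2 ?_
      rw [h1, pow_one]
      exact h
    refine Nat.card_eq_of_bijective
      (fun q => (⟨q.1.out, hval q.1 (Finset.mem_filter.1 q.2).2⟩ : X)) ⟨?_, ?_⟩
    · intro q q' h
      exact Subtype.ext (Quotient.out_injective (congrArg Subtype.val h))
    · rintro ⟨w, hw, hne⟩
      set q : Quotient (MulAction.orbitRel (Subgroup.zpowers t) (G ⧸ H)) := Quotient.mk'' w with hq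
      have hout : q.out = w := by
        have h1 : q.out ∈ MulAction.orbit (Subgroup.zpowers t) w :=
          MulAction.orbitRel_apply.1 (Quotient.exact (Quotient.out_eq q))
        obtain ⟨⟨c, hc⟩, hcw⟩ := h1
        rw [← hcw]
        show c • w = w
        exact (Subgroup.zpowers_le.2 (MulAction.mem_stabilizer_iff.2 hw) hc : c ∈ MulAction.stabilizer G w)
      have hper : Function.minimalPeriod (t • ·) q.out = 1 := by
        rw [hout, Function.minimalPeriod_eq_one_iff_isFixedPt]
        exact hw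
      refine ⟨⟨q, Finset.mem_filter.2 ⟨Finset.mem_univ _, fun h' => hne ?_⟩⟩, Subtype.ext hout⟩
      rw [hF] at h'
      have := (hφ _ _).1 h'
      rw [hper, pow_one, hout] at this
      exact this
  rw [← hX] at heven
  -- the involution `z` acts on them
  have hrep : ∀ (g : G) (w : G ⧸ H), (g : G ⧸ H) = w → g * z * g⁻¹ = w.out * z * w.out⁻¹ := by
    intro g w hgw
    have hk := QuotientGroup.eq.1 (hgw.trans (QuotientGroup.out_eq' w).symm)
    rw [hmemH] at hk
    calc g * z * g⁻¹ = g * (z * (g⁻¹ * w.out)) * w.out⁻¹ := by group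
      _ = g * (g⁻¹ * w.out * z) * w.out⁻¹ := by rw [hk]
      _ = _ := by group
  have hcomt : ∀ w : G ⧸ H, t • w = w ↔ w.out * z * w.out⁻¹ * t = t * (w.out * z * w.out⁻¹) := by
    intro w
    conv_lhs => rw [← QuotientGroup.out_eq' w]
    show ((t * w.out : G) : G ⧸ H) = (w.out : G ⧸ H) ↔ _
    rw [QuotientGroup.eq, hmemH]
    constructor
    · intro h
      have h' : Commute ((t * w.out)⁻¹ * w.out) z := h
      calc w.out * z * w.out⁻¹ * t = w.out * (z * ((t * w.out)⁻¹ * w.out)⁻¹) * w.out⁻¹ := by group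
        _ = w.out * (((t * w.out)⁻¹ * w.out)⁻¹ * z) * w.out⁻¹ := by rw [← h'.inv_left.eq]
        _ = _ := by group
    · intro h
      calc (t * w.out)⁻¹ * w.out * z = w.out⁻¹ * t⁻¹ * (w.out * z * w.out⁻¹ * t) * t⁻¹ * w.out := by group
        _ = w.out⁻¹ * t⁻¹ * (t * (w.out * z * w.out⁻¹)) * t⁻¹ * w.out := by rw [h]
        _ = _ := by group
  set Rz := Subgroup.zpowers z
  have hRz : IsPGroup 2 Rz := IsPGroup.of_card (n := 1) (by rw [Nat.card_zpowers, D.hz, pow_one])
  have hzt : t * z = z * t := Subgroup.mem_centralizer_singleton_iff.1 ht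
  have hinv : ∀ c ∈ Rz, ∀ w : G ⧸ H, (t • w = w ∧ w.out⁻¹ * t * w.out ∉ K) →
      (t • (c • w) = c • w ∧ (c • w).out⁻¹ * t * (c • w).out ∉ K) := by
    intro c hc w hw
    have hct : Commute c t := by
      obtain ⟨m, rfl⟩ := Subgroup.mem_zpowers_iff.1 hc
      exact (show Commute z t from hzt.symm).zpow_left m
    refine ⟨by rw [← mul_smul, ← hct.eq, mul_smul, hw.1], fun h => hw.2 ?_⟩
    have hmk : ((c * w.out : G) : G ⧸ H) = c • w := by
      conv_rhs => rw [← QuotientGroup.out_eq' w]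
      rfl
    have e1 := hrep _ _ hmk
    have e2 : (c * w.out)⁻¹ * t * (c * w.out) = w.out⁻¹ * t * w.out := by
      calc (c * w.out)⁻¹ * t * (c * w.out) = w.out⁻¹ * (c⁻¹ * (t * c)) * w.out := by group
        _ = _ := by rw [← hct.eq]; group
    have htw := (hcomt _).1 (show t • (c • w) = c • w by rw [← mul_smul, ← hct.eq, mul_smul, hw.1])
    have := D.phi_indep hi (g := (c • w).out) (g' := c * w.out) e1.symm htw.symm
    rw [← e2]
    rw [← phi_eq_zero] at h ⊢
    rw [this, h]
  let act : MulAction Rz X :=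
    { smul := fun c w => ⟨(c : G) • (w : G ⧸ H), hinv c c.2 w w.2⟩
      one_smul := fun w => Subtype.ext (one_smul G (w : G ⧸ H))
      mul_smul := fun b c w => Subtype.ext (mul_smul (b : G) (c : G) (w : G ⧸ H)) }
  letI := act
  have hmod := hRz.card_modEq_card_fixedPoints X
  rw [Nat.even_iff, hmod, ← Nat.even_iff] at heven
  convert heven using 1
  symm
  refine Nat.card_eq_of_bijective (fun w => ⟨w.1.1.out * z * w.1.1.out⁻¹, w.1.1.out, rfl,
    (hu _).2 (congrArg Subtype.val (w.2 ⟨z, Subgroup.mem_zpowers z⟩)),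
    (hcomt _).1 w.1.2.1, w.1.2.2⟩) ⟨?_, ?_⟩
  · intro w w' h
    have h' : w.1.1.out * z * w.1.1.out⁻¹ = w'.1.1.out * z * w'.1.1.out⁻¹ := congrArg Subtype.val h
    refine Subtype.ext (Subtype.ext ?_)
    rw [← QuotientGroup.out_eq' w.1.1, ← QuotientGroup.out_eq' w'.1.1, QuotientGroup.eq, hmemH]
    calc w.1.1.out⁻¹ * w'.1.1.out * z = w.1.1.out⁻¹ * (w'.1.1.out * z * w'.1.1.out⁻¹) * w'.1.1.out := by group
      _ = _ := by rw [← h']; group
  · rintro ⟨u, g, hgu, huz, hut, hgt⟩
    set w : G ⧸ H := (g : G ⧸ H) with hw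
    have e1 : g * z * g⁻¹ = w.out * z * w.out⁻¹ := hrep g w rfl
    have hwt : t • w = w := (hcomt w).2 (by rw [← e1, hgu]; exact hut)
    have hwK : w.out⁻¹ * t * w.out ∉ K := by
      intro h
      refine hgt ?_
      rw [← phi_eq_zero] at h ⊢
      rw [D.phi_indep hi (g := w.out) e1.symm ((hcomt w).1 hwt).symm, h]
    have hwz : z • w = w := (hu w).1 (by rw [← e1, hgu]; exact huz)
    refine ⟨⟨⟨w, hwt, hwK⟩, ?_⟩, Subtype.ext (e1.symm.trans hgu)⟩
    rintro ⟨c, hc⟩
    refine Subtype.ext ?_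
    exact (Subgroup.zpowers_le.2 (MulAction.mem_stabilizer_iff.2 hwz) hc : c ∈ MulAction.stabilizer G w)

/-- The data left over by the parity count. -/
theorem exists_bad (hres : Cfsg.pResidual 2 G = ⊤)
    (hi : (K.subgroupOf (Subgroup.centralizer ({z} : Set G))).index = 2) {t : G}
    (ht : t ∈ Subgroup.centralizer ({z} : Set G)) (htK : t ∉ K) {a : ℕ} (hta : t ^ 2 ^ a = 1)
    (hmin : ∀ x ∈ Subgroup.centralizer ({z} : Set G), ∀ j < a, x ^ 2 ^ j = 1 → x ∈ K)
    (hEin : ∀ g : G, g * z * g⁻¹ ∈ E → g * z * g⁻¹ ≠ z → ∀ d ∈ E,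
      d * (g * z * g⁻¹) = g * z * g⁻¹ * d → phi K g d = 0)
    (h128 : a = 1 → 128 ≤ Nat.card E) :
    a = 2 ∧ ∃ g u : G, g * z * g⁻¹ = u ∧ u * z = z * u ∧ u * t = t * u ∧ u ≠ z ∧ phi K g z = 0 ∧
      ∃ x ∈ E, ¬ cm t x * u = u * cm t x ∧ cm t (cm t x) * u = u * cm t (cm t x) ∧
        phi K g (cm t (cm t x)) = 1 ∧ (∀ w ∈ E, cm (t * t) w * u = u * cm (t * t) w) ∧
        ∀ w ∈ E, cm t w * u = u * cm t w → w * u = u * w ∨
          (cm t x)⁻¹ * w * u = u * ((cm t x)⁻¹ * w) := by
  classical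
  haveI := Fintype.ofFinite G
  haveI := Fact.mk Nat.prime_two
  by_contra hnot
  set H := Subgroup.centralizer ({z} : Set G) with hH
  have hzt : z * t = t * z := (Subgroup.mem_centralizer_singleton_iff.1 ht).symm
  set Q : G → Prop := fun u => ∃ g : G, g * z * g⁻¹ = u ∧ u * z = z * u ∧ u * t = t * u ∧
    g⁻¹ * t * g ∉ K with hQ
  set S := Finset.univ.filter Q with hS
  have hSe : Even S.card := by
    have h := D.even_counted hres hi ht hta hmin
    rwa [Nat.card_eq_fintype_card, Fintype.card_subtype] at h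
  have hzS : z ∈ S := Finset.mem_filter.2 ⟨Finset.mem_univ _,
    ⟨1, by group, rfl, hzt, by simpa using htK⟩⟩
  have ha0 : a ≠ 0 := by
    rintro rfl
    rw [pow_zero, pow_one] at hta
    exact htK (hta ▸ K.one_mem)
  let key : G → Set G := fun u => {w | ∃ h ∈ E, w = h * u * h⁻¹}
  have hkey : ∀ {x y}, x ∈ key y → key x = key y := by
    rintro x y ⟨h, hh, rfl⟩
    ext w
    constructor
    · rintro ⟨k, hk, rfl⟩
      exact ⟨k * h, E.mul_mem hk hh, by group⟩
    · rintro ⟨k, hk, rfl⟩
      exact ⟨k * h⁻¹, E.mul_mem hk (E.inv_mem hh), by group⟩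
  have hself : ∀ x, x ∈ key x := fun x => ⟨1, E.one_mem, by group⟩
  suffices hfib : ∀ u ∈ S.erase z, Even ((S.erase z).filter fun x => key x = key u).card by
    have h := Finset.card_eq_sum_card_image key (S.erase z)
    have hev : Even (S.erase z).card := by
      rw [h, even_iff_two_dvd]
      refine Finset.dvd_sum fun k hk => ?_
      obtain ⟨u, hu, rfl⟩ := Finset.mem_image.1 hk
      exact even_iff_two_dvd.1 (hfib u hu)
    have := Finset.card_erase_add_one hzS
    rw [Nat.even_iff] at hev hSe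
    omega
  intro u hu
  obtain ⟨huz', huS⟩ := Finset.mem_erase.1 hu
  obtain ⟨g, hgu, huz, hut, hgt⟩ := (Finset.mem_filter.1 huS).2
  have huu : u * u = 1 := by
    rw [← hgu, show g * z * g⁻¹ * (g * z * g⁻¹) = g * (z * z) * g⁻¹ by group, D.zz]; group
  have huH : u ∈ H := Subgroup.mem_centralizer_singleton_iff.2 huz
  have hmul : ∀ {x y}, x * u = u * x → y * u = u * y → phi K g (x * y) = phi K g x + phi K g y :=
    fun {x y} hx hy => D.phi_mul hi (by rw [hgu]; exact hx) (by rw [hgu]; exact hy)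
  have hφt : phi K g t = 1 := if_neg hgt
  have hsmall : ∀ x, x * u = u * x → ∀ j < a, x ^ 2 ^ j = 1 → phi K g x = 0 := by
    intro x hx j hj he
    refine phi_eq_zero.2 (hmin _ ?_ j hj ?_)
    · rw [Subgroup.mem_centralizer_singleton_iff]
      rw [← hgu] at hx
      calc g⁻¹ * x * g * z = g⁻¹ * (x * (g * z * g⁻¹)) * g := by group
        _ = _ := by rw [hx]; group
    · have hc : (g⁻¹ * x * g) ^ 2 ^ j = g⁻¹ * x ^ 2 ^ j * g := by
        simpa using conj_pow (a := g⁻¹) (b := x) (i := 2 ^ j)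
      rw [hc, he, mul_one, inv_mul_cancel]
  -- the subgroups `F` and `A`
  set F := E ⊓ Subgroup.centralizer ({u} : Set G) with hF
  have hmF : ∀ {w}, w ∈ F ↔ w ∈ E ∧ w * u = u * w := fun {w} =>
    ⟨fun h => ⟨h.1, Subgroup.mem_centralizer_singleton_iff.1 h.2⟩,
      fun h => ⟨h.1, Subgroup.mem_centralizer_singleton_iff.2 h.2⟩⟩
  have hzF : z ∈ F := hmF.2 ⟨D.mem, huz.symm⟩
  have hconjF : ∀ {h p}, h ∈ E → p ∈ F → h⁻¹ * p * h ∈ F := by
    intro h p hh hp
    by_cases hc : p * h = h * p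
    · rw [mul_assoc, hc, ← mul_assoc, inv_mul_cancel, one_mul]; exact hp
    · rw [mul_assoc, D.swap hh hp.1 hc, ← mul_assoc, ← mul_assoc]
      rw [((show Commute h z from D.comm hh).inv_left).eq, mul_assoc z, inv_mul_cancel, mul_one]
      exact F.mul_mem hzF hp
  have hφconj : ∀ {h p}, h ∈ E → p ∈ F → phi K g (h⁻¹ * p * h) = phi K g p + om h p * phi K g z := by
    intro h p hh hp
    by_cases hc : h * p = p * h
    · rw [om_eq_zero.2 hc, zero_mul, add_zero, mul_assoc, ← hc, inv_mul_cancel_left]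
    · rw [om_ne_zero hc, one_mul, mul_assoc, D.swap hh hp.1 (Ne.symm hc), ← mul_assoc, ← mul_assoc,
        ((show Commute h z from D.comm hh).inv_left).eq, mul_assoc z, inv_mul_cancel, mul_one,
        hmul huz.symm (hmF.1 hp).2, add_comm]
  have hcmF : ∀ {p}, p ∈ F → cm t p ∈ F := fun {p} hp => hmF.2 ⟨D.cm_mem ht hp.1, by
    have h1 : Commute p u := (hmF.1 hp).2
    have h2 : Commute t u := hut.symm
    exact (h1.inv_left.mul_left ((h2.mul_left h1).mul_left h2.inv_left)).eq⟩
  have hcmul : ∀ {x y}, x ∈ E → y ∈ E → cm t x ∈ F → cm t (x * y) = y⁻¹ * cm t x * y * cm t y :=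
    fun _ _ _ => D.cm_mul
  let A : Subgroup G :=
    { carrier := {h | h ∈ E ∧ cm t h ∈ F}
      one_mem' := ⟨E.one_mem, by simp [cm]⟩
      mul_mem' := fun {x y} hx hy => ⟨E.mul_mem hx.1 hy.1, by
        rw [D.cm_mul]; exact F.mul_mem (hconjF hy.1 hx.2) hy.2⟩
      inv_mem' := fun {x} hx => ⟨E.inv_mem hx.1, by
        have e : cm t x⁻¹ = x * (cm t x)⁻¹ * x⁻¹ := by simp only [cm]; group
        rw [e]
        have := hconjF (E.inv_mem hx.1) (F.inv_mem hx.2)
        rwa [inv_inv] at this⟩ }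
  have hmA : ∀ {h}, h ∈ A ↔ h ∈ E ∧ cm t h ∈ F := Iff.rfl
  have hFA : ∀ {p}, p ∈ F → p ∈ A := fun {p} hp => ⟨hp.1, hcmF hp⟩
  set F' := F.subgroupOf A with hF'
  haveI : F'.Normal := ⟨fun n hn h => by
    rw [hF', Subgroup.mem_subgroupOf] at hn ⊢
    have := hconjF (E.inv_mem (hmA.1 h.2).1) hn
    rw [inv_inv] at this
    simpa using this⟩
  let T := A ⧸ F'
  have hsq : ∀ q : T, q * q = 1 := by
    intro q
    obtain ⟨h, rfl⟩ := QuotientGroup.mk_surjective q
    rw [← QuotientGroup.mk_mul, QuotientGroup.eq_one_iff, hF', Subgroup.mem_subgroupOf, Subgroup.coe_mul]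
    rcases D.sq (hmA.1 h.2).1 with e | e <;> rw [e]
    · exact F.one_mem
    · exact hzF
  have hmemF' : ∀ y : A, y ∈ F' ↔ ((y : A) : G) ∈ F := fun y => Subgroup.mem_subgroupOf
  set φz := phi K g z with hφz
  let ψ : T → ZMod 2 := fun q => phi K g (cm t ((q.out : A) : G))
  have hcmφ : ∀ {x y}, x ∈ A → y ∈ A →
      phi K g (cm t (x * y)) = phi K g (cm t x) + phi K g (cm t y) + om y (cm t x) * φz := by
    intro x y hx hy
    rw [D.cm_mul, hmul (hmF.1 (hconjF (hmA.1 hy).1 (hmA.1 hx).2)).2 (hmF.1 (hmA.1 hy).2).2,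
      hφconj (hmA.1 hy).1 (hmA.1 hx).2]
    ring
  have hψ : ∀ h : A, ψ (h : T) = phi K g (cm t (h : G)) := by
    intro h
    obtain ⟨⟨p, hp⟩, e⟩ := QuotientGroup.mk_out_eq_mul F' h
    show phi K g (cm t (((h : T).out : A) : G)) = _
    rw [e, Subgroup.coe_mul]
    have hpF : ((p : A) : G) ∈ F := Subgroup.mem_subgroupOf.1 hp
    rw [hcmφ h.2 p.2, D.phi_cm hi (s := t) (x := ((p : A) : G)) (by rw [hgu]; exact hut.symm)
        (by rw [hgu]; exact (hmF.1 hpF).2),
      add_zero]
    have : om (p : G) (cm t (h : G)) * φz = 0 := by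
      by_cases hc : (p : G) * cm t (h : G) = cm t (h : G) * p
      · rw [om_eq_zero.2 hc, zero_mul]
      · have hc1 : Commute ((p : A) : G) u := (hmF.1 hpF).2
        have hc2 : Commute (cm t (h : G)) u := (hmF.1 (hmA.1 h.2).2).2
        have e' := D.swap (hmA.1 h.2).2.1 hpF.1 hc
        have hz' : z = (p : G) * cm t (h : G) * ((p : A) : G)⁻¹ * (cm t (h : G))⁻¹ := by rw [e']; group
        have : φz = 0 := by
          rw [hφz, hz', hmul ((hc1.mul_left hc2).mul_left hc1.inv_left).eq hc2.inv_left.eq,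
            hmul (hc1.mul_left hc2).eq hc1.inv_left.eq, hmul hc1.eq hc2.eq, phi_inv, phi_inv]
          linear_combination (phi K g (p : G) + phi K g (cm t (h : G))) * z2
        rw [this, mul_zero]
    rw [this, add_zero]
  have hψmul : ∀ x y : A, ψ ((x : T) * (y : T)) + ψ (x : T) + ψ (y : T) = om (y : G) (cm t (x : G)) * φz := by
    intro x y
    rw [← QuotientGroup.mk_mul, hψ, hψ, hψ, Subgroup.coe_mul, hcmφ x.2 y.2]
    linear_combination (phi K g (cm t (x : G)) + phi K g (cm t (y : G))) * z2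
  -- the fibre is in bijection with the zeros of `ψ`
  have hin : ∀ {h}, h ∈ E → (h * u * h⁻¹ ∈ S ↔ h ∈ A ∧ phi K g (cm t h) = 0) := by
    intro h hh
    have e1 : h⁻¹ * t * h = cm t h * t := by simp only [cm]; group
    have hcm : h * u * h⁻¹ * t = t * (h * u * h⁻¹) ↔ cm t h * u = u * cm t h := by
      have : u * (h⁻¹ * t * h) = (h⁻¹ * t * h) * u ↔ u * cm t h = cm t h * u := by
        rw [e1, mul_assoc _ t, ← hut, ← mul_assoc u, ← mul_assoc _ u, mul_left_inj]
      constructor
      · intro h'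
        refine (this.1 ?_).symm
        calc u * (h⁻¹ * t * h) = h⁻¹ * (h * u * h⁻¹ * t) * h := by group
          _ = _ := by rw [h']; group
      · intro h'
        calc h * u * h⁻¹ * t = h * (u * (h⁻¹ * t * h)) * h⁻¹ := by group
          _ = _ := by rw [this.2 h'.symm]; group
    have hval : cm t h * u = u * cm t h → ((h * g)⁻¹ * t * (h * g) ∉ K ↔ phi K g (cm t h) = 0) := by
      intro hc
      rw [show (h * g)⁻¹ * t * (h * g) = g⁻¹ * (h⁻¹ * t * h) * g by group, e1,
        ← phi_eq_zero (K := K) (g := g) (x := cm t h * t), hmul hc hut.symm, hφt]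
      generalize phi K g (cm t h) = b
      rcases zmod_two_cases b with rfl | rfl <;> simp_all [show (1 : ZMod 2) + 1 = 0 from rfl]
    constructor
    · intro hS'
      obtain ⟨g', hg', -, hc, hK'⟩ := (Finset.mem_filter.1 hS').2
      have hc' := hcm.1 hc
      refine ⟨⟨hh, hmF.2 ⟨D.cm_mem ht hh, hc'⟩⟩, (hval hc').1 fun h' => hK' ?_⟩
      rw [← phi_eq_zero] at h' ⊢
      rw [D.phi_indep hi (g := h * g) (g' := g') (x := t) ?_ ?_, h']
      · rw [hg', ← hgu]; group
      · rw [show h * g * z * (h * g)⁻¹ = h * u * h⁻¹ by rw [← hgu]; group]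
        exact hc.symm
    · rintro ⟨hA, hv⟩
      have hc' := (hmF.1 hA.2).2
      have hhz : Commute h z := D.comm hh
      exact Finset.mem_filter.2 ⟨Finset.mem_univ _, ⟨h * g, by rw [← hgu]; group,
        ((hhz.mul_left huz).mul_left hhz.inv_left).eq, hcm.2 hc', (hval hc').2 hv⟩⟩
  have hcard : ((S.erase z).filter fun x => key x = key u).card = Nat.card {q : T // ψ q = 0} := by
    rw [← Nat.card_eq_finsetCard]
    symm
    refine Nat.card_eq_of_bijective (fun q => ⟨(q.1.out : A) * u * ((q.1.out : A) : G)⁻¹, ?_⟩) ⟨?_, ?_⟩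
    · have hq : phi K g (cm t ((q.1.out : A) : G)) = 0 := q.2
      refine Finset.mem_filter.2 ⟨Finset.mem_erase.2 ⟨fun e => huz' ?_, (hin (hmA.1 q.1.out.2).1).2 ⟨q.1.out.2, hq⟩⟩,
        hkey ⟨_, (hmA.1 q.1.out.2).1, rfl⟩⟩
      set h := ((q.1.out : A) : G)
      calc u = h⁻¹ * (h * u * h⁻¹) * h := by group
        _ = h⁻¹ * (z * h) := by rw [e]; group
        _ = z := by rw [← D.comm (hmA.1 q.1.out.2).1, inv_mul_cancel_left]
    · intro q q' he
      have he' : ((q.1.out : A) : G) * u * ((q.1.out : A) : G)⁻¹ =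
          ((q'.1.out : A) : G) * u * ((q'.1.out : A) : G)⁻¹ := congrArg Subtype.val he
      refine Subtype.ext ?_
      rw [← QuotientGroup.out_eq' q.1, ← QuotientGroup.out_eq' q'.1, QuotientGroup.eq, hmemF', Subgroup.coe_mul, Subgroup.coe_inv]
      refine hmF.2 ⟨E.mul_mem (E.inv_mem (hmA.1 q.1.out.2).1) (hmA.1 q'.1.out.2).1, ?_⟩
      calc ((q.1.out : A) : G)⁻¹ * ((q'.1.out : A) : G) * u
          = ((q.1.out : A) : G)⁻¹ * (((q'.1.out : A) : G) * u * ((q'.1.out : A) : G)⁻¹) *
            ((q'.1.out : A) : G) := by group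
        _ = _ := by rw [← he']; group
    · rintro ⟨x, hx⟩
      obtain ⟨hx1, hx2⟩ := Finset.mem_filter.1 hx
      obtain ⟨h, hh, rfl⟩ : x ∈ key u := hx2 ▸ hself x
      obtain ⟨hA, hv⟩ := (hin hh).1 (Finset.mem_of_mem_erase hx1)
      refine ⟨⟨((⟨h, hA⟩ : A) : T), (hψ _).trans hv⟩, Subtype.ext ?_⟩
      obtain ⟨⟨p, hp⟩, e⟩ := QuotientGroup.mk_out_eq_mul F' (⟨h, hA⟩ : A)
      show (((⟨h, hA⟩ : A) : T).out : G) * u * (((⟨h, hA⟩ : A) : T).out : G)⁻¹ = _
      rw [e, Subgroup.coe_mul]
      have hpu : (p : G) * u = u * p := (hmF.1 (Subgroup.mem_subgroupOf.1 hp)).2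
      calc h * (p : G) * u * (h * (p : G))⁻¹ = h * ((p : G) * u) * (p : G)⁻¹ * h⁻¹ := by group
        _ = _ := by rw [hpu]; group
  rw [hcard]
  have hadd : ∀ q q' r, ψ (q * q' * r) + ψ (q * q') + ψ r =
      (ψ (q * r) + ψ q + ψ r) + (ψ (q' * r) + ψ q' + ψ r) := by
    intro q q' r
    obtain ⟨x, rfl⟩ := QuotientGroup.mk_surjective q
    obtain ⟨x', rfl⟩ := QuotientGroup.mk_surjective q'
    obtain ⟨y, rfl⟩ := QuotientGroup.mk_surjective r
    rw [← QuotientGroup.mk_mul F' x x', hψmul, hψmul, hψmul, Subgroup.coe_mul, ← add_mul,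
      om_comm, D.om_cm_mul ht (hmA.1 x.2).1 (hmA.1 x'.2).1 (hmA.1 y.2).1, om_comm (cm t (x : G)),
      om_comm (cm t (x' : G))]
  have hone : ∀ {h} (hh : h ∈ A), ((⟨h, hh⟩ : A) : T) = 1 ↔ h ∈ F := fun {h} hh =>
    (QuotientGroup.eq_one_iff _).trans Subgroup.mem_subgroupOf
  have hTp : IsPGroup 2 T := fun q => ⟨1, by rw [pow_one, pow_two, hsq q]⟩
  obtain ⟨k, hk⟩ := hTp.exists_card_eq
  by_cases hφz0 : φz = 0
  · -- `ψ` is a homomorphism
    have hhom : ∀ q r, ψ (q * r) + ψ q + ψ r = 0 := by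
      intro q r
      obtain ⟨x, rfl⟩ := QuotientGroup.mk_surjective q
      obtain ⟨y, rfl⟩ := QuotientGroup.mk_surjective r
      rw [hψmul, hφz0, mul_zero]
    by_cases h4 : 4 ≤ Nat.card T
    · haveI : Nontrivial T := Finite.one_lt_card_iff_nontrivial.1 (by omega)
      obtain ⟨f, hf⟩ := exists_ne (1 : T)
      exact even_zero_card hsq ψ hadd (Or.inr ⟨h4, f, hf, fun q => hhom q f⟩)
    -- otherwise `T` has order 2 and `ψ = 0`
    have hAF : ∃ h ∈ A, h ∉ F := by
      by_contra! hcon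
      have hiter : ∀ j, ∀ x ∈ E, cm (t ^ 2 ^ j) x ∈ F → x ∈ F := by
        intro j
        induction j with
        | zero =>
          intro x hx h
          rw [pow_zero, pow_one] at h
          exact hcon x ⟨hx, h⟩
        | succ j ih =>
          intro x hx h
          set s := t ^ 2 ^ j with hs
          have hsH : s ∈ H := H.pow_mem ht _
          have e : t ^ 2 ^ (j + 1) = s * s := by rw [hs, ← pow_add, pow_succ]; ring_nf
          rw [e] at h
          have hc := D.cm_mem hsH hx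
          refine ih x hx (ih _ hc ?_)
          rcases D.eqv_of_om (D.cm_mem hsH hc) (D.cm_mem (H.mul_mem hsH hsH) hx)
            (fun w hw => D.om_cm_cm hsH hx hw) with e' | e' <;> rw [e']
          · exact h
          · exact F.mul_mem h hzF
      have hE : E ≤ F := fun x hx => hiter a x hx (by rw [hta]; simp [cm])
      have hc : u ∈ Subgroup.centralizer (E : Set G) :=
        Subgroup.mem_centralizer_iff.2 fun x hx => (hmF.1 (hE hx)).2
      rcases D.central_eq_or (D.cent hc) (fun y hy => ((hmF.1 (hE hy)).2).symm) with h | h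
      · refine D.z_ne ?_
        calc z = g⁻¹ * u * g := by rw [← hgu]; group
          _ = 1 := by rw [h]; group
      · exact huz' h
    obtain ⟨h₀, hh₀, hh₀F⟩ := hAF
    have hT2 : Nat.card T = 2 := by
      have h1 : 1 < Nat.card T := by
        haveI : Nontrivial T := ⟨⟨((⟨h₀, hh₀⟩ : A) : T), 1, fun e => hh₀F ((hone hh₀).1 e)⟩⟩
        exact Finite.one_lt_card
      rcases k with _ | _ | k
      · rw [hk, pow_zero] at h1; omega
      · exact hk
      · exfalso
        have : 4 ≤ 2 ^ (k + 2) := le_of_eq_of_le (by norm_num) (Nat.pow_le_pow_right two_pos (by omega : 2 ≤ k + 2))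
        omega
    have htwo : ∀ {h}, h ∈ A → h ∉ F → ∀ {h'}, h' ∈ A → h' ∉ F → h⁻¹ * h' ∈ F := by
      intro h hh hhF h' hh' hh'F
      obtain ⟨q₁, -, huniq⟩ := (Nat.card_eq_two_iff' (1 : T)).1 hT2
      have e1 := huniq ((⟨h, hh⟩ : A) : T) (fun e => hhF ((hone hh).1 e))
      have e2 := huniq ((⟨h', hh'⟩ : A) : T) (fun e => hh'F ((hone hh').1 e))
      exact (QuotientGroup.eq.1 (e1.trans e2.symm) :)
    by_cases hbadψ : ∀ q, ψ q = 0
    · rw [Nat.card_congr (Equiv.subtypeUnivEquiv hbadψ), hT2]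
      exact even_two
    exfalso
    push Not at hbadψ
    obtain ⟨q₀, hq₀⟩ := hbadψ
    have hψ1 : ∀ {h}, h ∈ A → h ∉ F → phi K g (cm t h) = 1 := by
      intro h hh hhF
      obtain ⟨q₁, -, huniq⟩ := (Nat.card_eq_two_iff' (1 : T)).1 hT2
      have hq₀1 : q₀ ≠ 1 := by
        rintro rfl
        apply hq₀
        have := hψ (1 : A)
        rw [QuotientGroup.mk_one] at this
        rw [this]
        simp [cm, phi_one]
      have e : ψ ((⟨h, hh⟩ : A) : T) = ψ q₀ :=
        congrArg ψ ((huniq _ (fun e => hhF ((hone hh).1 e))).trans (huniq _ hq₀1).symm)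
      rw [hψ] at e
      rw [e]
      revert hq₀
      generalize ψ q₀ = b
      rcases zmod_two_cases b with rfl | rfl <;> simp_all [show (1 : ZMod 2) + 1 = 0 from rfl]
    -- `E ≠ A`
    obtain ⟨x, hx, hxA⟩ : ∃ x ∈ E, x ∉ A := by
      by_contra! hcon
      have huE : u ∉ E := fun hin' => hq₀ (hEin g (hgu ▸ hin') (hgu ▸ huz') _
        (D.cm_mem ht (hmA.1 q₀.out.2).1) (by rw [hgu]; exact (hmF.1 (hmA.1 q₀.out.2).2).2))
      refine D.not_index_two huH huu huE (f := h₀) (hmA.1 hh₀).1
        (fun e => hh₀F (hmF.2 ⟨(hmA.1 hh₀).1, e⟩)) fun w hw hwu => ?_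
      exact (hmF.1 (htwo hh₀ hh₀F (hcon w hw) (fun hwF => hwu (hmF.1 hwF).2))).2
    set f := cm t x with hf
    have hfE : f ∈ E := D.cm_mem ht hx
    have hfF : f ∉ F := fun h => hxA ⟨hx, h⟩
    have hts : t * t ∈ H := H.mul_mem ht ht
    have hsing : ∀ c, c ∈ F → 2 ≤ a → c * c = 1 → phi K g c = 0 := fun c hc ha hcc =>
      hsmall c (hmF.1 hc).2 1 (by omega) (by rw [pow_one, pow_two, hcc])
    have hcentral : ∀ c, (c = 1 ∨ c = z) → c ∈ F ∧ phi K g c = 0 := by
      rintro c (rfl | rfl)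
      · exact ⟨F.one_mem, phi_one g⟩
      · exact ⟨hzF, hφz0⟩
    rcases Nat.lt_trichotomy a 2 with ha | ha | ha
    · have ha1 : a = 1 := by omega
      have ht2 : t * t = 1 := by
        have := hta
        rw [ha1, pow_one, pow_two] at this
        exact this
      obtain ⟨hF1, hp1⟩ := hcentral _ (D.cm_cm_of_involution ht ht2 hx)
      have := hψ1 (h := f) ⟨hfE, hF1⟩ hfF
      rw [hp1] at this
      exact zero_ne_one this
    · have ht4 : t * t * (t * t) = 1 := by
        rw [← hta, ha, show (2 : ℕ) ^ 2 = 4 from rfl, pow_succ, pow_succ, pow_succ, pow_one]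
        simp only [mul_assoc]
      have hs : ∀ w ∈ E, cm (t * t) w ∈ F := by
        intro w hw
        by_contra hyF
        set y := cm (t * t) w with hy
        have hyE : y ∈ E := D.cm_mem hts hw
        by_cases hy1 : cm t y ∈ F
        · have h1 := hψ1 (h := y) ⟨hyE, hy1⟩ hyF
          rw [hsing _ hy1 (by omega) (D.sq_cm_cm_eq_one ht ht4 hw)] at h1
          exact zero_ne_one h1
        · have hy'E : cm t y ∈ E := D.cm_mem ht hyE
          obtain ⟨hF1, hp1⟩ := hcentral _ (D.central_of_om (D.cm_mem ht hy'E) fun v hv => by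
            rw [D.om_cm_cm ht hyE hv]
            rcases D.cm_cm_of_involution hts ht4 hw with e | e <;> rw [hy, e]
            · exact om_one_left v
            · exact D.om_z hv)
          have h1 := hψ1 (h := cm t y) ⟨hy'E, hF1⟩ hy1
          rw [hp1] at h1
          exact zero_ne_one h1
      have hfA : f ∈ A := by
        refine ⟨hfE, ?_⟩
        rcases D.eqv_of_om (D.cm_mem ht hfE) (D.cm_mem hts hx)
          (fun w hw => D.om_cm_cm ht hx hw) with e | e <;> rw [e]
        · exact hs x hx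
        · exact F.mul_mem (hs x hx) hzF
      refine hnot ⟨ha, g, u, hgu, huz, hut, huz', hφz0, x, hx, fun e => hfF (hmF.2 ⟨hfE, e⟩),
        (hmF.1 hfA.2).2, hψ1 hfA hfF, fun w hw => (hmF.1 (hs w hw)).2, fun w hw hwc' => ?_⟩
      by_cases hwF : w ∈ F
      · exact Or.inl (hmF.1 hwF).2
      · exact Or.inr (hmF.1 (htwo hfA hfF ⟨hw, hmF.2 ⟨D.cm_mem ht hw, hwc'⟩⟩ hwF)).2
    · have h1 := hψ1 hh₀ hh₀F
      have h4' : cm t h₀ ^ 2 ^ 2 = 1 := by
        rw [show (2 : ℕ) ^ 2 = 2 * 2 from rfl, pow_mul, pow_two (cm t h₀)]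
        rcases D.sq (D.cm_mem ht (hmA.1 hh₀).1) with e | e <;> rw [e]
        · exact one_pow 2
        · rw [pow_two, D.zz]
      rw [hsmall _ (hmF.1 (hmA.1 hh₀).2).2 2 ha h4'] at h1
      exact zero_ne_one h1
  · -- `t` is an involution and `F` is abelian
    have ha1 : a = 1 := by
      by_contra hne
      exact hφz0 (hsmall z huz.symm 1 (by omega) (by rw [pow_one, pow_two, D.zz]))
    have ht2 : t * t = 1 := by
      have := hta
      rw [ha1, pow_one, pow_two] at this
      exact this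
    have hab : ∀ p ∈ F, ∀ r ∈ F, p * r = r * p := by
      intro p hp r hr
      by_contra hc
      refine hφz0 ?_
      have hz' : z = p * r * p⁻¹ * r⁻¹ := by rw [D.swap hr.1 hp.1 hc]; group
      have hc1 : Commute p u := (hmF.1 hp).2
      have hc2 : Commute r u := (hmF.1 hr).2
      rw [hφz, hz', hmul ((hc1.mul_left hc2).mul_left hc1.inv_left).eq hc2.inv_left.eq,
        hmul (hc1.mul_left hc2).eq hc1.inv_left.eq, hmul hc1.eq hc2.eq, phi_inv, phi_inv]
      linear_combination (phi K g p + phi K g r) * z2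
    have hF2 := D.sq_le_of_comm hzF inf_le_left hab
    -- `[E : A] ≤ [A : F]`
    set FE := F.subgroupOf E with hFE
    haveI : FE.Normal := ⟨fun n hn h => by
      rw [hFE, Subgroup.mem_subgroupOf] at hn ⊢
      have := hconjF (E.inv_mem h.2) hn
      rw [inv_inv] at this
      simpa using this⟩
    let ζ : E →* E ⧸ FE := MonoidHom.mk' (fun x => ((⟨cm t x, D.cm_mem ht x.2⟩ : E) : E ⧸ FE)) fun x y => by
      rw [← QuotientGroup.mk_mul, QuotientGroup.eq, hFE, Subgroup.mem_subgroupOf]
      show (cm t ((x : G) * y))⁻¹ * (cm t (x : G) * cm t (y : G)) ∈ F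
      rw [D.cm_mul]
      set c := cm t (x : G)
      have hcE : c ∈ E := D.cm_mem ht x.2
      have hyE : (y : G) ∈ E := y.2
      by_cases hc : c * (y : G) = (y : G) * c
      · rw [mul_assoc ((y : G)⁻¹) c, hc, inv_mul_cancel_left, inv_mul_cancel]
        exact F.one_mem
      · have e : (y : G)⁻¹ * c * (y : G) = z * c := by
          rw [mul_assoc, D.swap hyE hcE hc, ← mul_assoc, ← mul_assoc,
            ((show Commute (y : G) z from D.comm hyE).inv_left).eq, mul_assoc z ((y : G)⁻¹),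
            inv_mul_cancel, mul_one]
        have hcy : c * cm t (y : G) ∈ E := E.mul_mem hcE (D.cm_mem ht y.2)
        rw [e, mul_assoc z c, mul_inv_rev, D.zinv, mul_assoc, ← D.comm hcy, inv_mul_cancel_left]
        exact hzF
    have hker : Nat.card ζ.ker = Nat.card A := Nat.card_congr
      { toFun := fun x => ⟨((x : E) : G), (x : E).2, Subgroup.mem_subgroupOf.1
          ((QuotientGroup.eq_one_iff _).1 (MonoidHom.mem_ker.1 x.2))⟩
        invFun := fun x => ⟨⟨x, x.2.1⟩, MonoidHom.mem_ker.2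
          ((QuotientGroup.eq_one_iff _).2 (Subgroup.mem_subgroupOf.2 x.2.2))⟩
        left_inv := fun x => rfl
        right_inv := fun x => rfl }
    have hran : Nat.card ζ.range ≤ Nat.card T := by
      refine Nat.card_le_card_of_surjective
        (fun q : T => if hq : (((⟨((q.out : A) : G), (hmA.1 q.out.2).1⟩ : E) : E ⧸ FE)) ∈ ζ.range
          then (⟨_, hq⟩ : ζ.range) else 1) ?_
      rintro ⟨_, x, rfl⟩
      have hfA : cm t (x : G) ∈ A := by
        refine ⟨D.cm_mem ht x.2, ?_⟩
        rcases D.cm_cm_of_involution ht ht2 x.2 with e | e <;> rw [e]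
        · exact F.one_mem
        · exact hzF
      refine ⟨((⟨_, hfA⟩ : A) : T), ?_⟩
      have e : (((⟨((((⟨_, hfA⟩ : A) : T).out : A) : G), (hmA.1 (((⟨_, hfA⟩ : A) : T).out : A).2).1⟩ : E) : E ⧸ FE)) =
          ζ x := by
        obtain ⟨⟨p, hp⟩, e⟩ := QuotientGroup.mk_out_eq_mul F' (⟨_, hfA⟩ : A)
        refine QuotientGroup.eq.2 (Subgroup.mem_subgroupOf.2 ?_)
        show ((((⟨_, hfA⟩ : A) : T).out : A) : G)⁻¹ * cm t (x : G) ∈ F
        rw [e, Subgroup.coe_mul]
        simpa [mul_assoc] using F.inv_mem (Subgroup.mem_subgroupOf.1 hp)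
      simp only [e]
      rw [dif_pos ⟨x, rfl⟩]
    have hEeq : Nat.card E = Nat.card A * Nat.card ζ.range := by
      rw [← hker, ← Subgroup.index_ker, mul_comm, Subgroup.index_mul_card]
    have hAeq : Nat.card A = Nat.card T * Nat.card F := by
      rw [← Nat.card_congr (Subgroup.subgroupOfEquivOfLe (H := F) (K := A) fun p hp => hFA hp).toEquiv]
      exact Subgroup.card_eq_card_quotient_mul_card_subgroup F'
    have hEF : Nat.card E ≤ Nat.card T * Nat.card T * Nat.card F := by
      rw [hEeq, hAeq]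
      calc Nat.card T * Nat.card F * Nat.card ζ.range ≤ Nat.card T * Nat.card F * Nat.card T :=
            Nat.mul_le_mul_left _ hran
        _ = _ := by ring
    obtain ⟨m, hm⟩ : Nat.card F ∣ Nat.card E := Subgroup.card_dvd_of_le inf_le_left
    have hFpos : 0 < Nat.card F := Nat.card_pos
    have hFm : Nat.card F ≤ 2 * m := by
      refine Nat.le_of_mul_le_mul_left ?_ hFpos
      calc Nat.card F * Nat.card F ≤ 2 * (Nat.card F * m) := hm ▸ hF2
        _ = _ := by ring
    have hm8 : 8 ≤ m := by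
      by_contra hlt
      have := h128 ha1
      have : Nat.card F * m ≤ 2 * 7 * 7 := Nat.mul_le_mul (by omega) (by omega)
      omega
    have hT4 : 4 ≤ Nat.card T := by
      have h1 : m ≤ Nat.card T * Nat.card T := by
        refine Nat.le_of_mul_le_mul_left ?_ hFpos
        calc Nat.card F * m ≤ Nat.card T * Nat.card T * Nat.card F := hm ▸ hEF
          _ = _ := by ring
      rcases k with _ | _ | k
      · rw [hk] at h1; norm_num at h1; omega
      · rw [hk] at h1; norm_num at h1; omega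
      · rw [hk]
        exact le_of_eq_of_le (by norm_num) (Nat.pow_le_pow_right two_pos (by omega : 2 ≤ k + 2))
    refine even_zero_card hsq ψ hadd ?_
    by_cases hEA : E ≤ A
    · refine Or.inl ?_
      have : Nat.card E ≤ Nat.card T * Nat.card F := hAeq ▸ Subgroup.card_le_of_le hEA
      rw [hm, mul_comm (Nat.card T)] at this
      exact hm8.trans (Nat.le_of_mul_le_mul_left this hFpos)
    · obtain ⟨x, hx, hxA⟩ := SetLike.not_le_iff_exists.1 hEA
      have hcE := D.cm_mem ht hx
      have hc1 := D.cm_cm_of_involution ht ht2 hx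
      have hfA : cm t x ∈ A := ⟨hcE, by
        rcases hc1 with e | e <;> rw [e]
        · exact F.one_mem
        · exact hzF⟩
      refine Or.inr ⟨hT4, ((⟨_, hfA⟩ : A) : T), fun e => hxA ⟨hx, (hone hfA).1 e⟩, fun q => ?_⟩
      obtain ⟨y, rfl⟩ := QuotientGroup.mk_surjective q
      have hT' : ((y : T) * ((⟨_, hfA⟩ : A) : T)) = ((⟨_, hfA⟩ : A) : T) * (y : T) := by
        rw [← inv_eq_of_mul_eq_one_right (hsq ((y : T) * ((⟨_, hfA⟩ : A) : T))), mul_inv_rev,
          inv_eq_of_mul_eq_one_right (hsq (y : T)),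
          inv_eq_of_mul_eq_one_right (hsq ((⟨_, hfA⟩ : A) : T))]
      rw [hT', add_right_comm, hψmul]
      show om (y : G) (cm t (cm t x)) * φz = 0
      rcases hc1 with e | e <;> rw [e, om_comm]
      · rw [om_one_left, zero_mul]
      · rw [D.om_z (hmA.1 y.2).1, zero_mul]

/-- No remaining data when `t` squares to a conjugate of `z` and lies in the corresponding `E`. -/
theorem bad_false (hi : (K.subgroupOf (Subgroup.centralizer ({z} : Set G))).index = 2)
    (h32 : 32 ≤ Nat.card E)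
    (hmin : ∀ x ∈ Subgroup.centralizer ({z} : Set G), ∀ j < 2, x ^ 2 ^ j = 1 → x ∈ K) {t : G}
    (ht : t ∈ Subgroup.centralizer ({z} : Set G)) {g₀ : G} (hv : t * t = g₀ * z * g₀⁻¹)
    (hv' : g₀ * z * g₀⁻¹ ≠ z) (ht₀ : g₀⁻¹ * t * g₀ ∈ E) {g u : G} (hgu : g * z * g⁻¹ = u)
    (huz : u * z = z * u) (hut : u * t = t * u) (hφz : phi K g z = 0) {x : G} (hx : x ∈ E)
    (hfu : ¬ cm t x * u = u * cm t x) (hdu : cm t (cm t x) * u = u * cm t (cm t x))
    (hbad : phi K g (cm t (cm t x)) = 1) (hs : ∀ w ∈ E, cm (t * t) w * u = u * cm (t * t) w)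
    (htwo : ∀ w ∈ E, cm t w * u = u * cm t w → w * u = u * w ∨
      (cm t x)⁻¹ * w * u = u * ((cm t x)⁻¹ * w)) : False := by
  classical
  set H := Subgroup.centralizer ({z} : Set G) with hH
  set s := t * t with hsdef
  have hsH : s ∈ H := H.mul_mem ht ht
  have hss : s * s = 1 := by
    rw [hv, show g₀ * z * g₀⁻¹ * (g₀ * z * g₀⁻¹) = g₀ * (z * z) * g₀⁻¹ by group, D.zz]; group
  have hmul : ∀ {x y}, x * u = u * x → y * u = u * y → phi K g (x * y) = phi K g x + phi K g y :=
    fun {x y} hx hy => D.phi_mul hi (by rw [hgu]; exact hx) (by rw [hgu]; exact hy)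
  have htu : Commute t u := hut.symm
  have hsu : Commute s u := htu.mul_left htu
  have hφcm : ∀ {c w}, c * u = u * c → w * u = u * w → phi K g (cm c w) = 0 := fun {c w} hc hw =>
    D.phi_cm hi (by rw [hgu]; exact hc) (by rw [hgu]; exact hw)
  set F := E ⊓ Subgroup.centralizer ({u} : Set G) with hF
  have hmF : ∀ {w}, w ∈ F ↔ w ∈ E ∧ w * u = u * w := fun {w} =>
    ⟨fun h => ⟨h.1, Subgroup.mem_centralizer_singleton_iff.1 h.2⟩,
      fun h => ⟨h.1, Subgroup.mem_centralizer_singleton_iff.2 h.2⟩⟩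
  have hzF : z ∈ F := hmF.2 ⟨D.mem, huz.symm⟩
  set f := cm t x with hfdef
  have hfE : f ∈ E := D.cm_mem ht hx
  set d := cm s x with hd
  have hdE : d ∈ E := D.cm_mem hsH hx
  have hdF : d ∈ F := hmF.2 ⟨hdE, hs x hx⟩
  have hdd' : cm t f = d ∨ cm t f = d * z :=
    D.eqv_of_om (D.cm_mem ht hfE) hdE fun w hw => D.om_cm_cm ht hx hw
  have hφd : phi K g d = 1 := by
    rcases hdd' with e | e
    · rw [← e]; exact hbad
    · rw [e, hmul (hmF.1 hdF).2 (hmF.1 hzF).2, hφz, add_zero] at hbad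
      exact hbad
  have hsing : ∀ p ∈ F, p * p = 1 → phi K g p = 0 := by
    intro p hp hpp
    refine phi_eq_zero.2 (hmin _ ?_ 1 one_lt_two ?_)
    · have hp' := (hmF.1 hp).2
      rw [← hgu] at hp'
      rw [Subgroup.mem_centralizer_singleton_iff]
      calc g⁻¹ * p * g * z = g⁻¹ * (p * (g * z * g⁻¹)) * g := by group
        _ = _ := by rw [hp']; group
    · rw [pow_one, pow_two, show g⁻¹ * p * g * (g⁻¹ * p * g) = g⁻¹ * (p * p) * g by group, hpp]; group
  have hd2 : d * d = z := (D.sq hdE).resolve_left fun h => by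
    rw [hsing d hdF h] at hφd; exact zero_ne_one hφd
  -- the kernel `P`
  let P : Subgroup G :=
    { carrier := {p | p ∈ F ∧ phi K g p = 0}
      one_mem' := ⟨F.one_mem, phi_one g⟩
      mul_mem' := fun {p q} hp hq => ⟨F.mul_mem hp.1 hq.1, by
        rw [hmul (hmF.1 hp.1).2 (hmF.1 hq.1).2, hp.2, hq.2, add_zero]⟩
      inv_mem' := fun {p} hp => ⟨F.inv_mem hp.1, by rw [phi_inv, hp.2]⟩ }
  have hmP : ∀ {p}, p ∈ P ↔ p ∈ F ∧ phi K g p = 0 := Iff.rfl
  have hzP : z ∈ P := ⟨hzF, hφz⟩
  have hPE : P ≤ E := fun p hp => hp.1.1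
  have hsqP : ∀ q ∈ P, (q * q = 1 ↔ d * q = q * d) := by
    intro q hq
    have hdq : d * q * (d * q) = z := (D.sq (E.mul_mem hdE hq.1.1)).resolve_left fun h => by
      have := hsing _ (F.mul_mem hdF hq.1) h
      rw [hmul (hmF.1 hdF).2 (hmF.1 hq.1).2, hφd, hq.2] at this
      simp at this
    by_cases hc : d * q = q * d
    · refine iff_of_true ?_ hc
      rw [show d * q * (d * q) = d * (q * d) * q by group, ← hc,
        show d * (d * q) * q = d * d * (q * q) by group, hd2] at hdq
      exact mul_eq_left.1 hdq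
    · refine iff_of_false (fun h => hc ?_) hc
      rw [show d * q * (d * q) = d * (q * d) * q by group, D.swap hdE hq.1.1 (Ne.symm hc)] at hdq
      exfalso
      apply D.z_ne
      calc z = d * (z * (d * q)) * q := hdq.symm
        _ = d * z * d * (q * q) := by group
        _ = z * (d * d) := by rw [h, D.comm hdE]; group
        _ = 1 := by rw [hd2, D.zz]
  have hPab : ∀ q ∈ P, ∀ r ∈ P, q * r = r * q := by
    intro q hq r hr
    by_contra hc
    have hqE := hPE hq
    have hrE := hPE hr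
    have hqr : q * r * (q * r) = z * (q * q * (r * r)) := by
      calc q * r * (q * r) = q * (r * q) * r := by group
        _ = q * (z * (q * r)) * r := by rw [D.swap hqE hrE (Ne.symm hc)]
        _ = _ := by rw [← mul_assoc q z, D.comm hqE]; group
    have hlin := D.om_mul_right hqE hrE hdE
    have h0 : ∀ {p}, p ∈ P → (om d p = 0 ↔ p * p = 1) := fun {p} hp =>
      om_eq_zero.trans (hsqP p hp).symm
    have h1 : ∀ {p}, p ∈ P → (om d p = 1 ↔ p * p = z) := by
      intro p hp
      constructor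
      · intro h
        refine (D.sq (hPE hp)).resolve_left fun h' => ?_
        rw [(h0 hp).2 h'] at h; exact zero_ne_one h
      · intro h
        refine om_ne_zero fun h' => D.z_ne ?_
        rw [← h]; exact (hsqP p hp).2 h'
    have hor : ∀ {p : G}, om d p = 0 ∨ om d p = 1 := fun {p} => by
      exact zmod_two_cases _
    rcases hor (p := q) with a1 | a1 <;> rcases hor (p := r) with a2 | a2 <;>
      rw [a1, a2] at hlin
    · rw [(h0 hq).1 a1, (h0 hr).1 a2, (h0 (P.mul_mem hq hr)).1 (by simpa using hlin)] at hqr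
      exact D.z_ne (by simpa using hqr.symm)
    · rw [(h0 hq).1 a1, (h1 hr).1 a2, (h1 (P.mul_mem hq hr)).1 (by simpa using hlin), one_mul, D.zz] at hqr
      exact D.z_ne hqr
    · rw [(h1 hq).1 a1, (h0 hr).1 a2, (h1 (P.mul_mem hq hr)).1 (by simpa using hlin), mul_one, D.zz] at hqr
      exact D.z_ne hqr
    · rw [(h1 hq).1 a1, (h1 hr).1 a2,
        (h0 (P.mul_mem hq hr)).1 (by rw [hlin]; decide), D.zz, mul_one] at hqr
      exact D.z_ne hqr.symm
  have hFP : ∀ p ∈ F, p ∈ P ∨ ∃ q ∈ P, p = d * q := by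
    intro p hp
    by_cases h : phi K g p = 0
    · exact Or.inl ⟨hp, h⟩
    · refine Or.inr ⟨d⁻¹ * p, ⟨F.mul_mem (F.inv_mem hdF) hp, ?_⟩, (mul_inv_cancel_left d p).symm⟩
      rw [hmul (hmF.1 (F.inv_mem hdF)).2 (hmF.1 hp).2, phi_inv, hφd]
      revert h
      generalize phi K g p = b
      rcases zmod_two_cases b with rfl | rfl <;> simp_all [show (1 : ZMod 2) + 1 = 0 from rfl]
  have hEF : ∀ e ∈ E, ∃ p ∈ F, e = p ∨ e = f * p ∨ e = x * p ∨ e = x * f * p := by
    intro e he
    have hin : ∀ {w}, w ∈ E → cm t w * u = u * cm t w → ∃ p ∈ F, w = p ∨ w = f * p := by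
      intro w hw hwc
      rcases htwo w hw hwc with h | h
      · exact ⟨w, hmF.2 ⟨hw, h⟩, Or.inl rfl⟩
      · exact ⟨f⁻¹ * w, hmF.2 ⟨E.mul_mem (E.inv_mem hfE) hw, h⟩, Or.inr (mul_inv_cancel_left f w).symm⟩
    by_cases h1 : cm t e * u = u * cm t e
    · obtain ⟨p, hp, h | h⟩ := hin he h1
      · exact ⟨p, hp, Or.inl h⟩
      · exact ⟨p, hp, Or.inr (Or.inl h)⟩
    · have hce := D.cm_mem ht he
      have h2 : cm t (cm t e) * u = u * cm t (cm t e) := by
        rcases D.eqv_of_om (D.cm_mem ht hce) (D.cm_mem hsH he) (fun w hw => D.om_cm_cm ht he hw) with e' | e' <;>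
          rw [e']
        · exact hs e he
        · exact (hmF.1 (F.mul_mem (hmF.2 ⟨D.cm_mem hsH he, hs e he⟩) hzF)).2
      obtain ⟨p, hp, h | h⟩ := hin hce h2
      · exact absurd (h ▸ (hmF.1 hp).2) h1
      · have hxe : x⁻¹ * e ∈ E := E.mul_mem (E.inv_mem hx) he
        have h3 : cm t (x⁻¹ * e) * u = u * cm t (x⁻¹ * e) := by
          have key := D.cm_mul (t := t) (x := x) (y := x⁻¹ * e)
          rw [mul_inv_cancel_left, h, ← hfdef] at key
          have hcase : (x⁻¹ * e)⁻¹ * f * (x⁻¹ * e) = f ∨ (x⁻¹ * e)⁻¹ * f * (x⁻¹ * e) = f * z := by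
            by_cases hc : f * (x⁻¹ * e) = x⁻¹ * e * f
            · left; rw [mul_assoc, hc, inv_mul_cancel_left]
            · right
              rw [mul_assoc, D.swap hxe hfE hc, ← mul_assoc, ((show Commute (x⁻¹ * e) z from D.comm hxe).inv_left).eq,
                mul_assoc z, inv_mul_cancel_left, D.comm hfE]
          rcases hcase with e' | e' <;> rw [e'] at key
          · rw [← mul_left_cancel key]
            exact (hmF.1 hp).2
          · rw [mul_assoc] at key
            have := mul_left_cancel key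
            rw [show cm t (x⁻¹ * e) = z⁻¹ * p by rw [this]; group]
            exact (hmF.1 (F.mul_mem (F.inv_mem hzF) hp)).2
        obtain ⟨p', hp', h' | h'⟩ := hin hxe h3
        · exact ⟨p', hp', Or.inr (Or.inr (Or.inl (by rw [← h', mul_inv_cancel_left])))⟩
        · exact ⟨p', hp', Or.inr (Or.inr (Or.inr (by rw [mul_assoc, ← h', mul_inv_cancel_left])))⟩
  -- `P` is self-centralizing
  have hcardF : Nat.card F ≤ 2 * Nat.card P := by
    have := Nat.card_le_card_of_surjective
      (fun q : P × Bool => (⟨(if q.2 then d else 1) * (q.1 : G),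
        F.mul_mem (by split <;> [exact hdF; exact F.one_mem]) q.1.2.1⟩ : F))
      (by
        rintro ⟨p, hp⟩
        rcases hFP p hp with h | ⟨q, hq, rfl⟩
        · exact ⟨(⟨p, h⟩, false), Subtype.ext (by simp)⟩
        · exact ⟨(⟨q, hq⟩, true), Subtype.ext (by simp)⟩)
    rw [Nat.card_prod, Nat.card_eq_fintype_card (α := Bool), Fintype.card_bool] at this
    omega
  have hcardE : Nat.card E ≤ 4 * Nat.card F := by
    have := Nat.card_le_card_of_surjective
      (fun q : F × Bool × Bool => (⟨(if q.2.1 then x else 1) * (if q.2.2 then f else 1) * (q.1 : G),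
        E.mul_mem (E.mul_mem (by split <;> [exact hx; exact E.one_mem])
          (by split <;> [exact hfE; exact E.one_mem])) q.1.2.1⟩ : E))
      (by
        rintro ⟨e, he⟩
        obtain ⟨p, hp, h | h | h | h⟩ := hEF e he
        · exact ⟨(⟨p, hp⟩, false, false), Subtype.ext (by simp [h])⟩
        · exact ⟨(⟨p, hp⟩, false, true), Subtype.ext (by simp [h])⟩
        · exact ⟨(⟨p, hp⟩, true, false), Subtype.ext (by simp [h])⟩
        · exact ⟨(⟨p, hp⟩, true, true), Subtype.ext (by simp [h])⟩)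
    rw [Nat.card_prod, Nat.card_prod, Nat.card_eq_fintype_card (α := Bool), Fintype.card_bool] at this
    omega
  -- invariance under `t`
  have htP : ∀ {p}, p ∈ P → t * p * t⁻¹ ∈ P := fun {p} hp =>
    ⟨hmF.2 ⟨D.normal t ht p hp.1.1,
      ((htu.mul_left (show Commute p u from (hmF.1 hp.1).2)).mul_left htu.inv_left).eq⟩, by
      rw [D.phi_conj hi (by rw [hgu]; exact htu.eq) (by rw [hgu]; exact (hmF.1 hp.1).2), hp.2]⟩
  have hcmP : ∀ {c p}, c ∈ H → c * u = u * c → p ∈ F → cm c p ∈ P := by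
    intro c p hc hcu hp
    have h1 : Commute p u := (hmF.1 hp).2
    have h2 : Commute c u := hcu
    exact ⟨hmF.2 ⟨D.cm_mem hc hp.1,
      (h1.inv_left.mul_left ((h2.mul_left h1).mul_left h2.inv_left)).eq⟩, hφcm hcu h1.eq⟩
  -- fixed elements of `P`
  have hfixed : ∀ q ∈ P, (∀ w ∈ E, om (t * q * t⁻¹) w = om q w) →
      om q d = 0 ∧ om q f = 0 ∧ (om q x = 0 → q = 1 ∨ q = z) := by
    intro q hq hfix
    have hqE := hPE hq
    have e2 : ∀ w ∈ E, om (s * q * s⁻¹) w = om q w := by
      intro w hw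
      set w' := t⁻¹ * w * t
      have hw' : w' ∈ E := by
        have := D.normal t⁻¹ (H.inv_mem ht) w hw
        rwa [inv_inv] at this
      rw [show s * q * s⁻¹ = t * (t * q * t⁻¹) * t⁻¹ by rw [hsdef]; group,
        show w = t * w' * t⁻¹ by simp only [w']; group, om_conj, hfix w' hw', ← om_conj t q w',
        hfix _ (D.normal t ht w' hw')]
    have a1 : om q f = 0 := by
      rw [om_comm, D.om_cm ht hx hqE, om_comm x q, om_comm (t * x * t⁻¹) q,
        ← hfix _ (D.normal t ht x hx), om_conj]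
      exact two_zero _
    have a2 : om q d = 0 := by
      rw [om_comm, D.om_cm hsH hx hqE, om_comm x q, om_comm (s * x * s⁻¹) q,
        ← e2 _ (D.normal s hsH x hx), om_conj]
      exact two_zero _
    refine ⟨a2, a1, fun a3 => D.central_of_om hqE fun e he => ?_⟩
    obtain ⟨p, hp, h⟩ := hEF e he
    have a0 : om q p = 0 := by
      rcases hFP p hp with h' | ⟨r, hr, rfl⟩
      · exact om_eq_zero.2 (hPab q hq p h')
      · rw [D.om_mul_right hdE (hPE hr) hqE, a2, om_eq_zero.2 (hPab q hq r hr), add_zero]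
    rcases h with h | h | h | h <;> rw [h]
    · exact a0
    · rw [D.om_mul_right hfE hp.1 hqE, a1, a0, add_zero]
    · rw [D.om_mul_right hx hp.1 hqE, a3, a0, add_zero]
    · rw [D.om_mul_right (E.mul_mem hx hfE) hp.1 hqE, D.om_mul_right hx hfE hqE, a3, a1, a0,
        add_zero, add_zero]
  -- `r₀ = [f, s]`
  have hcmd : cm s d = z := by
    have e : s * d * s⁻¹ = d⁻¹ := by
      refine eq_inv_of_mul_eq_one_left ?_
      rw [hd, cm]
      calc s * (x⁻¹ * (s * x * s⁻¹)) * s⁻¹ * (x⁻¹ * (s * x * s⁻¹))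
          = s * x⁻¹ * s * x * (s * s)⁻¹ * x⁻¹ * s * x * s⁻¹ := by group
        _ = s * x⁻¹ * s * x * 1 * x⁻¹ * s * x * s⁻¹ := by rw [hss, inv_one]
        _ = s * x⁻¹ * (s * s) * x * s⁻¹ := by group
        _ = s * x⁻¹ * 1 * x * s⁻¹ := by rw [hss]
        _ = _ := by group
    rw [cm, e, ← mul_inv_rev, hd2, D.zinv]
  set r₀ := cm s f with hr₀
  have hr₀E : r₀ ∈ E := D.cm_mem hsH hfE
  have hr₀P : r₀ ∈ P := by
    have h1 : cm t (cm t f) ∈ P := hcmP ht htu.eq (hmF.2 ⟨D.cm_mem ht hfE, hdu⟩)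
    rcases D.eqv_of_om hr₀E (hPE h1) (fun w hw => (D.om_cm_cm ht hfE hw).symm) with e | e <;> rw [e]
    · exact h1
    · exact P.mul_mem h1 hzP
  have hr₀fix : ∀ w ∈ E, om (t * r₀ * t⁻¹) w = om r₀ w := by
    intro w hw
    have hts : t * s = s * t := by rw [hsdef, mul_assoc]
    have e : t * r₀ * t⁻¹ = cm s (t * f * t⁻¹) := by
      rw [hr₀, cm, cm]
      calc t * (f⁻¹ * (s * f * s⁻¹)) * t⁻¹ = t * f⁻¹ * t⁻¹ * ((t * s) * f * (t * s)⁻¹) := by group
        _ = _ := by rw [hts]; group
    rw [e, show t * f * t⁻¹ = f * cm t f by rw [cm, mul_inv_cancel_left],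
      D.om_cm_mul hsH hfE (D.cm_mem ht hfE) hw, ← hr₀]
    have : om (cm s (cm t f)) w = 0 := by
      rcases hdd' with e' | e' <;> rw [e']
      · rw [hcmd]; exact D.om_z hw
      · rw [D.om_cm_mul hsH hdE D.mem hw, hcmd, D.om_z hw, zero_add, cm,
          D.conj_fix hsH, inv_mul_cancel, om_one_left]
    rw [this, add_zero]
  -- an element `w` of `P` not centralizing `d`
  obtain ⟨w, hwP, hwd⟩ : ∃ w ∈ P, om w d = 1 := by
    by_contra! hcon
    -- otherwise `F` is abelian and self-centralizing of order 8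
    have hPd : ∀ p ∈ P, p * d = d * p := fun p hp => by
      rw [← om_eq_zero]
      rcases zmod_two_cases (om p d) with h | h
      · exact h
      · exact absurd h (hcon p hp)
    have hFab : ∀ p ∈ F, ∀ r ∈ F, p * r = r * p := by
      intro p hp r hr
      rcases hFP p hp with h | ⟨p', hp', rfl⟩ <;> rcases hFP r hr with h' | ⟨r', hr', rfl⟩
      · exact hPab p h r h'
      · exact ((show Commute p d from hPd p h).mul_right (show Commute p r' from hPab p h r' hr')).eq
      · exact ((show Commute d r from (hPd r h').symm).mul_left (show Commute p' r from hPab p' hp' r h')).eq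
      · exact (((Commute.refl d).mul_right (show Commute d r' from (hPd r' hr').symm)).mul_left
          ((show Commute p' d from hPd p' hp').mul_right (show Commute p' r' from hPab p' hp' r' hr'))).eq
    have hF2 := D.sq_le_of_comm hzF inf_le_left hFab
    have hF8 : Nat.card F ≤ 8 := Nat.le_of_mul_le_mul_left (a := Nat.card F) (by omega) (Nat.card_pos (α := F))
    have hF : Nat.card F = 8 ∧ Nat.card E = 32 := by omega
    have hP4 : Nat.card P = 4 := by
      have hlt : Nat.card P < Nat.card F := by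
        refine lt_of_le_of_ne (Subgroup.card_le_of_le fun p hp => (hmP.1 hp).1) fun h => ?_
        have e : P = F := Subgroup.eq_of_le_of_card_ge (fun p hp => (hmP.1 hp).1) h.ge
        have := (hmP.1 (e ▸ hdF)).2
        rw [this] at hφd
        exact zero_ne_one hφd
      obtain ⟨c, hc⟩ : Nat.card P ∣ Nat.card F := Subgroup.card_dvd_of_le fun p hp => (hmP.1 hp).1
      rw [hF.1] at hc
      have h1 : 4 ≤ Nat.card P := by omega
      have : c ≤ 2 := by nlinarith
      interval_cases c <;> omega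
    have hZF : (Subgroup.center E).map E.subtype ≤ F := fun w hw => by
      rcases D.centerImage_eq_or hw with e | e <;> rw [e]
      · exact F.one_mem
      · exact hzF
    have hCF : ∀ c ∈ E, (∀ p ∈ F, c * p = p * c) → c ∈ F := by
      intro c hc hcp
      have h := ClassK.card_inf_centralizer_mul_card D.ext hZF inf_le_left
      rw [hF.1, hF.2] at h
      have hle : F ≤ E ⊓ Subgroup.centralizer (F : Set G) := fun p hp =>
        ⟨hp.1, Subgroup.mem_centralizer_iff.2 fun r hr => hFab r hr p hp⟩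
      rw [Subgroup.eq_of_le_of_card_ge hle (by rw [hF.1]; omega)]
      exact ⟨hc, Subgroup.mem_centralizer_iff.2 fun p hp => (hcp p hp).symm⟩
    obtain ⟨q, hqP, hq1, hqz⟩ : ∃ q ∈ P, q ≠ 1 ∧ q ≠ z := by
      by_contra! h
      have := Nat.card_le_card_of_injective (α := P) (β := ({1, z} : Finset G))
        (fun p => ⟨(p : G), by
          by_cases h1 : (p : G) = 1
          · simp [h1]
          · simp [h p p.2 h1]⟩)
        fun p p' e => Subtype.ext (congrArg (fun w : ({1, z} : Finset G) => (w : G)) e)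
      rw [hP4, Nat.card_eq_finsetCard] at this
      have := Finset.card_le_two (a := (1 : G)) (b := z)
      omega
    have hP4' : ∀ p ∈ P, p = 1 ∨ p = z ∨ p = q ∨ p = q * z := by
      intro p hp
      have q1 : q * z ≠ 1 := fun e => hqz (by rw [eq_inv_of_mul_eq_one_left e, D.zinv])
      have q2 : q * z ≠ z := fun e => hq1 (mul_eq_right.1 e)
      have q3 : q ≠ q * z := fun e => D.z_ne (mul_eq_left.1 e.symm)
      haveI := Fintype.ofFinite G
      set T : Finset G := {1, z, q, q * z} with hTdef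
      have hT : T.card = 4 := by
        rw [hTdef, Finset.card_insert_of_notMem (by simp [Ne.symm D.z_ne, Ne.symm hq1, Ne.symm q1]),
          Finset.card_insert_of_notMem (by simp [Ne.symm hqz, Ne.symm q2]), Finset.card_pair q3]
      have hsub : T ⊆ (P : Set G).toFinset := by
        intro w hw
        rw [hTdef] at hw
        simp only [Finset.mem_insert, Finset.mem_singleton] at hw
        rw [Set.mem_toFinset]
        rcases hw with rfl | rfl | rfl | rfl
        · exact P.one_mem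
        · exact hzP
        · exact hqP
        · exact P.mul_mem hqP hzP
      have hc : (P : Set G).toFinset.card = 4 := by
        rw [Set.toFinset_card, ← Nat.card_eq_fintype_card]; exact hP4
      have := Finset.eq_of_subset_of_card_le hsub (by rw [hc, hT])
      have hp' : p ∈ T := by rw [this, Set.mem_toFinset]; exact hp
      rw [hTdef] at hp'
      simpa using hp'
    have huu : u * u = 1 := by
      rw [← hgu, show g * z * g⁻¹ * (g * z * g⁻¹) = g * (z * z) * g⁻¹ by group, D.zz]; group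
    have huH : u ∈ H := Subgroup.mem_centralizer_singleton_iff.2 huz
    have huinv : u⁻¹ = u := inv_eq_of_mul_eq_one_right huu
    have hcu : ∀ e ∈ E, cm u e ∈ P ∧ om (u * e * u⁻¹) e = 0 := by
      intro e he
      have hc := D.cm_mem huH he
      have hcF : cm u e ∈ F := hCF _ hc fun p hp => by
        rw [← om_eq_zero, D.om_cm huH he hp.1]
        have hpu : u * p * u⁻¹ = p := by rw [← (hmF.1 hp).2, mul_inv_cancel_right]
        nth_rw 2 [← hpu]
        rw [om_conj]
        exact two_zero _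
      have h1 : u * cm u e * u⁻¹ = (cm u e)⁻¹ := by
        simp only [cm, huinv, _root_.mul_inv_rev, inv_inv]
        calc u * (e⁻¹ * (u * e * u)) * u = u * e⁻¹ * u * e * (u * u) := by group
          _ = _ := by rw [huu, mul_one]; group
      rw [← (hmF.1 hcF).2, mul_inv_cancel_right] at h1
      have hcc : cm u e * cm u e = 1 := eq_inv_iff_mul_eq_one.1 h1
      refine ⟨⟨hcF, hsing _ hcF hcc⟩, ?_⟩
      by_contra hne
      refine D.z_ne ?_
      have heu : u * e * u⁻¹ ∈ E := D.normal u huH e he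
      have hnc : ¬ e⁻¹ * (u * e * u⁻¹) = u * e * u⁻¹ * e⁻¹ := fun h => hne (by
        rw [om_comm, ← D.om_inv_left he heu, om_eq_zero]
        exact h)
      have hsq : u * e * u⁻¹ * (u * e * u⁻¹) = e * e := by
        rw [show u * e * u⁻¹ * (u * e * u⁻¹) = u * (e * e) * u⁻¹ by group]
        rcases D.sq he with e' | e' <;> rw [e']
        · group
        · exact D.conj_fix huH
      calc z = z * (e⁻¹ * e⁻¹ * (e * e)) := by group
        _ = z * (e⁻¹ * e⁻¹ * (u * e * u⁻¹ * (u * e * u⁻¹))) := by rw [hsq]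
        _ = (e⁻¹ * z) * (e⁻¹ * (u * e * u⁻¹)) * (u * e * u⁻¹) := by
          rw [D.comm (E.inv_mem he)]; group
        _ = e⁻¹ * (z * (e⁻¹ * (u * e * u⁻¹))) * (u * e * u⁻¹) := by group
        _ = cm u e * cm u e := by
          rw [← D.swap (E.inv_mem he) heu (Ne.symm hnc), cm]; group
        _ = 1 := hcc
    have hcmval : ∀ e ∈ E, cm u e = 1 ∨ cm u e = z ∨ ∀ v ∈ E, om (cm u e) v = om q v := by
      intro e he
      rcases hP4' _ (hcu e he).1 with h | h | h | h
      · exact Or.inl h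
      · exact Or.inr (Or.inl h)
      · exact Or.inr (Or.inr fun v _ => by rw [h])
      · exact Or.inr (Or.inr fun v hv => by
          rw [h, D.om_mul_left (hPE hqP) D.mem hv, D.om_z hv, add_zero])
    have hxu : ¬ x * u = u * x := fun h => hfu (by
      have h1 : Commute x u := h
      exact (h1.inv_left.mul_left ((htu.mul_left h1).mul_left htu.inv_left)).eq)
    by_cases hex : ∃ e₁ ∈ E, ∀ v ∈ E, om (cm u e₁) v = om q v
    · obtain ⟨e₁, he₁, hv₁⟩ := hex
      have hcen : ∀ e ∈ E, om q e = 0 := by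
        intro e he
        rcases hcmval e he with h | h | h
        case inr.inr => rw [← h e he, D.om_cm huH he he, om_self, zero_add, (hcu e he).2]
        all_goals
          have hadj : om (cm u e₁) e = om (cm u e) e₁ := by
            rw [D.om_cm huH he₁ he, D.om_cm huH he he₁, om_comm e₁ e, om_comm (u * e * u⁻¹) e₁,
              ← om_conj u e₁ (u * e * u⁻¹),
              show u * (u * e * u⁻¹) * u⁻¹ = (u * u) * e * (u * u)⁻¹ by group, huu,
              show (1 : G) * e * 1⁻¹ = e by group]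
          rw [← hv₁ e he, hadj, h]
        · exact om_one_left _
        · exact D.om_z he₁
      rcases D.central_of_om (hPE hqP) hcen with h | h
      · exact hq1 h
      · exact hqz h
    · push Not at hex
      have hz' : ∀ e ∈ E, ¬ e * u = u * e → cm u e = z := by
        intro e he hne
        rcases hcmval e he with h | h | h
        · exfalso
          refine hne ?_
          rw [cm, inv_mul_eq_one, eq_mul_inv_iff_mul_eq] at h
          exact h
        · exact h
        · obtain ⟨v, hv, hv'⟩ := hex e he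
          exact absurd (h v hv) hv'
      have h1 := hz' x hx hxu
      have h2 := hz' f hfE hfu
      have h3 : cm u (x * f) = 1 := by
        rw [D.cm_mul, h1, h2, mul_assoc f⁻¹, ← D.comm hfE, inv_mul_cancel_left, D.zz]
      rw [cm, inv_mul_eq_one, eq_mul_inv_iff_mul_eq] at h3
      refine hfu ?_
      have h4 : cm t (x * f) = f * cm t f := by
        rw [D.cm_mul, ← hfdef]; group
      have h5 : Commute (cm t (x * f)) u := by
        have h6 : Commute (x * f) u := h3
        exact h6.inv_left.mul_left ((htu.mul_left h6).mul_left htu.inv_left)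
      rw [h4] at h5
      have := h5.mul_left (show Commute (cm t f) u from hdu).inv_left
      rwa [mul_inv_cancel_right] at this
  have hwE := hPE hwP
  have hyf : ∀ p ∈ P, om (cm s p) f = 0 := by
    intro p hp
    have hpE := hPE hp
    rw [D.om_cm hsH hpE hfE]
    have e : om (s * p * s⁻¹) f = om p (s * f * s⁻¹) := by
      rw [← om_conj s p (s * f * s⁻¹)]
      congr 1
      rw [show s * (s * f * s⁻¹) * s⁻¹ = (s * s) * f * (s * s)⁻¹ by group, hss]; group
    rw [e, om_comm p f, om_comm p (s * f * s⁻¹), ← D.om_cm hsH hfE hpE]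
    exact om_eq_zero.2 (hPab _ hr₀P _ hp)
  set y := cm s w with hy
  have hyP : y ∈ P := hcmP hsH hsu.eq hwP.1
  have hyE := hPE hyP
  have hyx : om y x = 1 := by
    rw [hy, D.om_cm hsH hwE hx]
    have e : om (s * w * s⁻¹) x = om w (s * x * s⁻¹) := by
      rw [← om_conj s w (s * x * s⁻¹)]
      congr 1
      rw [show s * (s * x * s⁻¹) * s⁻¹ = (s * s) * x * (s * s)⁻¹ by group, hss]; group
    rw [e, om_comm w x, om_comm w (s * x * s⁻¹), ← D.om_cm hsH hx hwE, ← hd, om_comm, hwd]
  have hyfix : ∀ e ∈ E, om (t * y * t⁻¹) e = om y e := by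
    set y3 := cm t y with hy3
    have hy3P : y3 ∈ P := hcmP ht htu.eq hyP.1
    have hy3E := hPE hy3P
    have hc : cm t y3 = 1 ∨ cm t y3 = z := by
      refine D.central_of_om (D.cm_mem ht hy3E) fun e he => ?_
      rw [D.om_cm_cm ht hyE he]
      rcases D.cm_cm_of_involution hsH hss hwE with e' | e' <;> rw [hy, e']
      · exact om_one_left e
      · exact D.om_z he
    have hy3fix : ∀ e ∈ E, om (t * y3 * t⁻¹) e = om y3 e := by
      intro e he
      rw [show t * y3 * t⁻¹ = y3 * cm t y3 by simp only [cm]; group]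
      rcases hc with e' | e' <;> rw [e', D.om_mul_left hy3E (by first | exact E.one_mem | exact D.mem) he]
      · rw [om_one_left, add_zero]
      · rw [D.om_z he, add_zero]
    have hx3 : om y3 x = 0 := by
      rw [hy3, D.om_cm ht hyE hx]
      have h1 : om (t * y * t⁻¹) (t * x * t⁻¹) = om y x := om_conj t y x
      rw [show t * x * t⁻¹ = x * f by rw [hfdef, cm, mul_inv_cancel_left],
        D.om_mul_right hx hfE (D.normal t ht y hyE)] at h1
      have h2 : om (t * y * t⁻¹) f = 0 := by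
        have e : t * y * t⁻¹ = cm s (t * w * t⁻¹) := by
          rw [hy, cm, cm]
          have hts : t * s = s * t := by rw [hsdef, mul_assoc]
          calc t * (w⁻¹ * (s * w * s⁻¹)) * t⁻¹ = t * w⁻¹ * t⁻¹ * ((t * s) * w * (t * s)⁻¹) := by group
            _ = _ := by rw [hts]; group
        rw [e]
        exact hyf _ (htP hwP)
      rw [h2, add_zero] at h1
      rw [h1]
      exact two_zero _
    obtain ⟨-, -, h⟩ := hfixed y3 hy3P hy3fix
    intro e he
    rw [show t * y * t⁻¹ = y * y3 by rw [hy3, cm, mul_inv_cancel_left],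
      D.om_mul_left hyE hy3E he]
    rcases h hx3 with e' | e' <;> rw [e']
    · rw [om_one_left, add_zero]
    · rw [D.om_z he, add_zero]
  -- an element of `E ∖ F` centralized by `s` modulo the centre
  have hφdd : ∀ {c}, c * u = u * c → ∀ {p}, p ∈ F →
      (p⁻¹ * c * p) * u = u * (p⁻¹ * c * p) ∧ phi K g (p⁻¹ * c * p) = phi K g c := by
    intro c hc p hp
    have h1 : Commute p u := (hmF.1 hp).2
    refine ⟨((h1.inv_left.mul_left hc).mul_left h1).eq, ?_⟩
    have := D.phi_conj hi (K := K) (g := g) (s := p⁻¹) (x := c) (by rw [hgu]; exact h1.inv_left.eq)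
      (by rw [hgu]; exact hc)
    rwa [inv_inv] at this
  obtain ⟨k, hkE, hks, hkc, hkφ⟩ : ∃ k ∈ E, (cm s k = 1 ∨ cm s k = z) ∧ cm t k * u = u * cm t k ∧
      phi K g (cm t k) = 1 := by
    by_cases hr : om r₀ x = 0
    · exact ⟨f, hfE, (hfixed r₀ hr₀P hr₀fix).2.2 hr, hdu, hbad⟩
    · have hq : r₀ * y = 1 ∨ r₀ * y = z := by
        refine (hfixed _ (P.mul_mem hr₀P hyP) fun e he => ?_).2.2 ?_
        · rw [show t * (r₀ * y) * t⁻¹ = (t * r₀ * t⁻¹) * (t * y * t⁻¹) by group,
            D.om_mul_left (D.normal t ht _ hr₀E) (D.normal t ht _ hyE) he, hr₀fix e he, hyfix e he,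
            ← D.om_mul_left hr₀E hyE he]
        · rw [D.om_mul_left hr₀E hyE hx, hyx]
          revert hr
          generalize om r₀ x = b
          rcases zmod_two_cases b with rfl | rfl <;> simp_all [show (1 : ZMod 2) + 1 = 0 from rfl]
      refine ⟨f * w, E.mul_mem hfE hwE, ?_, ?_, ?_⟩
      · refine D.central_of_om (D.cm_mem hsH (E.mul_mem hfE hwE)) fun e he => ?_
        rw [D.om_cm_mul hsH hfE hwE he, ← hr₀, ← hy, ← D.om_mul_left hr₀E hyE he]
        rcases hq with e' | e' <;> rw [e']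
        · exact om_one_left e
        · exact D.om_z he
      · rw [D.cm_mul]
        exact ((show Commute (w⁻¹ * cm t f * w) u from (hφdd hdu hwP.1).1).mul_left
          (hmF.1 (hcmP ht htu.eq hwP.1).1).2).eq
      · rw [D.cm_mul, hmul (hφdd hdu hwP.1).1 (hmF.1 (hcmP ht htu.eq hwP.1).1).2, (hφdd hdu hwP.1).2,
          hbad, (hcmP ht htu.eq hwP.1).2, add_zero]
  -- commuting with `s`, a contradiction
  suffices hfin : ∀ k ∈ E, cm s k = 1 → cm t k * u = u * cm t k → phi K g (cm t k) = 1 → False by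
    rcases hks with h | h
    · exact hfin k hkE h hkc hkφ
    · refine hfin (k * d) (E.mul_mem hkE hdE) ?_ ?_ ?_
      · rw [D.cm_mul, h, hcmd, mul_assoc d⁻¹, ← D.comm hdE, inv_mul_cancel_left, D.zz]
      · rw [D.cm_mul]
        exact ((show Commute (d⁻¹ * cm t k * d) u from (hφdd hkc hdF).1).mul_left
          (hmF.1 (hcmP ht htu.eq hdF).1).2).eq
      · rw [D.cm_mul, hmul (hφdd hkc hdF).1 (hmF.1 (hcmP ht htu.eq hdF).1).2, (hφdd hkc hdF).2, hkφ,
          (hcmP ht htu.eq hdF).2, add_zero]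
  intro k hkE hks hkc hkφ
  have hkv : s * k = k * s := by
    rw [cm, inv_mul_eq_one, eq_mul_inv_iff_mul_eq] at hks
    exact hks.symm
  rw [hv] at hkv
  set c := cm t k with hc
  have hcE : c ∈ E := D.cm_mem ht hkE
  have hk' : g₀⁻¹ * k * g₀ ∈ H := by
    rw [hH, Subgroup.mem_centralizer_singleton_iff]
    calc g₀⁻¹ * k * g₀ * z = g₀⁻¹ * (k * (g₀ * z * g₀⁻¹)) * g₀ := by group
      _ = _ := by rw [← hkv]; group
  have hc0 : g₀⁻¹ * c * g₀ ∈ E := by
    rw [show g₀⁻¹ * c * g₀ = (g₀⁻¹ * k * g₀)⁻¹ * (g₀⁻¹ * t * g₀) * (g₀⁻¹ * k * g₀) * (g₀⁻¹ * t * g₀)⁻¹ by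
      rw [hc, cm]; group]
    have := D.normal _ (H.inv_mem hk') _ ht₀
    rw [inv_inv] at this
    exact E.mul_mem this (E.inv_mem ht₀)
  have hcc : c * c = 1 := by
    refine (D.sq hcE).resolve_right fun h => ?_
    have e : g₀⁻¹ * c * g₀ * (g₀⁻¹ * c * g₀) = g₀⁻¹ * z * g₀ := by rw [← h]; group
    rcases D.sq hc0 with h' | h' <;> rw [e] at h'
    · exact D.z_ne (by
        calc z = g₀ * (g₀⁻¹ * z * g₀) * g₀⁻¹ := by group
          _ = 1 := by rw [h']; group)
    · exact hv' (by
        calc g₀ * z * g₀⁻¹ = g₀ * (g₀⁻¹ * z * g₀) * g₀⁻¹ := by rw [h']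
          _ = z := by group)
  rw [hsing c (hmF.2 ⟨hcE, hkc⟩) hcc] at hkφ
  exact zero_ne_one hkφ

/-- The parity argument leaves nothing. -/
theorem no_index_two (hres : Cfsg.pResidual 2 G = ⊤) (h32 : 32 ≤ Nat.card E)
    (hKi : K.relIndex (Subgroup.centralizer ({z} : Set G)) = 2)
    (hEin : ∀ g : G, g * z * g⁻¹ ∈ E → g * z * g⁻¹ ≠ z → ∀ d ∈ E,
      d * (g * z * g⁻¹) = g * z * g⁻¹ * d → phi K g d = 0)
    (hsmallE : (∃ x ∈ Subgroup.centralizer ({z} : Set G), x * x = 1 ∧ x ∉ K) → 128 ≤ Nat.card E) :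
    False := by
  classical
  haveI := Fact.mk Nat.prime_two
  set H := Subgroup.centralizer ({z} : Set G) with hH
  have hi : (K.subgroupOf H).index = 2 := hKi
  -- a 2-element outside `K`
  obtain ⟨x, hx, hxK⟩ : ∃ x ∈ H, x ∉ K := by
    by_contra! h
    rw [Subgroup.relIndex_eq_one.2 (fun x hx => h x hx)] at hKi
    omega
  obtain ⟨P, hP, hPK⟩ : ∃ p ∈ H, (∃ j : ℕ, p ^ 2 ^ j = 1) ∧ p ∉ K := by
    obtain ⟨j, m, hm, e⟩ := Nat.exists_eq_pow_mul_and_not_dvd (orderOf_pos x).ne' 2 (by norm_num)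
    refine ⟨x ^ m, H.pow_mem hx m, ⟨j, by rw [← pow_mul, mul_comm, ← e, pow_orderOf_eq_one]⟩, fun h => hxK ?_⟩
    obtain ⟨c, hc⟩ : ∃ c, m = 2 * c + 1 := ⟨m / 2, by omega⟩
    have hsq : x ^ (2 * c) ∈ K := by
      have := (K.subgroupOf H).pow_mem
        (Subgroup.mul_self_mem_of_index_two hi (⟨x, hx⟩ : H)) c
      rw [Subgroup.mem_subgroupOf, SubgroupClass.coe_pow, Subgroup.coe_mul] at this
      rwa [pow_mul, pow_two]
    rw [hc, pow_succ] at h
    exact (Subgroup.mul_mem_cancel_left K hsq).1 h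
  have hex : ∃ j : ℕ, ∃ p ∈ H, p ^ 2 ^ j = 1 ∧ p ∉ K := by
    obtain ⟨⟨j, hj⟩, hK⟩ := hPK
    exact ⟨j, P, hP, hj, hK⟩
  obtain ⟨t, ht, hta, htK⟩ := Nat.find_spec hex
  set a := Nat.find hex with ha
  have hmin : ∀ x ∈ H, ∀ j < a, x ^ 2 ^ j = 1 → x ∈ K := fun x hx j hj h => by
    by_contra hne
    exact Nat.find_min hex hj ⟨x, hx, h, hne⟩
  obtain ⟨ha2, g, u, hgu, huz, hut, huz', hφz, x, hxE, -, hdu, hbad, -, -⟩ :=
    D.exists_bad hres hi ht htK hta hmin hEin
      (fun ha1 => hsmallE ⟨t, ht, by rw [← pow_two, ← pow_one (2 : ℕ), ← ha1]; exact hta, htK⟩)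
  set d := cm t (cm t x) with hd
  have hdE : d ∈ E := D.cm_mem ht (D.cm_mem ht hxE)
  have hd2 : d * d = z := by
    refine (D.sq hdE).resolve_left fun h => ?_
    have : phi K g d = 0 := by
      refine phi_eq_zero.2 (hmin _ ?_ 1 (by omega) ?_)
      · rw [← hgu] at hdu
        rw [hH, Subgroup.mem_centralizer_singleton_iff]
        calc g⁻¹ * d * g * z = g⁻¹ * (d * (g * z * g⁻¹)) * g := by group
          _ = _ := by rw [hdu]; group
      · rw [pow_one, pow_two, show g⁻¹ * d * g * (g⁻¹ * d * g) = g⁻¹ * (d * d) * g by group, h]; group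
    rw [this] at hbad
    exact zero_ne_one hbad
  -- the second element
  have ht' : g⁻¹ * d * g ∈ H := by
    rw [← hgu] at hdu
    rw [hH, Subgroup.mem_centralizer_singleton_iff]
    calc g⁻¹ * d * g * z = g⁻¹ * (d * (g * z * g⁻¹)) * g := by group
      _ = _ := by rw [hdu]; group
  have ht'K : g⁻¹ * d * g ∉ K := fun h => by
    rw [phi_eq_zero.2 h] at hbad
    exact zero_ne_one hbad
  have hv : g⁻¹ * d * g * (g⁻¹ * d * g) = g⁻¹ * z * g⁻¹⁻¹ := by rw [← hd2]; group
  have ht'a : (g⁻¹ * d * g) ^ 2 ^ a = 1 := by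
    rw [ha2, show (2 : ℕ) ^ 2 = 2 * 2 from rfl, pow_mul, pow_two (g⁻¹ * d * g), hv, pow_two,
      show g⁻¹ * z * g⁻¹⁻¹ * (g⁻¹ * z * g⁻¹⁻¹) = g⁻¹ * (z * z) * g by group, D.zz]
    group
  have hv' : g⁻¹ * z * g⁻¹⁻¹ ≠ z := by
    intro h
    refine huz' (hgu ▸ ?_)
    calc g * z * g⁻¹ = g * (g⁻¹ * z * g⁻¹⁻¹) * g⁻¹ := by rw [h]
      _ = z := by group
  obtain ⟨-, g', u', hgu', huz'', hut', -, hφz', x', hx', hfu', hdu', hbad', hs', htwo'⟩ :=
    D.exists_bad hres hi ht' ht'K ht'a hmin hEin (fun h => by omega)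
  exact D.bad_false hi h32 (fun x hx j hj => hmin x hx j (by omega)) ht' hv hv'
    (by simpa [mul_assoc] using hdE) hgu' huz'' hut' hφz' hx' hfu' hdu' hbad' hs' htwo'

/-- A weakly closed `z` leaves no subgroup of index two in its centralizer. -/
theorem not_weakly_closed (hres : Cfsg.pResidual 2 G = ⊤) (h128 : 128 ≤ Nat.card E)
    (hKi : K.relIndex (Subgroup.centralizer ({z} : Set G)) = 2) :
    ∃ g : G, g * z * g⁻¹ ∈ E ∧ g * z * g⁻¹ ≠ z := by
  by_contra hcon
  push Not at hcon
  exact D.no_index_two hres (by omega) hKi (fun g h h' => absurd (hcon g h) h') (fun _ => h128)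

end Data

end CfsgLib.SectRank.LargeExtra
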