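import Cfsg.Agent.Lib.SectRank.LargeExtraIndexTwo
import Cfsg.Agent.Lib.ClassK.Extraspecial

/-!
# The commutator form of a large extraspecial 2-subgroup and an element of the centralizer
-/

set_option autoImplicit false
set_option linter.unusedSectionVars false
set_option linter.style.haveILetI false

open Cfsg

namespace CfsgLib.SectRank.LargeExtra

variable {G : Type*} [Group G] [Finite G]

open Classical in
/-- `0` on commuting pairs, `1` otherwise. -/
noncomputable def om (x y : G) : ZMod 2 := if x * y = y * x then 0 else 1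

/-- The commutator `x⁻¹ t x t⁻¹`. -/
def cm (t x : G) : G := x⁻¹ * (t * x * t⁻¹)

theorem om_eq_zero {x y : G} : om x y = 0 ↔ x * y = y * x := by
  unfold om
  split <;> simp_all

theorem om_comm (x y : G) : om x y = om y x := by
  unfold om
  by_cases h : x * y = y * x
  · rw [if_pos h, if_pos h.symm]
  · rw [if_neg h, if_neg (Ne.symm h)]

@[simp] theorem om_self (x : G) : om x x = 0 := om_eq_zero.2 rfl

@[simp] theorem om_one_left (x : G) : om 1 x = 0 := om_eq_zero.2 (by simp)

theorem om_ne_zero {x y : G} : ¬ x * y = y * x → om x y = 1 := fun h => if_neg h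

theorem two_zero (a : ZMod 2) : a + a = 0 := CharTwo.add_self_eq_zero a

theorem z2 : (2 : ZMod 2) = 0 := rfl

namespace Data

variable {z : G} {E : Subgroup G} (D : Data z E)
include D

theorem sq_le_of_comm {P : Subgroup G} (hz : z ∈ P) (hP : P ≤ E)
    (h : ∀ a ∈ P, ∀ b ∈ P, a * b = b * a) : Nat.card P * Nat.card P ≤ 2 * Nat.card E := by
  have hZ : (Subgroup.center E).map E.subtype ≤ P := fun w hw => by
    rcases D.centerImage_eq_or hw with e | e <;> rw [e]
    · exact P.one_mem
    · exact hz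
  rw [← ClassK.card_inf_centralizer_mul_card D.ext hZ hP]
  refine Nat.mul_le_mul_right _ (Subgroup.card_le_of_le fun a ha => ⟨hP ha, ?_⟩)
  exact Subgroup.mem_centralizer_iff.2 fun b hb => h b hb a ha

theorem inv_eq {x : G} (hx : x ∈ E) : x⁻¹ = x ∨ x⁻¹ = x * z := by
  rcases D.sq hx with h | h
  · exact Or.inl (inv_eq_of_mul_eq_one_right h)
  · exact Or.inr (inv_eq_of_mul_eq_one_right (by rw [← mul_assoc, h, D.zz]))

theorem zinv : z⁻¹ = z := inv_eq_of_mul_eq_one_right D.zz

theorem om_mul_left {x y w : G} (hx : x ∈ E) (hy : y ∈ E) (hw : w ∈ E) :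
    om (x * y) w = om x w + om y w := by
  have hc : ∀ {e : G}, e ∈ E → e * z = z * e := fun h => D.comm h
  by_cases h1 : x * w = w * x <;> by_cases h2 : y * w = w * y
  · rw [om_eq_zero.2 h1, om_eq_zero.2 h2, add_zero]
    exact om_eq_zero.2 (by rw [mul_assoc, h2, ← mul_assoc, h1, mul_assoc])
  · rw [om_eq_zero.2 h1, om_ne_zero h2, zero_add]
    refine om_ne_zero fun h => h2 ?_
    rw [← mul_assoc w x, ← h1, mul_assoc, mul_assoc] at h
    exact mul_left_cancel h
  · rw [om_ne_zero h1, om_eq_zero.2 h2, add_zero]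
    refine om_ne_zero fun h => h1 ?_
    rw [mul_assoc, h2, ← mul_assoc, ← mul_assoc] at h
    exact mul_right_cancel h
  · rw [om_ne_zero h1, om_ne_zero h2, show (1 : ZMod 2) + 1 = 0 by decide]
    refine om_eq_zero.2 ?_
    have e1 := D.swap hx hw (Ne.symm h1)
    have e2 := D.swap hy hw (Ne.symm h2)
    symm
    calc w * (x * y) = z * (x * w) * y := by rw [← mul_assoc, e1]
      _ = z * x * (w * y) := by group
      _ = z * x * (z * (y * w)) := by rw [e2]
      _ = z * (x * z) * (y * w) := by group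
      _ = x * y * w := by rw [hc hx, ← mul_assoc z z x, D.zz, one_mul, mul_assoc]

theorem om_mul_right {x y w : G} (hx : x ∈ E) (hy : y ∈ E) (hw : w ∈ E) :
    om w (x * y) = om w x + om w y := by
  rw [om_comm, D.om_mul_left hx hy hw, om_comm x, om_comm y]

theorem om_z {w : G} (hw : w ∈ E) : om z w = 0 := om_eq_zero.2 (D.comm hw).symm

theorem om_inv_left {x w : G} (hx : x ∈ E) (hw : w ∈ E) : om x⁻¹ w = om x w := by
  have h := D.om_mul_left (E.inv_mem hx) hx hw
  rw [inv_mul_cancel, om_one_left] at h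
  linear_combination -h - (om x w) * z2

omit D in
theorem om_conj (s : G) (x y : G) : om (s * x * s⁻¹) (s * y * s⁻¹) = om x y := by
  unfold om
  have e : (s * x * s⁻¹ * (s * y * s⁻¹) = s * y * s⁻¹ * (s * x * s⁻¹)) ↔ (x * y = y * x) := by
    constructor
    · intro h
      have := congrArg (fun w => s⁻¹ * w * s) h
      simpa [mul_assoc] using this
    · intro h
      calc s * x * s⁻¹ * (s * y * s⁻¹) = s * (x * y) * s⁻¹ := by group
        _ = _ := by rw [h]; group
  by_cases h : x * y = y * x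
  · rw [if_pos h, if_pos (e.2 h)]
  · rw [if_neg h, if_neg (fun h' => h (e.1 h'))]

theorem conj_fix {s : G} (hs : s ∈ Subgroup.centralizer ({z} : Set G)) : s * z * s⁻¹ = z := by
  rw [Subgroup.mem_centralizer_singleton_iff.1 hs, mul_inv_cancel_right]

theorem eqv_of_om {x y : G} (hx : x ∈ E) (hy : y ∈ E) (h : ∀ w ∈ E, om x w = om y w) :
    x = y ∨ x = y * z := by
  have hc : ∀ w ∈ E, (y⁻¹ * x) * w = w * (y⁻¹ * x) := fun w hw => by
    rw [← om_eq_zero, D.om_mul_left (E.inv_mem hy) hx hw, D.om_inv_left hy hw, h w hw, two_zero]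
  rcases D.central_eq_or (E.mul_mem (E.inv_mem hy) hx) hc with e | e
  · exact Or.inl (inv_mul_eq_one.1 e).symm
  · exact Or.inr (inv_mul_eq_iff_eq_mul.1 e)

theorem central_of_om {x : G} (hx : x ∈ E) (h : ∀ w ∈ E, om x w = 0) : x = 1 ∨ x = z := by
  rcases D.eqv_of_om hx E.one_mem (fun w hw => by rw [h w hw, om_one_left]) with e | e
  · exact Or.inl e
  · exact Or.inr (by rw [e, one_mul])

theorem cm_mem {t x : G} (ht : t ∈ Subgroup.centralizer ({z} : Set G)) (hx : x ∈ E) : cm t x ∈ E :=
  E.mul_mem (E.inv_mem hx) (D.normal t ht x hx)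

theorem om_cm {t x w : G} (ht : t ∈ Subgroup.centralizer ({z} : Set G)) (hx : x ∈ E) (hw : w ∈ E) :
    om (cm t x) w = om x w + om (t * x * t⁻¹) w := by
  rw [cm, D.om_mul_left (E.inv_mem hx) (D.normal t ht x hx) hw, D.om_inv_left hx hw]

/-- `[x, t, t]` and `[x, t ^ 2]` agree modulo the centre. -/
theorem om_cm_cm {t x w : G} (ht : t ∈ Subgroup.centralizer ({z} : Set G)) (hx : x ∈ E) (hw : w ∈ E) :
    om (cm t (cm t x)) w = om (cm (t * t) x) w := by
  have hc := D.cm_mem ht hx
  rw [D.om_cm ht hc hw, D.om_cm ht hx hw, D.om_cm (Subgroup.mul_mem _ ht ht) hx hw]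
  have e : t * cm t x * t⁻¹ = (t * x⁻¹ * t⁻¹) * ((t * t) * x * (t * t)⁻¹) := by
    rw [cm]; group
  rw [e, D.om_mul_left (D.normal t ht _ (E.inv_mem hx))
    (D.normal _ (Subgroup.mul_mem _ ht ht) x hx) hw,
    show t * x⁻¹ * t⁻¹ = (t * x * t⁻¹)⁻¹ by group, D.om_inv_left (D.normal t ht x hx) hw]
  linear_combination (om (t * x * t⁻¹) w) * z2

/-- An element of order dividing 2 inverts the commutators it produces. -/
theorem cm_cm_of_involution {t x : G} (ht : t ∈ Subgroup.centralizer ({z} : Set G)) (ht2 : t * t = 1)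
    (hx : x ∈ E) : cm t (cm t x) = 1 ∨ cm t (cm t x) = z := by
  refine D.central_of_om (D.cm_mem ht (D.cm_mem ht hx)) fun w hw => ?_
  rw [D.om_cm_cm ht hx hw, ht2, D.om_cm (Subgroup.one_mem _) hx hw, one_mul, inv_one, mul_one]
  exact two_zero _

/-- The square of `x⁻¹ y` when `x`, `y` commute and have equal squares. -/
theorem sq_cm_eq_one {t x : G} (ht : t ∈ Subgroup.centralizer ({z} : Set G)) (hx : x ∈ E)
    (h : om x (t * x * t⁻¹) = 0) : cm t x * cm t x = 1 := by
  have hc : Commute x (t * x * t⁻¹) := om_eq_zero.1 h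
  have hsq : t * x * t⁻¹ * (t * x * t⁻¹) = x * x := by
    rw [show t * x * t⁻¹ * (t * x * t⁻¹) = t * (x * x) * t⁻¹ by group]
    rcases D.sq hx with e | e <;> rw [e]
    · group
    · exact D.conj_fix ht
  rw [cm, mul_assoc, ← mul_assoc (t * x * t⁻¹) x⁻¹, ← hc.inv_left.eq, mul_assoc x⁻¹, hsq]
  group

/-- For `t ^ 4` central on `E`, `[x, t ^ 2, t]` squares to `1`. -/
theorem sq_cm_cm_eq_one {t x : G} (ht : t ∈ Subgroup.centralizer ({z} : Set G))
    (ht4 : t * t * (t * t) = 1) (hx : x ∈ E) :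
    cm t (cm (t * t) x) * cm t (cm (t * t) x) = 1 := by
  have hs := Subgroup.mul_mem _ ht ht
  have hy := D.cm_mem hs hx
  refine D.sq_cm_eq_one ht hy ?_
  set a := t * x * t⁻¹ with ha
  set b := t * t * x * (t * t)⁻¹ with hb
  set c := t * (t * t * x * (t * t)⁻¹) * t⁻¹ with hc
  have haE : a ∈ E := D.normal t ht x hx
  have hbE : b ∈ E := D.normal _ hs x hx
  have hcE : c ∈ E := D.normal t ht b hbE
  have e : t * cm (t * t) x * t⁻¹ = a⁻¹ * c := by rw [cm, ha, hc]; group
  have h4 : ∀ w, (t * t * (t * t)) * w * (t * t * (t * t))⁻¹ = w := fun w => by rw [ht4]; group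
  rw [e, D.om_cm hs hx (E.mul_mem (E.inv_mem haE) hcE), ← hb, D.om_mul_right (E.inv_mem haE) hcE hx,
    D.om_mul_right (E.inv_mem haE) hcE hbE, om_comm x a⁻¹, om_comm b a⁻¹, D.om_inv_left haE hx,
    D.om_inv_left haE hbE]
  have e1 : om a b = om x a := by
    rw [show b = t * a * t⁻¹ by rw [ha, hb]; group, ← om_conj t x a]
  have e2 : om b c = om x a := by
    rw [show c = t * t * a * (t * t)⁻¹ by rw [ha, hc]; group, ← om_conj (t * t) x a]
  have e3 : om x c = om x a := by
    rw [← om_conj t x c, show t * c * t⁻¹ = x by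
      (rw [hc]; conv_rhs => rw [← h4 x]); group, om_comm, ← ha]
  rw [e1, e2, e3, om_comm a x]
  linear_combination (2 * om x a) * z2

theorem cm_mul {t x y : G} : cm t (x * y) = y⁻¹ * cm t x * y * cm t y := by
  simp only [cm]; group

theorem om_cm_mul {t x y w : G} (ht : t ∈ Subgroup.centralizer ({z} : Set G)) (hx : x ∈ E)
    (hy : y ∈ E) (hw : w ∈ E) : om (cm t (x * y)) w = om (cm t x) w + om (cm t y) w := by
  rw [D.om_cm ht (E.mul_mem hx hy) hw, D.om_cm ht hx hw, D.om_cm ht hy hw, D.om_mul_left hx hy hw,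
    show t * (x * y) * t⁻¹ = (t * x * t⁻¹) * (t * y * t⁻¹) by group,
    D.om_mul_left (D.normal t ht x hx) (D.normal t ht y hy) hw]
  ring

/-- An involution of `C(z) ∖ E` centralizes no subgroup of index two of `E` containing `z`. -/
theorem not_index_two {u : G} (hu : u ∈ Subgroup.centralizer ({z} : Set G)) (huu : u * u = 1)
    (huE : u ∉ E) {f : G} (hf : f ∈ E) (hfu : ¬ f * u = u * f)
    (hall : ∀ w ∈ E, ¬ w * u = u * w → f⁻¹ * w * u = u * (f⁻¹ * w)) : False := by
  set F := E ⊓ Subgroup.centralizer ({u} : Set G) with hF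
  have hmF : ∀ {w}, w ∈ F ↔ w ∈ E ∧ w * u = u * w := fun {w} =>
    ⟨fun h => ⟨h.1, Subgroup.mem_centralizer_singleton_iff.1 h.2⟩,
      fun h => ⟨h.1, Subgroup.mem_centralizer_singleton_iff.2 h.2⟩⟩
  have hzF : z ∈ F := hmF.2 ⟨D.mem, (Subgroup.mem_centralizer_singleton_iff.1 hu).symm⟩
  have hcase : ∀ w ∈ E, w ∈ F ∨ ∃ p ∈ F, w = f * p := fun w hw => by
    by_cases h : w * u = u * w
    · exact Or.inl (hmF.2 ⟨hw, h⟩)
    · exact Or.inr ⟨f⁻¹ * w, hmF.2 ⟨E.mul_mem (E.inv_mem hf) hw, hall w hw h⟩, (mul_inv_cancel_left f w).symm⟩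
  have hcen : ∀ y ∈ E, (∀ p ∈ F, y * p = p * y) → y * f = f * y → y = 1 ∨ y = z := by
    intro y hy h1 h2
    refine D.central_eq_or hy fun w hw => ?_
    rcases hcase w hw with h | ⟨p, hp, rfl⟩
    · exact h1 w h
    · rw [← mul_assoc, h2, mul_assoc, h1 p hp, ← mul_assoc]
  set δ := cm u f with hδ
  have hδE : δ ∈ E := D.cm_mem hu hf
  have hufu : u * f * u⁻¹ = f * δ := by rw [hδ, cm, mul_inv_cancel_left]
  have hδF : ∀ p ∈ F, δ * p = p * δ := by
    intro p hp
    rw [← om_eq_zero, hδ, D.om_cm hu hf hp.1]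
    have : u * p * u⁻¹ = p := by rw [← (hmF.1 hp).2, mul_inv_cancel_right]
    nth_rw 2 [← this]
    rw [om_conj]
    exact two_zero _
  have huc : ∀ y, (∀ p ∈ F, y * p = p * y) → y * f = f * y → y ∈ Subgroup.centralizer (E : Set G) := by
    intro y h1 h2
    refine Subgroup.mem_centralizer_iff.2 fun w hw => ?_
    rcases hcase w hw with h | ⟨p, hp, rfl⟩
    · exact (h1 w h).symm
    · rw [mul_assoc, ← h1 p hp, ← mul_assoc, ← h2, mul_assoc]
  by_cases hδz : δ = 1 ∨ δ = z
  · rcases hδz with e | e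
    · refine hfu ?_
      rw [e, mul_one, mul_inv_eq_iff_eq_mul] at hufu
      exact hufu.symm
    · -- some `y` in `E` centralizing `F` acts on `f` as `u` does
      have hZF : (Subgroup.center E).map E.subtype ≤ F := fun w hw => by
        rcases D.centerImage_eq_or hw with e | e <;> rw [e]
        · exact F.one_mem
        · exact hzF
      have hc := ClassK.card_inf_centralizer_mul_card D.ext hZF inf_le_left
      have hFlt : Nat.card F < Nat.card E := by
        rcases lt_or_eq_of_le (Subgroup.card_le_of_le (inf_le_left : F ≤ E)) with h | h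
        · exact h
        · have hFE : F = E := Subgroup.eq_of_le_of_card_ge inf_le_left h.ge
          exact absurd (hmF.1 (by rw [hFE]; exact hf : f ∈ F)).2 hfu
      obtain ⟨y, hy, hy'⟩ : ∃ y ∈ E ⊓ Subgroup.centralizer (F : Set G), y * f ≠ f * y := by
        by_contra! hcon
        have hle : Nat.card ↥(E ⊓ Subgroup.centralizer (F : Set G)) ≤ 2 := by
          rw [← Fischer2.IsExtraspecial.card_centerImage D.ext]
          refine Subgroup.card_le_of_le fun y hy => ?_
          rcases hcen y hy.1 (fun p hp => (Subgroup.mem_centralizer_iff.1 hy.2 p hp).symm)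
            (hcon y hy) with e | e <;> rw [e]
          · exact Subgroup.one_mem _
          · exact D.zImage
        nlinarith [Nat.card_pos (α := F)]
      have hyE : y ∈ E := hy.1
      have hyF : ∀ p ∈ F, y * p = p * y := fun p hp =>
        (Subgroup.mem_centralizer_iff.1 hy.2 p hp).symm
      have h1 : (u * y) * f = f * (u * y) := by
        rw [e] at hufu
        calc (u * y) * f = u * (y * f) := mul_assoc _ _ _
          _ = u * (z * (f * y)) := by rw [D.swap hf hyE hy']
          _ = (u * z * u⁻¹) * (u * f * u⁻¹) * (u * y) := by group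
          _ = z * (f * z) * (u * y) := by rw [D.conj_fix hu, hufu]
          _ = f * (u * y) := by rw [D.comm hf, ← mul_assoc z z, D.zz, one_mul]
      refine huE ?_
      have := D.cent (huc (u * y) (fun p hp => by
        rw [mul_assoc, hyF p hp, ← mul_assoc, ← (hmF.1 hp).2, mul_assoc]) h1)
      simpa using E.mul_mem this (E.inv_mem hyE)
  · -- `δ` is the element of `E` centralizing `F`
    have hδf : δ * f ≠ f * δ := fun h => hδz (hcen δ hδE hδF h)
    have hsq : f * δ * (f * δ) = f * f := by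
      rw [← hufu, show u * f * u⁻¹ * (u * f * u⁻¹) = u * (f * f) * u⁻¹ by group]
      rcases D.sq hf with e | e <;> rw [e]
      · group
      · exact D.conj_fix hu
    have hδδ : δ * δ = z := by
      have h1 : f * δ * (f * δ) = f * f * (z * (δ * δ)) := by
        calc f * δ * (f * δ) = f * (δ * f) * δ := by group
          _ = (f * z) * (f * δ) * δ := by rw [D.swap hf hδE hδf]; group
          _ = (z * f) * (f * δ) * δ := by rw [D.comm hf]
          _ = z * (f * f) * (δ * δ) := by group
          _ = _ := by rw [← D.comm (E.mul_mem hf hf), mul_assoc]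
      rw [h1, mul_eq_left] at hsq
      rw [← one_mul (δ * δ), ← D.zz, mul_assoc, hsq, mul_one]
    have hud : u * δ * u⁻¹ = δ⁻¹ := by
      rw [hδ, cm, inv_eq_of_mul_eq_one_right huu]
      simp only [mul_inv_rev, inv_inv, inv_eq_of_mul_eq_one_right huu]
      calc u * (f⁻¹ * (u * f * u)) * u = u * f⁻¹ * u * f * (u * u) := by group
        _ = _ := by rw [huu, mul_one]; group
    by_cases hdF : δ * u = u * δ
    · rw [← hdF, mul_inv_cancel_right] at hud
      exact D.z_ne (by rw [← hδδ]; exact eq_inv_iff_mul_eq_one.1 hud)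
    · rcases hcase δ hδE with h | ⟨p, hp, e⟩
      · exact hdF (hmF.1 h).2
      · refine hδf ?_
        have hf' : f = δ * p⁻¹ := by rw [e, mul_inv_cancel_right]
        rw [hf', ← mul_assoc, mul_assoc δ p⁻¹ δ,
          ((show Commute δ p from hδF p hp).inv_right).symm.eq]
        group

end Data

end CfsgLib.SectRank.LargeExtra
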